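import Groth.Prelude.Def_HMNum
import Groth.Agent.Sga3C.SchemImage
import Mathlib.AlgebraicGeometry.Morphisms.SchemeTheoreticallyDominant
import Mathlib.AlgebraicGeometry.Morphisms.Separated
import Mathlib.AlgebraicGeometry.Morphisms.Flat
import Mathlib.RingTheory.Flat.Basic

/-!
# The multiplicative group is schematically dense in the affine line

Over `Spec k` (`k` a field) the open immersion `HMNum.incl : G_m ⟶ 𝔸¹` and its products with arbitrary
`k`-schemes are scheme-theoretically dominant; two morphisms from `P ⊗ (𝔸¹ ⊗ T)` to a separated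
scheme agreeing on `P ⊗ (G_m ⊗ T)` agree.
-/

set_option autoImplicit false

universe u

open CategoryTheory CategoryTheory.Limits MonoidalCategory CartesianMonoidalCategory MonObj
  AlgebraicGeometry Opposite TensorProduct

noncomputable section

namespace K691.Dense

/-- Two morphisms into something separated which agree after a scheme-theoretically dominant
morphism are equal. -/
theorem ext_of_dominant {W X Y Z : Scheme.{u}} {f g : X ⟶ Y} (s : Y ⟶ Z) [IsSeparated s]
    (h : f ≫ s = g ≫ s) (i : W ⟶ X) [IsSchemeTheoreticallyDominant i] (hi : i ≫ f = i ≫ g) :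
    f = g := by
  let X' : Over Z := Over.mk (f ≫ s)
  let Y' : Over Z := Over.mk s
  let U' : Over Z := Over.mk (i ≫ f ≫ s)
  let f' : X' ⟶ Y' := Over.homMk f
  let g' : X' ⟶ Y' := Over.homMk g
  let i' : U' ⟶ X' := Over.homMk i
  have : IsSeparated Y'.hom := ‹_›
  have hlift : i' ≫ f' = i' ≫ g' := by ext1; exact hi
  have hfac : (equalizer.lift i' hlift).left ≫ (equalizer.ι f' g').left = i := by
    rw [← Over.comp_left, equalizer.lift_ι]; rfl
  have hker : (equalizer.ι f' g').left.ker = ⊥ := by
    rw [eq_bot_iff, ← IsSchemeTheoreticallyDominant.ker_eq_bot i, ← hfac]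
    exact Scheme.Hom.le_ker_comp _ _
  have : IsIso (equalizer.ι f' g').left :=
    IsClosedImmersion.isIso_iff_ker_eq_bot.mpr hker
  rw [← cancel_epi (equalizer.ι f' g').left]
  exact congr($(equalizer.condition f' g').left)

/-- `Spec` of an injective ring map is scheme-theoretically dominant. -/
theorem dominant_of_injective {C D : Type u} [CommRing C] [CommRing D] (f : C →+* D)
    (hf : Function.Injective f) :
    IsSchemeTheoreticallyDominant (Spec.map (CommRingCat.ofHom f)) := by
  rw [isSchemeTheoreticallyDominant_iff]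
  refine Scheme.IdealSheafData.ext_of_isAffine ?_
  rw [Scheme.Hom.ker_apply]
  simp only [Scheme.IdealSheafData.ideal_bot, Pi.bot_apply]
  rw [← RingHom.injective_iff_ker_eq_bot]
  have : (Spec.map (CommRingCat.ofHom f)).appTop =
      (Scheme.ΓSpecIso _).hom ≫ CommRingCat.ofHom f ≫ (Scheme.ΓSpecIso _).inv := by
    rw [← Category.assoc, Iso.eq_comp_inv]
    exact Scheme.ΓSpecIso_naturality _
  change Function.Injective (Spec.map (CommRingCat.ofHom f)).appTop.hom
  rw [this]
  simp only [CommRingCat.hom_comp, RingHom.coe_comp]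
  refine Function.Injective.comp (Function.Injective.comp ?_ hf) ?_
  · exact (ConcreteCategory.bijective_of_isIso (Scheme.ΓSpecIso (CommRingCat.of D)).inv).1
  · exact (ConcreteCategory.bijective_of_isIso (Scheme.ΓSpecIso (CommRingCat.of C)).hom).1

section Alg

variable {M N : Type} [AddCommMonoid M] [AddCommMonoid N]

/-- The map of monoid algebras attached to an injective map of monoids has a linear retraction, so
it stays injective after any base change. -/
theorem mapDomain_tensor_injective (Z : Type u) [CommRing Z] (f : N →+ M)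
    (hf : Function.Injective f) (R : Type u) [CommRing R] [Algebra Z R] :
    Function.Injective (Algebra.TensorProduct.map
      ((MonoidAlgebra.mapDomainBialgHom Z (AddMonoidHom.toMultiplicative f)).toAlgHom)
      (AlgHom.id Z R)) := by
  have hf' : Function.Injective (AddMonoidHom.toMultiplicative f) := hf
  let r : MonoidAlgebra Z (Multiplicative M) →ₗ[Z] MonoidAlgebra Z (Multiplicative N) :=
    { toFun := MonoidAlgebra.comapDomain (AddMonoidHom.toMultiplicative f) hf'
      map_add' := MonoidAlgebra.comapDomain_add _ _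
      map_smul' := by
        intro c x
        ext m
        simp }
  let g : MonoidAlgebra Z (Multiplicative N) →ₗ[Z] MonoidAlgebra Z (Multiplicative M) :=
    (MonoidAlgebra.mapDomainBialgHom Z (AddMonoidHom.toMultiplicative f)).toAlgHom.toLinearMap
  have hrg : r ∘ₗ g = LinearMap.id := by
    ext m : 2
    change MonoidAlgebra.comapDomain (AddMonoidHom.toMultiplicative f) hf'
      (MonoidAlgebra.mapDomainBialgHom Z (AddMonoidHom.toMultiplicative f)
        (MonoidAlgebra.single m 1)) = MonoidAlgebra.single m 1
    rw [MonoidAlgebra.mapDomainBialgHom_single, MonoidAlgebra.comapDomain_single_map]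
  have h2 : Function.Injective (g.rTensor R) := by
    have : Function.LeftInverse (r.rTensor R) (g.rTensor R) := by
      intro x
      rw [← LinearMap.comp_apply, ← LinearMap.rTensor_comp, hrg, LinearMap.rTensor_id]
      rfl
    exact this.injective
  have h3 : (Algebra.TensorProduct.map
      ((MonoidAlgebra.mapDomainBialgHom Z (AddMonoidHom.toMultiplicative f)).toAlgHom)
      (AlgHom.id Z R)).toLinearMap = g.rTensor R := by
    ext; simp [g]
  intro x y hxy
  apply h2
  rw [← h3]
  exact hxy

theorem dominant_of_pullback_maps {Z A B R : Type u} [CommRing Z] [CommRing A] [CommRing B]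
    [CommRing R] [Algebra Z A] [Algebra Z B] [Algebra Z R] (φ : A →ₐ[Z] B)
    (hφ : Function.Injective (Algebra.TensorProduct.map φ (AlgHom.id Z R)))
    (ρ : pullback (Spec.map (CommRingCat.ofHom (algebraMap Z B)))
        (Spec.map (CommRingCat.ofHom (algebraMap Z R))) ⟶
      pullback (Spec.map (CommRingCat.ofHom (algebraMap Z A)))
        (Spec.map (CommRingCat.ofHom (algebraMap Z R))))
    (h1 : ρ ≫ pullback.fst _ _ = pullback.fst _ _ ≫ Spec.map (CommRingCat.ofHom φ.toRingHom))
    (h2 : ρ ≫ pullback.snd _ _ = pullback.snd _ _) :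
    IsSchemeTheoreticallyDominant ρ := by
  let ψ : A ⊗[Z] R →+* B ⊗[Z] R := (Algebra.TensorProduct.map φ (AlgHom.id Z R)).toRingHom
  have hdom := dominant_of_injective ψ hφ
  have key : ρ = (pullbackSpecIso Z B R).hom ≫ Spec.map (CommRingCat.ofHom ψ) ≫
        (pullbackSpecIso Z A R).inv := by
    rw [← Iso.inv_comp_eq]
    apply pullback.hom_ext
    · rw [Category.assoc, Category.assoc, h1, pullbackSpecIso_inv_fst, pullbackSpecIso_inv_fst_assoc,
        ← Spec.map_comp, ← Spec.map_comp]
      congr 1
    · rw [Category.assoc, Category.assoc, h2, pullbackSpecIso_inv_snd, pullbackSpecIso_inv_snd,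
        ← Spec.map_comp]
      congr 1
      ext x
      simp [ψ]
  rw [key]
  infer_instance

theorem map_dominant_aux (Z R : Type u) [CommRing Z] [CommRing R] [Algebra Z R] (f : N →+ M)
    (hf : Function.Injective f) (t : Spec (CommRingCat.of R) ⟶ Spec (CommRingCat.of Z))
    (ht : t = Spec.map (CommRingCat.ofHom (algebraMap Z R))) :
    IsSchemeTheoreticallyDominant ((Over.pullback t).map (Magnet.AMon.map Z f)).left := by
  subst ht
  refine dominant_of_pullback_maps (R := R)
    ((MonoidAlgebra.mapDomainBialgHom Z (AddMonoidHom.toMultiplicative f)).toAlgHom)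
    (mapDomain_tensor_injective Z f hf R) _ ?_ ?_
  · dsimp only [Over.pullback]
    exact pullback.lift_fst _ _ _
  · dsimp only [Over.pullback]
    exact pullback.lift_snd _ _ _

end Alg

/-- `G_m ⟶ 𝔸¹` over an affine base is scheme-theoretically dominant. -/
instance incl_dominant (R : Type u) [CommRing R] :
     IsSchemeTheoreticallyDominant (HMNum.incl (Spec (CommRingCat.of R))).left :=
  letI : Algebra (ULift.{u} ℤ) R :=
    ((Int.castRingHom R).comp (ULift.ringEquiv : ULift.{u} ℤ ≃+* ℤ).toRingHom).toAlgebra
  map_dominant_aux (ULift.{u} ℤ) R HMNum.plus.subtype Subtype.val_injective _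
    (specULiftZIsTerminal.hom_ext _ _)

/-- The structure morphism of a scheme over a field is flat. -/
theorem flat_hom (k : Type u) [Field k] (T : Over (Spec (CommRingCat.of k))) : Flat T.hom := by
  infer_instance

section Field

variable {k : Type u} [Field k]

instance isAffineHom_AMonS (S : Scheme.{u}) (M : Type) [AddCommMonoid M] :
    IsAffineHom (Magnet.AMonS S M).hom := by
  have h : IsAffineHom (Magnet.AMon (ULift.{u} ℤ) M).hom :=
    inferInstanceAs (IsAffineHom (Spec.map (CommRingCat.ofHom
      (algebraMap (ULift.{u} ℤ) (MonoidAlgebra (ULift.{u} ℤ) (Multiplicative M))))))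
  exact MorphismProperty.pullback_snd (P := @IsAffineHom) _ _ h

instance isAffineHom_map (S : Scheme.{u}) {M N : Type} [AddCommMonoid M] [AddCommMonoid N]
    (f : N →+ M) : IsAffineHom (Magnet.AMonS.map S f).left := by
  have h3 : IsAffineHom ((Magnet.AMonS.map S f).left ≫ (Magnet.AMonS S N).hom) := by
    rw [Over.w]; infer_instance
  exact MorphismProperty.of_postcomp (W := @IsAffineHom) (W' := @IsSeparated) _
    (Magnet.AMonS S N).hom inferInstance h3

/-- The inclusion of `G_m` in `𝔸¹`, times anything on both sides, is schematically dominant. -/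
theorem dominant_incl (P T : Over (Spec (CommRingCat.of k))) :
    IsSchemeTheoreticallyDominant (P ◁ (HMNum.incl (Spec (CommRingCat.of k)) ▷ T)).left := by
  have : Flat T.hom := flat_hom k T
  have : Flat P.hom := flat_hom k P
  have h1 := Groth.Agent.Sga3C.SchemImage.dominant_whiskerRight
    (HMNum.incl (Spec (CommRingCat.of k))) T
  have h2 := Groth.Agent.Sga3C.SchemImage.quasiCompact_whiskerRight
    (HMNum.incl (Spec (CommRingCat.of k))) T
  exact Groth.Agent.Sga3C.SchemImage.dominant_whiskerLeft _ P

theorem dominant_incl' (T : Over (Spec (CommRingCat.of k))) :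
    IsSchemeTheoreticallyDominant (HMNum.incl (Spec (CommRingCat.of k)) ▷ T).left := by
  have : Flat T.hom := flat_hom k T
  exact Groth.Agent.Sga3C.SchemImage.dominant_whiskerRight
    (HMNum.incl (Spec (CommRingCat.of k))) T

/-- Two morphisms `P ⊗ (𝔸¹ ⊗ T) ⟶ X`, `X` separated, agreeing on `P ⊗ (G_m ⊗ T)` are equal. -/
theorem hom_ext₂ {P T X : Over (Spec (CommRingCat.of k))} [IsSeparated X.hom]
    {f g : P ⊗ (HMNum.A1 (Spec (CommRingCat.of k)) ⊗ T) ⟶ X}
    (h : (P ◁ (HMNum.incl (Spec (CommRingCat.of k)) ▷ T)) ≫ f =
      (P ◁ (HMNum.incl (Spec (CommRingCat.of k)) ▷ T)) ≫ g) : f = g := by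
  have := dominant_incl P T
  ext1
  exact ext_of_dominant X.hom (by rw [Over.w, Over.w])
    (P ◁ (HMNum.incl (Spec (CommRingCat.of k)) ▷ T)).left (congrArg (fun q => q.left) h)

theorem hom_ext₁ {T X : Over (Spec (CommRingCat.of k))} [IsSeparated X.hom]
    {f g : HMNum.A1 (Spec (CommRingCat.of k)) ⊗ T ⟶ X}
    (h : (HMNum.incl (Spec (CommRingCat.of k)) ▷ T) ≫ f =
      (HMNum.incl (Spec (CommRingCat.of k)) ▷ T) ≫ g) : f = g := by
  have := dominant_incl' T
  ext1
  exact ext_of_dominant X.hom (by rw [Over.w, Over.w])
    (HMNum.incl (Spec (CommRingCat.of k)) ▷ T).left (congrArg (fun q => q.left) h)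

end Field

end K691.Dense

end
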