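import Groth.Prelude.Def_GLin
import Groth.Agent.Books.ComodInv
import Mathlib.RingTheory.MvPolynomial.Homogeneous
import Mathlib.RingTheory.Polynomial.Basic

/-!
# Linear coactions on polynomial rings preserve the grading

For a linear coaction (`GLin.IsLinear`) the homogeneous polynomials of each degree form a
subcomodule and the homogeneous components of an invariant are invariant.
-/

set_option autoImplicit false

universe u v w

open TensorProduct HopfRep MvPolynomial

namespace K691.HomogInv

open Groth.Agent.Books.ComodBasic Groth.Agent.Books.ComodHom Groth.Agent.Books.ComodInv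

variable {k : Type u} [Field k] {A : Type v} [CommRing A] [Bialgebra k A] {ι : Type w}

/-- The submodule `S_d ⊗ A` of `S ⊗ A`. -/
noncomputable def T (k : Type u) [Field k] (A : Type v) [CommRing A] [Bialgebra k A] (ι : Type w)
    (d : ℕ) : Submodule k (MvPolynomial ι k ⊗[k] A) :=
  LinearMap.range ((homogeneousSubmodule ι k d).subtype.rTensor A)

lemma T_mul {d e : ℕ} {x y : MvPolynomial ι k ⊗[k] A} (hx : x ∈ T k A ι d)
    (hy : y ∈ T k A ι e) : x * y ∈ T k A ι (d + e) := by
  obtain ⟨x, rfl⟩ := hx
  obtain ⟨y, rfl⟩ := hy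
  induction x with
  | zero => simp
  | tmul f a =>
    induction y with
    | zero => simp
    | tmul g b =>
      refine ⟨(⟨f.1 * g.1, ?_⟩ : homogeneousSubmodule ι k (d + e)) ⊗ₜ (a * b), ?_⟩
      · exact (f.2 : IsHomogeneous _ _).mul (g.2 : IsHomogeneous _ _)
      · simp
    | add y z hy hz =>
      rw [map_add, mul_add]
      exact Submodule.add_mem _ hy hz
  | add x z hx hz =>
    rw [map_add, add_mul]
    exact Submodule.add_mem _ hx hz

lemma T_one : (1 : MvPolynomial ι k ⊗[k] A) ∈ T k A ι 0 :=
  ⟨(⟨1, isHomogeneous_one _ _⟩ : homogeneousSubmodule ι k 0) ⊗ₜ 1, rfl⟩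

variable [Fintype ι] [HopfRep.Comod k A (MvPolynomial ι k)]
  [GLin.IsCoactAlg k A (MvPolynomial ι k)]

lemma coact_X_mem_T (hlin : GLin.IsLinear k A ι) (i : ι) :
    Comod.coact (k := k) (A := A) (X i : MvPolynomial ι k) ∈ T k A ι 1 := by
  obtain ⟨m, hm⟩ := hlin i
  rw [hm]
  refine Submodule.sum_mem _ fun j _ => ?_
  exact ⟨(⟨X j, isHomogeneous_X k j⟩ : homogeneousSubmodule ι k 1) ⊗ₜ m j, by simp⟩

lemma coact_monomial_mem_T (hlin : GLin.IsLinear k A ι) (m : ι →₀ ℕ) :
    Comod.coact (k := k) (A := A) (monomial m (1 : k)) ∈ T k A ι m.degree := by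
  classical
  have hmul := GLin.IsCoactAlg.coact_mul (k := k) (A := A) (R := MvPolynomial ι k)
  have hone := GLin.IsCoactAlg.coact_one (k := k) (A := A) (R := MvPolynomial ι k)
  induction m using Finsupp.induction_linear with
  | zero =>
    rw [map_zero]
    change Comod.coact (k := k) (A := A) (1 : MvPolynomial ι k) ∈ _
    rw [hone]
    exact T_one
  | add a b ha hb =>
    have h : monomial (a + b) (1 : k) = monomial a 1 * monomial b 1 := by
      rw [monomial_mul, one_mul]
    rw [h, hmul, map_add]
    exact T_mul ha hb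
  | single i m =>
    rw [← X_pow_eq_monomial, Finsupp.degree_single]
    induction m with
    | zero =>
      rw [pow_zero, hone]
      exact T_one
    | succ m ih =>
      rw [pow_succ, hmul]
      exact T_mul ih (coact_X_mem_T hlin i)

lemma coact_mem_T (hlin : GLin.IsLinear k A ι) {d : ℕ} {f : MvPolynomial ι k}
    (hf : f.IsHomogeneous d) : Comod.coact (k := k) (A := A) f ∈ T k A ι d := by
  rw [f.as_sum, map_sum]
  refine Submodule.sum_mem _ fun m hm => ?_
  have h : monomial m (coeff m f) = coeff m f • monomial m (1 : k) := by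
    rw [smul_monomial, smul_eq_mul, mul_one]
  rw [h, map_smul]
  refine Submodule.smul_mem _ _ ?_
  have hd : m.degree = d := hf.degree_eq_sum_deg_support hm |>.symm
  rw [← hd]
  exact coact_monomial_mem_T hlin m

lemma isSubcomod_homogeneousSubmodule (hlin : GLin.IsLinear k A ι) (d : ℕ) :
    IsSubcomod (k := k) (A := A) (homogeneousSubmodule ι k d) := fun _ hf =>
  coact_mem_T hlin hf

/-- The dual action commutes with homogeneous components. -/
lemma homogeneousComponent_dact (hlin : GLin.IsLinear k A ι) (d : ℕ) (φ : A →ₗ[k] k)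
    (f : MvPolynomial ι k) :
    homogeneousComponent d (dact (MvPolynomial ι k) φ f) =
      dact (MvPolynomial ι k) φ (homogeneousComponent d f) := by
  have hsub := isSubcomod_homogeneousSubmodule (A := A) hlin
  conv_lhs => rw [← sum_homogeneousComponent f, map_sum, map_sum]
  have h1 : ∀ i, homogeneousComponent d (dact (MvPolynomial ι k) φ
      (homogeneousComponent i f)) = if i = d then
        dact (MvPolynomial ι k) φ (homogeneousComponent i f) else 0 := by
    intro i
    have := (isSubcomod_iff_dact _).1 (hsub i) φ _ (homogeneousComponent_mem i f)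
    rw [homogeneousComponent_of_mem this]
    simp [eq_comm]
  simp_rw [h1]
  rw [Finset.sum_ite_eq']
  split_ifs with h
  · rfl
  · rw [homogeneousComponent_eq_zero, map_zero]
    simpa using h

/-- Homogeneous components of fixed polynomials are fixed. -/
lemma homogeneousComponent_mem_fixedPts (hlin : GLin.IsLinear k A ι) (d : ℕ)
    {f : MvPolynomial ι k} (hf : f ∈ fixedPts k A (MvPolynomial ι k)) :
    homogeneousComponent d f ∈ fixedPts k A (MvPolynomial ι k) := by
  rw [mem_fixedPts_iff_dact] at *
  intro φ
  rw [← homogeneousComponent_dact hlin, hf φ, map_smul]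

/-- Homogeneous components of invariants are invariant. -/
lemma homogeneousComponent_mem_invariants (hlin : GLin.IsLinear k A ι) (d : ℕ)
    {f : MvPolynomial ι k} (hf : f ∈ GLin.invariants k A (MvPolynomial ι k)) :
    homogeneousComponent d f ∈ GLin.invariants k A (MvPolynomial ι k) :=
  homogeneousComponent_mem_fixedPts hlin d hf

/-- The origin is a fixed point of a linear action. -/
lemma orbitHom_origin (hlin : GLin.IsLinear k A ι) :
    GLin.orbitHom k A (GLin.vecPt k ι (fun _ => (0 : k))) =
      (Algebra.ofId k A).comp (GLin.vecPt k ι (fun _ => (0 : k))) := by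
  apply MvPolynomial.algHom_ext
  intro i
  obtain ⟨m, hm⟩ := hlin i
  simp only [GLin.orbitHom, AlgHom.comp_apply, GLin.coactAlgHom_apply, hm]
  simp

end K691.HomogInv
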