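import Groth.Agent.GIT.K691.Limit

/-!
# Evaluation of fibre coordinates at points, and translation of fibre weights
-/

set_option autoImplicit false

universe u

open CategoryTheory CategoryTheory.Limits MonoidalCategory CartesianMonoidalCategory MonObj
  AlgebraicGeometry Opposite

noncomputable section

namespace K691.FibreWt

open HMNum Limit

section Ev

/-- The value of a section at a point with values in a scheme. -/
def ev {T Y : Scheme.{u}} (p : T ⟶ Y) {W : Y.Opens} (h : ⊤ ≤ p ⁻¹ᵁ W) (s : Γ(Y, W)) : Γ(T, ⊤) :=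
  p.appLE W ⊤ h s

variable {T T' Y Z : Scheme.{u}}

theorem ev_congr {p p' : T ⟶ Y} (e : p = p') {W : Y.Opens} (h : ⊤ ≤ p ⁻¹ᵁ W)
    (h' : ⊤ ≤ p' ⁻¹ᵁ W) (s : Γ(Y, W)) : ev p h s = ev p' h' s := by
  subst e; rfl

theorem ev_comp (q : T' ⟶ T) (p : T ⟶ Y) {W : Y.Opens} (h : ⊤ ≤ p ⁻¹ᵁ W)
    (h' : ⊤ ≤ (q ≫ p) ⁻¹ᵁ W) (s : Γ(Y, W)) : ev (q ≫ p) h' s = q.appTop (ev p h s) := by
  have := Scheme.Hom.appLE_comp_appLE q p W ⊤ ⊤ h le_rfl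
  have h2 := congrArg (fun r => (ConcreteCategory.hom r) s) this
  simp only [CommRingCat.comp_apply] at h2
  rw [ev, ← h2, ev]
  have h3 : q.appLE ⊤ ⊤ le_rfl = q.appTop := by
    rw [Scheme.Hom.appTop, Scheme.Hom.app_eq_appLE]; rfl
  rw [h3]

theorem ev_appLE (p : T ⟶ Y) (f : Y ⟶ Z) {U : Z.Opens} {W : Y.Opens} (e : W ≤ f ⁻¹ᵁ U)
    (h : ⊤ ≤ p ⁻¹ᵁ W) (h' : ⊤ ≤ (p ≫ f) ⁻¹ᵁ U) (s : Γ(Z, U)) :
    ev p h (f.appLE U W e s) = ev (p ≫ f) h' s := by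
  have := Scheme.Hom.appLE_comp_appLE p f U W ⊤ e h
  exact congrArg (fun r => (ConcreteCategory.hom r) s) this

theorem ev_map (p : T ⟶ Y) {W W' : Y.Opens} (e : W' ≤ W) (h : ⊤ ≤ p ⁻¹ᵁ W')
    (h' : ⊤ ≤ p ⁻¹ᵁ W) (s : Γ(Y, W)) :
    ev p h (Y.presheaf.map (homOfLE e).op s) = ev p h' s := by
  have := Scheme.Hom.map_appLE p h (homOfLE e).op
  exact congrArg (fun r => (ConcreteCategory.hom r) s) this

theorem ev_app (p : T ⟶ Y) (f : Y ⟶ Z) {U : Z.Opens} (h : ⊤ ≤ p ⁻¹ᵁ (f ⁻¹ᵁ U))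
    (h' : ⊤ ≤ (p ≫ f) ⁻¹ᵁ U) (s : Γ(Z, U)) :
    ev p h (f.app U s) = ev (p ≫ f) h' s := by
  rw [Scheme.Hom.app_eq_appLE]
  exact ev_appLE p f le_rfl h h' s

theorem ev_mul (p : T ⟶ Y) {W : Y.Opens} (h : ⊤ ≤ p ⁻¹ᵁ W) (s t : Γ(Y, W)) :
    ev p h (s * t) = ev p h s * ev p h t := map_mul _ _ _

theorem ev_pow (p : T ⟶ Y) {W : Y.Opens} (h : ⊤ ≤ p ⁻¹ᵁ W) (s : Γ(Y, W)) (n : ℕ) :
    ev p h (s ^ n) = ev p h s ^ n := map_pow _ _ _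

theorem ev_top (p : T ⟶ Y) (h : ⊤ ≤ p ⁻¹ᵁ ⊤) (s : Γ(Y, ⊤)) : ev p h s = p.appTop s := by
  rw [ev, Scheme.Hom.appTop, Scheme.Hom.app_eq_appLE]; rfl

end Ev

section LinBun

variable {S : Scheme.{u}} {G X : Over S} [GrpObj G] {a : AlgGrp.Action G X}
  (B : GLinSh.LinBun G a)

theorem evalFn_eq_ev {V : Over S} (π : V ⟶ X) {U : X.left.Opens} (y : Γ(V.left, π.left ⁻¹ᵁ U))
    {T' : Over S} (v : T' ⟶ V) (h : ⊤ ≤ v.left ⁻¹ᵁ (π.left ⁻¹ᵁ U)) :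
    evalFn π y v h = ev v.left h y := rfl

theorem evalFn_congr {V : Over S} (π : V ⟶ X) {U : X.left.Opens} (y : Γ(V.left, π.left ⁻¹ᵁ U))
    {T' : Over S} {v v' : T' ⟶ V} (e : v = v') (h : ⊤ ≤ v.left ⁻¹ᵁ (π.left ⁻¹ᵁ U))
    (h' : ⊤ ≤ v'.left ⁻¹ᵁ (π.left ⁻¹ᵁ U)) : evalFn π y v h = evalFn π y v' h' := by
  subst e; rfl

theorem evalFn_comp {V : Over S} (π : V ⟶ X) {U : X.left.Opens} (y : Γ(V.left, π.left ⁻¹ᵁ U))
    {T' T'' : Over S} (t : T'' ⟶ T') (v : T' ⟶ V) (h : ⊤ ≤ v.left ⁻¹ᵁ (π.left ⁻¹ᵁ U))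
    (h' : ⊤ ≤ (t ≫ v).left ⁻¹ᵁ (π.left ⁻¹ᵁ U)) :
    evalFn π y (t ≫ v) h' = t.left.appTop (evalFn π y v h) :=
  ev_comp t.left v.left h h' y

theorem act_comp_π {T' : Over S} (g : T' ⟶ G) (v : T' ⟶ B.V) :
    (lift g v ≫ B.lift.act) ≫ B.π = lift g (v ≫ B.π) ≫ a.act := by
  rw [Category.assoc, B.lift_π, ← Category.assoc, lift_whiskerLeft]

/-- The coefficient comparing the coordinate `y'` of `g · v` with the coordinate `y` of `v`. -/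
theorem exists_coef {U U' : X.left.Opens} {y : Γ(B.V.left, B.π.left ⁻¹ᵁ U)}
    {y' : Γ(B.V.left, B.π.left ⁻¹ᵁ U')} (hy : y ∈ B.atlas.chart U) (hy' : y' ∈ B.atlas.chart U') :
    ∃ c : Γ((G ⊗ X).left, a.act.left ⁻¹ᵁ U' ⊓ (snd G X).left ⁻¹ᵁ U),
      ∀ {T' : Over S} (g : T' ⟶ G) (v : T' ⟶ B.V) (hv : ⊤ ≤ v.left ⁻¹ᵁ (B.π.left ⁻¹ᵁ U))
        (hgv : ⊤ ≤ (lift g v ≫ B.lift.act).left ⁻¹ᵁ (B.π.left ⁻¹ᵁ U'))
        (hc : ⊤ ≤ (lift g (v ≫ B.π)).left ⁻¹ᵁ (a.act.left ⁻¹ᵁ U' ⊓ (snd G X).left ⁻¹ᵁ U)),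
        evalFn B.π y' (lift g v ≫ B.lift.act) hgv =
          ev (lift g (v ≫ B.π)).left hc c * evalFn B.π y v hv := by
  obtain ⟨c, hc⟩ := B.lift_linear U U' y y' hy hy'
  refine ⟨c, fun {T'} g v hv hgv hcc => ?_⟩
  have e1 : lift g v ≫ (G ◁ B.π) = lift g (v ≫ B.π) := lift_whiskerLeft _ _ _
  have hO : ⊤ ≤ (lift g v).left ⁻¹ᵁ GLinSh.liftOpen a B.π U U' := by
    have h1 : (lift g v).left ⁻¹ᵁ GLinSh.liftOpen a B.π U U' =
      (lift g v ≫ (G ◁ B.π)).left ⁻¹ᵁ (a.act.left ⁻¹ᵁ U' ⊓ (snd G X).left ⁻¹ᵁ U) := rfl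
    rw [h1, e1]
    exact hcc
  have h2 := congrArg (ev (lift g v).left hO) hc
  rw [ev_mul, ev_appLE _ _ _ _ (by exact hgv), ev_appLE _ _ _ _ (by
      have : (lift g v).left ≫ (G ◁ B.π).left = (lift g (v ≫ B.π)).left := by
        rw [← Over.comp_left, e1]
      rw [this]; exact hcc), ev_appLE _ _ _ _ (by
      have : (lift g v).left ≫ (snd G B.V).left = v.left := by
        rw [← Over.comp_left, lift_snd]
      rw [this]; exact hv)] at h2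
  rw [evalFn_eq_ev, evalFn_eq_ev]
  refine h2.trans ?_
  congr 1
  · apply ev_congr
    rw [← Over.comp_left, e1]
  · apply ev_congr
    rw [← Over.comp_left, lift_snd]

theorem isFixedBy_translate {l : Red.Gm S ⟶ G} {y : 𝟙_ (Over S) ⟶ X} (h : 𝟙_ (Over S) ⟶ G)
    (hy : IsFixedBy a l y) : IsFixedBy a (conj h l) (lift h y ≫ a.act) := by
  intro T' t g
  have e1 : t ≫ lift h y ≫ a.act = lift (toUnit T' ≫ h) (toUnit T' ≫ y) ≫ a.act := by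
    rw [← Category.assoc, comp_lift, toUnit_unique t (toUnit T')]
  rw [e1, comp_conj, lift_mul_act, lift_mul_act]
  rw [← lift_mul_act (g := (toUnit T' ≫ h)⁻¹), inv_mul_cancel, lift_one_act, hy]

/-- Translation of the weight on the fibre: if `G_m` acts through `l` on the fibre over `y` with
exponent `w`, it acts through `h l h⁻¹` on the fibre over `h · y` with the same exponent. -/
theorem hasFibreWeight_translate {l : Red.Gm S ⟶ G} {y : 𝟙_ (Over S) ⟶ X} {w : ℤ}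
    (h : 𝟙_ (Over S) ⟶ G)
    (hU' : ∃ (U' : X.left.Opens) (y' : Γ(B.V.left, B.π.left ⁻¹ᵁ U')), y' ∈ B.atlas.chart U' ∧
      (lift h y ≫ a.act).left ⁻¹ᵁ U' = ⊤)
    (hw : HasFibreWeight B l y w) : HasFibreWeight B (conj h l) (lift h y ≫ a.act) w := by
  obtain ⟨hfix, U, yc, hyc, hU, hval⟩ := hw
  obtain ⟨U', yc', hyc', hU'⟩ := hU'
  refine ⟨isFixedBy_translate h hfix, U', yc', hyc', hU', ?_⟩
  intro T' t g v' hv' hgv'
  obtain ⟨c, hc⟩ := exists_coef B hyc hyc'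
  have et : t = toUnit T' := toUnit_unique _ _
  subst et
  -- the point over `y`
  let v : T' ⟶ B.V := lift (toUnit T' ≫ h)⁻¹ v' ≫ B.lift.act
  have ey' : toUnit T' ≫ lift h y ≫ a.act = lift (toUnit T' ≫ h) (toUnit T' ≫ y) ≫ a.act := by
    rw [← Category.assoc, comp_lift]
  have hvv' : lift (toUnit T' ≫ h) v ≫ B.lift.act = v' := by
    rw [← lift_mul_act, mul_inv_cancel, lift_one_act]
  have hv : v ≫ B.π = toUnit T' ≫ y := by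
    rw [act_comp_π, hv', ey', ← lift_mul_act, inv_mul_cancel, lift_one_act]
  -- its translate
  have hgvv : (lift (g ≫ l) v ≫ B.lift.act) ≫ B.π = toUnit T' ≫ y := by
    rw [act_comp_π, hv, hfix T' (toUnit T') g]
  have hgv2 : lift (toUnit T' ≫ h) (lift (g ≫ l) v ≫ B.lift.act) ≫ B.lift.act =
      lift (g ≫ conj h l) v' ≫ B.lift.act := by
    rw [comp_conj, lift_mul_act, lift_mul_act]
  have hO : ∀ (q : T' ⟶ B.V), q ≫ B.π = toUnit T' ≫ y →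
      ⊤ ≤ (lift (toUnit T' ≫ h) (q ≫ B.π)).left ⁻¹ᵁ
        (a.act.left ⁻¹ᵁ U' ⊓ (snd G X).left ⁻¹ᵁ U) := by
    intro q hq
    have e1 : (lift (toUnit T' ≫ h) (q ≫ B.π)).left ⁻¹ᵁ
        (a.act.left ⁻¹ᵁ U' ⊓ (snd G X).left ⁻¹ᵁ U) =
        (lift (toUnit T' ≫ h) (q ≫ B.π) ≫ a.act).left ⁻¹ᵁ U' ⊓
          (lift (toUnit T' ≫ h) (q ≫ B.π) ≫ snd G X).left ⁻¹ᵁ U := rfl
    rw [e1, lift_snd, hq, ← ey']
    have e2 : (toUnit T' ≫ lift h y ≫ a.act).left ⁻¹ᵁ U' =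
      (toUnit T').left ⁻¹ᵁ ((lift h y ≫ a.act).left ⁻¹ᵁ U') := rfl
    have e3 : (toUnit T' ≫ y).left ⁻¹ᵁ U = (toUnit T').left ⁻¹ᵁ (y.left ⁻¹ᵁ U) := rfl
    rw [e2, e3, hU', hU]
    exact le_inf le_rfl le_rfl
  have k1 := hc (toUnit T' ≫ h) v (top_le_preimage B.π hU hv)
    (by rw [hvv']; exact top_le_preimage B.π hU' hv') (hO v hv)
  have k2 := hc (toUnit T' ≫ h) (lift (g ≫ l) v ≫ B.lift.act) (top_le_preimage B.π hU hgvv)
    (by rw [hgv2]; exact top_le_preimage B.π hU' hgv') (hO _ hgvv)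
  have k3 := hval T' (toUnit T') g v hv hgvv
  rw [evalFn_congr B.π yc' hgv2 _ (top_le_preimage B.π hU' hgv'), k3] at k2
  rw [evalFn_congr B.π yc' hvv' _ (top_le_preimage B.π hU' hv')] at k1
  rw [k1, k2, ev_congr (p := (lift (toUnit T' ≫ h) ((lift (g ≫ l) v ≫ B.lift.act) ≫ B.π)).left)
    (p' := (lift (toUnit T' ≫ h) (v ≫ B.π)).left) (by rw [hgvv, hv]) _ (hO v hv)]
  ring

end LinBun

section Field

variable {k : Type u} [Field k] {G X : Over (Spec (CommRingCat.of k))} [GrpObj G]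
  {a : AlgGrp.Action G X} (B : GLinSh.LinBun G a)

local notation "𝕊" => Spec (CommRingCat.of k)

/-- A `k`-point lands in the domain of some admissible coordinate. -/
theorem exists_chart_pt (y : 𝟙_ (Over 𝕊) ⟶ X) :
    ∃ (U : X.left.Opens) (yc : Γ(B.V.left, B.π.left ⁻¹ᵁ U)), yc ∈ B.atlas.chart U ∧
      y.left ⁻¹ᵁ U = ⊤ := by
  have hs : Subsingleton ↥(𝟙_ (Over 𝕊)).left :=
    inferInstanceAs (Subsingleton (PrimeSpectrum k))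
  let s : ↥(𝟙_ (Over 𝕊)).left := (⊥ : PrimeSpectrum k)
  obtain ⟨U, hU, yc, hyc⟩ := B.atlas.cover (y.left s)
  refine ⟨U, yc, hyc, ?_⟩
  rw [eq_top_iff]
  intro s' _
  rw [Subsingleton.elim s' s]
  exact hU

theorem hasFibreWeight_translate_iff {l : Red.Gm 𝕊 ⟶ G} {y : 𝟙_ (Over 𝕊) ⟶ X} {w : ℤ}
    (h : 𝟙_ (Over 𝕊) ⟶ G) (hw : HasFibreWeight B l y w) :
    HasFibreWeight B (conj h l) (lift h y ≫ a.act) w :=
  hasFibreWeight_translate B h (exists_chart_pt B _) hw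

/-- Translation of limits. -/
theorem isLimitPt_translate {l l' : Red.Gm 𝕊 ⟶ G} [IsMonHom l] [IsMonHom l']
    {T : Over 𝕊} {x y : T ⟶ X} (h : 𝟙_ (Over 𝕊) ⟶ G) (hl' : l' = conj h l)
    (hxy : IsLimitPt a l x y) :
    IsLimitPt a l' (lift (toUnit T ≫ h) x ≫ a.act) (lift (toUnit T ≫ h) y ≫ a.act) := by
  obtain ⟨φ, hx, hy⟩ := hxy
  have hh : ∀ {T' : Over 𝕊} (p : T' ⟶ A1 𝕊 ⊗ T), p ≫ lift (toUnit _ ≫ h) (und φ) ≫ a.act =
      lift (toUnit T' ≫ h) (p ≫ und φ) ≫ a.act := by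
    intro T' p
    rw [← Category.assoc, comp_lift, ← Category.assoc, toUnit_unique (p ≫ toUnit _) (toUnit T')]
  refine ⟨mkAttr (lift (toUnit _ ≫ h) (und φ) ≫ a.act) (fun T' g b t => ?_), ?_, ?_⟩
  · rw [hh, hh, attr_equivariant, hl', comp_conj, lift_mul_act, lift_mul_act]
    rw [← lift_mul_act (g := (toUnit T' ≫ h)⁻¹), inv_mul_cancel, lift_one_act]
  · rw [attrToX_eq, und_mkAttr, hh, ← attrToX_eq, hx]
  · rw [limitPt_eq]
    change lift _ _ ≫ lift (toUnit _ ≫ h) (und φ) ≫ a.act = _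
    rw [hh, ← hy, limitPt_eq]

end Field

end K691.FibreWt

end
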