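import Groth.Agent.GIT.K691.Fps
import Mathlib.LinearAlgebra.LinearIndependent.Lemmas
import Mathlib.FieldTheory.Fixed

/-!
# Laurent polynomials in the coordinate with coefficients twisted by characters

* `coeff_eq`: comparison of coefficients of `∑ c_n b ^ n = b ^ N D`;
* `le_of_regular`: if `∑ P_m t(m) b ^ h(m) ∈ b ^ N k⟦b⟧` for all characters `t` then `N ≤ h m` whenever
  `P_m ≠ 0`;
* `exists_eq_of_unit`: if moreover `∑ P_m b ^ h(m) = b ^ N D` with `D(0) ≠ 0` some `h m` is `N`.
-/

set_option autoImplicit false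

universe u v

noncomputable section

namespace K691.Fps

open PowerSeries

variable {k : Type u} [Field k]

/-- Comparison of coefficients. -/
theorem coeff_eq {ι : Type*} (s : Finset ι) (c : ι → k) (h : ι → ℤ) (N : ℤ) (D : PowerSeries k)
    (he : ∑ i ∈ s, algebraMap k (L k) (c i) * bL k ^ h i = bL k ^ N * algebraMap _ (L k) D)
    (n : ℤ) : ∑ i ∈ s with h i = n, c i = if n < N then 0 else coeff (n - N).toNat D := by
  classical
  obtain ⟨K, hK⟩ : ∃ K : ℕ, (∀ i ∈ s, 0 ≤ h i + K) ∧ 0 ≤ N + K ∧ 0 ≤ n + K := by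
    have h1 : ∀ i ∈ s, (h i).natAbs ≤ ∑ i ∈ s, (h i).natAbs := fun i hi =>
      Finset.single_le_sum (f := fun i => (h i).natAbs) (fun i _ => Nat.zero_le _) hi
    generalize ∑ i ∈ s, (h i).natAbs = Z at h1
    refine ⟨Z + N.natAbs + n.natAbs, fun i hi => ?_, ?_, ?_⟩
    · have := h1 i hi
      omega
    · omega
    · omega
  obtain ⟨hK1, hK2, hK3⟩ := hK
  have hb := bL_ne_zero k
  have e1 : ∑ i ∈ s, PowerSeries.C (c i) * X ^ (h i + K).toNat = X ^ (N + K).toNat * D := by
    apply IsFractionRing.injective (PowerSeries k) (L k)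
    have e2 := congrArg (fun z => bL k ^ (K : ℤ) * z) he
    rw [Finset.mul_sum] at e2
    rw [map_sum, map_mul, map_pow]
    change _ = bL k ^ (N + K).toNat * _
    rw [← zpow_natCast, Int.toNat_of_nonneg hK2, zpow_add₀ hb]
    have e3 : bL k ^ N * bL k ^ (K : ℤ) * algebraMap (PowerSeries k) (L k) D =
      bL k ^ (K : ℤ) * (bL k ^ N * algebraMap (PowerSeries k) (L k) D) := by ring
    rw [e3, ← e2]
    refine Finset.sum_congr rfl fun i hi => ?_
    rw [map_mul, map_pow]
    change _ * bL k ^ (h i + K).toNat = _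
    rw [← zpow_natCast, Int.toNat_of_nonneg (hK1 i hi), zpow_add₀ hb,
      IsScalarTower.algebraMap_apply k (PowerSeries k) (L k)]
    change algebraMap _ _ (PowerSeries.C (c i)) * _ = _ * (algebraMap _ _ (PowerSeries.C (c i)) * _)
    ring
  have e4 := congrArg (coeff (n + K).toNat) e1
  rw [map_sum, coeff_X_pow_mul'] at e4
  have e5 : ∀ i ∈ s, coeff (n + K).toNat (PowerSeries.C (c i) * X ^ (h i + K).toNat) =
      if h i = n then c i else 0 := by
    intro i hi
    rw [coeff_C_mul, coeff_X_pow]
    have h3 := hK1 i hi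
    by_cases h4 : h i = n
    · rw [if_pos h4, if_pos (by rw [h4]), mul_one]
    · rw [if_neg h4, if_neg (by omega), mul_zero]
  rw [Finset.sum_congr rfl e5] at e4
  rw [Finset.sum_filter, e4]
  by_cases h6 : n < N
  · rw [if_pos h6, if_neg (by omega)]
  · rw [if_neg h6, if_pos (by omega)]
    congr 2
    omega

variable {M : Type v} [AddCommGroup M]

/-- Characters of `M` with values in `k` separate the points of `M`. -/
def Sep (k : Type u) [Field k] (M : Type v) [AddCommGroup M] : Prop :=
  ∀ m m' : M, m ≠ m' → ∃ t : Multiplicative M →* k,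
    t (Multiplicative.ofAdd m) ≠ t (Multiplicative.ofAdd m')

/-- Independence of the evaluations at different elements of `M`. -/
theorem eq_zero_of_char (hsep : Sep k M) (s : Finset M) (c : M → k)
    (h : ∀ t : Multiplicative M →* k, ∑ m ∈ s, c m * t (Multiplicative.ofAdd m) = 0) :
    ∀ m ∈ s, c m = 0 := by
  classical
  let ev : M → ((Multiplicative M →* k) →* k) := fun m =>
    { toFun := fun t => t (Multiplicative.ofAdd m)
      map_one' := rfl
      map_mul' := fun _ _ => rfl }
  have hev : Function.Injective ev := by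
    intro m m' hmm
    by_contra hne
    obtain ⟨t, ht⟩ := hsep m m' hne
    exact ht (congrArg (fun φ => φ t) hmm)
  have hli := (linearIndependent_monoidHom (Multiplicative M →* k) k).comp ev hev
  have := linearIndependent_iff'.1 hli s c (by
    ext t
    rw [Finset.sum_apply]
    simpa [ev] using h t)
  exact this

theorem le_of_regular (hsep : Sep k M) (s : Finset M) (c : M → k) (h : M → ℤ) (N : ℤ)
    (hreg : ∀ t : Multiplicative M →* k, (∀ m, t m ≠ 0) → ∃ D : PowerSeries k,
      ∑ m ∈ s, algebraMap k (L k) (c m * t (Multiplicative.ofAdd m)) * bL k ^ h m =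
        bL k ^ N * algebraMap _ (L k) D) :
    ∀ m ∈ s, c m ≠ 0 → N ≤ h m := by
  classical
  intro m hm hcm
  by_contra hlt
  rw [not_le] at hlt
  apply hcm
  have key := eq_zero_of_char hsep ({i ∈ s | h i = h m}) c (fun t => by
    have ht0 : ∀ m, t m ≠ 0 := by
      intro m hm
      have h1 : t (m * m⁻¹) = 0 := by rw [map_mul, hm, zero_mul]
      rw [mul_inv_cancel, map_one] at h1
      exact one_ne_zero h1
    obtain ⟨D, hD⟩ := hreg t ht0
    have := coeff_eq s (fun m => c m * t (Multiplicative.ofAdd m)) h N D hD (h m)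
    rw [if_pos hlt] at this
    exact this)
  exact key m (Finset.mem_filter.2 ⟨hm, rfl⟩)

omit [AddCommGroup M] in
theorem exists_eq_of_unit (s : Finset M) (c : M → k) (h : M → ℤ) (N : ℤ) (D : PowerSeries k)
    (he : ∑ m ∈ s, algebraMap k (L k) (c m) * bL k ^ h m = bL k ^ N * algebraMap _ (L k) D)
    (hD : constantCoeff D ≠ 0) : ∃ m ∈ s, c m ≠ 0 ∧ h m = N := by
  classical
  by_contra hcon
  push Not at hcon
  have := coeff_eq s c h N D he N
  rw [if_neg (lt_irrefl _), sub_self] at this
  apply hD
  rw [← coeff_zero_eq_constantCoeff_apply]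
  change coeff (Int.toNat 0) D = 0
  rw [← this]
  refine Finset.sum_eq_zero fun m hm => ?_
  rw [Finset.mem_filter] at hm
  by_contra hcm
  exact hcon m hm.1 hcm hm.2

/-- For an infinite field the characters of `ℤ ^ r` separate points. -/
theorem sep_pi [Infinite k] (r : ℕ) : Sep k (Fin r → ℤ) := by
  intro m m' hne
  obtain ⟨i, hi⟩ := Function.ne_iff.1 hne
  obtain ⟨s, hs⟩ : ∃ s : kˣ, (s : k) ^ m i ≠ (s : k) ^ m' i := by
    by_contra hcon
    push Not at hcon
    exact hi (eq_of_zpow_eq hcon)
  refine ⟨{ toFun := fun x => (((s ^ (Multiplicative.toAdd x i) : kˣ)) : k)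
            map_one' := by simp
            map_mul' := fun x y => by
              rw [toAdd_mul, Pi.add_apply, zpow_add, Units.val_mul] }, ?_⟩
  simpa using hs

end K691.Fps

end
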