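import Groth.Agent.Magnet.K951.Prod
import Groth.Agent.GIT.K691.FibreWt
import Groth.Agent.GIT.K691.FpsChar

/-!
# Points of the affine line and of the multiplicative group with values in `k⟦b⟧` and its field of
fractions
-/

set_option autoImplicit false

universe u

open CategoryTheory CategoryTheory.Limits MonoidalCategory CartesianMonoidalCategory MonObj
  AlgebraicGeometry Opposite

noncomputable section

namespace K691.Arc

open HMNum K951.Pts K951.Prd

section Gm

variable {S : Scheme.{u}}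

theorem chi_gm_one {W : Over S} (g : W ⟶ Red.Gm S) :
    chi (M := ℤ) g (Multiplicative.ofAdd 1) = Red.gmFn g := by
  rw [← GmPts.ringHomOfPt_tPow_one]
  rfl

theorem chi_gm {W : Over S} (g : W ⟶ Red.Gm S) (n : ℤ) :
    chi (M := ℤ) g (Multiplicative.ofAdd n) =
      ((GmPts.unitOfPt g ^ n : (Γ(W.left, ⊤))ˣ) : Γ(W.left, ⊤)) := by
  have h1 : (MonoidHom.toHomUnits (chi (M := ℤ) g)) (Multiplicative.ofAdd n) =
      GmPts.unitOfPt g ^ n := by
    have h2 : Multiplicative.ofAdd n = (Multiplicative.ofAdd (1 : ℤ)) ^ n := by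
      rw [← ofAdd_zsmul, smul_eq_mul, _root_.mul_one]
    rw [h2, map_zpow]
    congr 1
  rw [← h1]
  rfl

/-- The point of the affine line with a given coordinate. -/
def a1 {W : Over S} (c : Fn W) : W ⟶ A1 S :=
  ofChi { toFun := fun n => c ^ (((Multiplicative.toAdd n : ↥plus) : ℤ)).toNat
          map_one' := by simp
          map_mul' := fun m n => by
            have hm := (mem_plus_iff _).1 (Multiplicative.toAdd m).2
            have hn := (mem_plus_iff _).1 (Multiplicative.toAdd n).2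
            rw [toAdd_mul, AddSubmonoid.coe_add, Int.toNat_add hm hn, pow_add] }

theorem chi_a1 {W : Over S} (c : Fn W) (n : ↥plus) :
    chi (a1 c) (Multiplicative.ofAdd n) = c ^ (n : ℤ).toNat := by
  rw [a1, chi_ofChi]
  rfl

theorem a1_ext {W : Over S} {f g : W ⟶ A1 S}
    (h : ∀ n : ↥plus, chi f (Multiplicative.ofAdd n) = chi g (Multiplicative.ofAdd n)) : f = g :=
  chi_injective (MonoidHom.ext fun n => h n)

theorem incl_eq {W : Over S} (g : W ⟶ Red.Gm S) : g ≫ incl S = a1 (Red.gmFn g) := by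
  apply a1_ext
  intro n
  rw [chi_a1, chi_map_apply]
  have hn := (mem_plus_iff _).1 n.2
  change chi (M := ℤ) g (Multiplicative.ofAdd (n : ℤ)) = _
  rw [chi_gm]
  conv_lhs => rw [← Int.toNat_of_nonneg hn]
  rw [zpow_natCast, Units.val_pow_eq_pow_val, GmPts.val_unitOfPt]

theorem comp_a1 {W W' : Over S} (v : W' ⟶ W) (c : Fn W) : v ≫ a1 c = a1 (pb v c) := by
  apply a1_ext
  intro n
  rw [chi_comp, chi_a1, chi_a1, map_pow]

theorem a1_mul {W : Over S} (c d : Fn W) : a1 c * a1 d = a1 (c * d) := by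
  apply a1_ext
  intro n
  rw [chi_mul, MonoidHom.mul_apply, chi_a1, chi_a1, chi_a1, mul_pow]

theorem origin_eq (W : Over S) : toUnit W ≫ origin S = a1 0 := by
  classical
  apply a1_ext
  intro n
  rw [origin, ← Category.assoc, chi_faceMap, chi_a1]
  have hn := (mem_plus_iff _).1 n.2
  by_cases h0 : (n : ℤ) = 0
  · have h2 : (n : ℤ).toNat = 0 := by omega
    rw [dif_pos (AddSubmonoid.mem_bot.2 h0), h2, pow_zero]
    have h1 : toUnit W ≫ η[Magnet.AMonS S ↥(⊥ : AddSubmonoid ℤ)] = 1 := by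
      rw [Hom.one_def]
    rw [h1, chi_one]
    rfl
  · rw [dif_neg (fun h => h0 (AddSubmonoid.mem_bot.1 h)), zero_pow (by omega)]

end Gm

section Fld

variable (k : Type u) [Field k]

local notation "𝕊" => Spec (CommRingCat.of k)

variable {k}

/-- The elements of `B` as functions on `Spec B`. -/
def γ (B : Type u) [CommRing B] [Algebra k B] : B ≃+* Fn (CoactBr.sp k B) :=
  (Scheme.ΓSpecIso (CommRingCat.of B)).symm.commRingCatIsoToRingEquiv

theorem pb_pt_γ {B C : Type u} [CommRing B] [CommRing C] [Algebra k B] [Algebra k C]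
    (ψ : B →ₐ[k] C) (b : B) : pb (CoactBr.pt ψ) (γ (k := k) B b) = γ (k := k) C (ψ b) := by
  have := Scheme.ΓSpecIso_inv_naturality (CommRingCat.ofHom ψ.toRingHom)
  exact (congrArg (fun r => (ConcreteCategory.hom r) b) this).symm

theorem pb_pt_γ_symm {B C : Type u} [CommRing B] [CommRing C] [Algebra k B] [Algebra k C]
    (ψ : B →ₐ[k] C) (s : Fn (CoactBr.sp k B)) :
    (γ (k := k) C).symm (pb (CoactBr.pt ψ) s) = ψ ((γ (k := k) B).symm s) := by
  obtain ⟨b, rfl⟩ := (γ (k := k) B).surjective s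
  rw [pb_pt_γ, RingEquiv.symm_apply_apply, RingEquiv.symm_apply_apply]

/-- The identification of `Spec k` with the final object. -/
def tk : CoactBr.sp k k ⟶ 𝟙_ (Over 𝕊) := toUnit _

/-- The constant point of the multiplicative group. -/
def cst {W : Over 𝕊} (s : kˣ) : W ⟶ Red.Gm 𝕊 :=
  GmPts.ptOfUnit (Units.map (fnS W.hom : k →* _) s)

theorem gmFn_cst {W : Over 𝕊} (s : kˣ) : Red.gmFn (cst s : W ⟶ Red.Gm 𝕊) = fnS W.hom s :=
  GmPts.gmFn_ptOfUnit _

theorem comp_cst {W W' : Over 𝕊} (v : W' ⟶ W) (s : kˣ) :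
    v ≫ (cst s : W ⟶ Red.Gm 𝕊) = cst s := by
  apply GmPts.gmFn_injective
  simp only
  rw [GmPts.gmFn_comp, gmFn_cst, gmFn_cst]
  have h : v.left ≫ W.hom = W'.hom := Over.w v
  exact (fnS_comp_apply v.left W.hom (s : k)).symm.trans (by rw [h])

/-- The functions on the base on `Spec B`. -/
theorem fnS_sp (B : Type u) [CommRing B] [Algebra k B] (c : k) :
    fnS (CoactBr.sp k B).hom c = γ (k := k) B (algebraMap k B c) := by
  have := pb_pt_γ (k := k) (Algebra.ofId k B) c
  rw [Algebra.ofId_apply] at this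
  rw [← this]
  rfl

end Fld

end K691.Arc

end
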