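import Groth.Agent.GIT.K691.Arc
import Mathlib.RingTheory.Spectrum.Prime.Topology

/-!
# The formal arc of a limit under a one-parameter subgroup
-/

set_option autoImplicit false

universe u

open CategoryTheory CategoryTheory.Limits MonoidalCategory CartesianMonoidalCategory MonObj
  AlgebraicGeometry Opposite

noncomputable section

namespace K691.Arc

open HMNum K951.Pts K951.Prd Fps K691.Limit K691.FibreWt

variable {k : Type u} [Field k]

local notation "𝕊" => Spec (CommRingCat.of k)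

variable (k) in
/-- The formal arc at the origin of the affine line. -/
def bO : CoactBr.sp k (PowerSeries k) ⟶ A1 𝕊 := a1 (γ (k := k) (PowerSeries k) PowerSeries.X)

variable (k) in
/-- The generic point of the formal arc. -/
def bG : CoactBr.sp k (L k) ⟶ Red.Gm 𝕊 :=
  GmPts.ptOfUnit (Units.map (γ (k := k) (L k) : L k →* _) (bu k))

theorem gmFn_bG : Red.gmFn (bG k) = γ (k := k) (L k) (bL k) := GmPts.gmFn_ptOfUnit _

theorem unitOfPt_bG : GmPts.unitOfPt (bG k) = Units.map (γ (k := k) (L k) : L k →* _) (bu k) :=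
  GmPts.unitOfPt_ptOfUnit _

variable (k) in
/-- The inclusion of the generic point. -/
def genι : CoactBr.sp k (L k) ⟶ CoactBr.sp k (PowerSeries k) :=
  CoactBr.pt (IsScalarTower.toAlgHom k (PowerSeries k) (L k))

variable (k) in
/-- The constant coefficient as an algebra map. -/
def cc : PowerSeries k →ₐ[k] k :=
  { PowerSeries.constantCoeff (R := k) with
    commutes' := fun c => by
      change PowerSeries.constantCoeff (algebraMap k (PowerSeries k) c) = c
      rw [PowerSeries.algebraMap_apply, Algebra.algebraMap_self_apply,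
        PowerSeries.constantCoeff_C] }

theorem cc_apply (f : PowerSeries k) : cc k f = PowerSeries.constantCoeff f := rfl

variable (k) in
/-- The closed point. -/
def cls : CoactBr.sp k k ⟶ CoactBr.sp k (PowerSeries k) := CoactBr.pt (cc k)

theorem genι_bO : genι k ≫ bO k = bG k ≫ incl 𝕊 := by
  rw [bO, comp_a1, incl_eq, gmFn_bG, genι, pb_pt_γ]
  rfl

theorem cls_bO : cls k ≫ bO k = toUnit _ ≫ origin 𝕊 := by
  rw [bO, comp_a1, origin_eq, cls, pb_pt_γ, cc_apply, PowerSeries.constantCoeff_X, map_zero]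

/-- The scaling of the arc. -/
def rO (s : kˣ) : CoactBr.sp k (PowerSeries k) ⟶ CoactBr.sp k (PowerSeries k) :=
  CoactBr.pt (scO s)

/-- The scaling of the generic point of the arc. -/
def rL (s : kˣ) : CoactBr.sp k (L k) ⟶ CoactBr.sp k (L k) := CoactBr.pt (scL s)

theorem rO_bO (s : kˣ) : rO s ≫ bO k = (cst s ≫ incl 𝕊) * bO k := by
  rw [bO, comp_a1, incl_eq, a1_mul, rO, pb_pt_γ, gmFn_cst, fnS_sp, ← map_mul, scO_X,
    Algebra.smul_def]

theorem rL_bG (s : kˣ) : rL s ≫ bG k = cst s * bG k := by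
  apply GmPts.gmFn_injective
  simp only
  rw [GmPts.gmFn_comp, GmPts.gmFn_mul, gmFn_bG, gmFn_cst, fnS_sp, ← map_mul,
    ← Algebra.smul_def, ← scL_bL]
  exact pb_pt_γ _ _

theorem rL_genι (s : kˣ) : rL s ≫ genι k = genι k ≫ rO s := by
  rw [rL, genι, rO, ← CoactBr.pt_comp, ← CoactBr.pt_comp]
  congr 1
  ext f
  exact scL_algebraMap s f

/-- A point with values in power series lands in an open subset if its closed point does. -/
theorem land {X : Over 𝕊} (p : CoactBr.sp k (PowerSeries k) ⟶ X) {U : X.left.Opens}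
    (h : (cls k ≫ p).left ⁻¹ᵁ U = ⊤) : p.left ⁻¹ᵁ U = ⊤ := by
  refine (IsLocalRing.closedPoint_mem_iff (R := PowerSeries k) (p.left ⁻¹ᵁ U)).1 ?_
  let s : PrimeSpectrum k := ⊥
  have h1 : s ∈ (cls k ≫ p).left ⁻¹ᵁ U := by rw [h]; trivial
  have h2 : PrimeSpectrum.comap (cc k).toRingHom s = IsLocalRing.closedPoint (PowerSeries k) := by
    apply PrimeSpectrum.ext
    apply IsLocalRing.eq_maximalIdeal
    have hb : (s.asIdeal).IsMaximal := Ideal.bot_isMaximal
    exact Ideal.comap_isMaximal_of_surjective (cc k).toRingHom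
      (fun c => ⟨PowerSeries.C c, PowerSeries.constantCoeff_C c⟩)
  rw [← h2]
  exact h1

variable {G X : Over (Spec (CommRingCat.of k))} [GrpObj G]

/-- An equivariant extension to the affine line of the orbit map of `x`, with value `y` at the
origin. -/
structure IsArc (a : AlgGrp.Action G X) (l : Red.Gm 𝕊 ⟶ G) (x y : 𝟙_ (Over 𝕊) ⟶ X)
    (F : A1 𝕊 ⟶ X) : Prop where
  eqv : ∀ {W : Over 𝕊} (g : W ⟶ Red.Gm 𝕊) (b : W ⟶ A1 𝕊),
    ((g ≫ incl 𝕊) * b) ≫ F = lift (g ≫ l) (b ≫ F) ≫ a.act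
  orb : ∀ {W : Over 𝕊} (g : W ⟶ Red.Gm 𝕊),
    (g ≫ incl 𝕊) ≫ F = lift (g ≫ l) (toUnit W ≫ x) ≫ a.act
  lim : origin 𝕊 ≫ F = y

theorem exists_isArc {a : AlgGrp.Action G X} {l : Red.Gm 𝕊 ⟶ G} [IsMonHom l]
    {x y : 𝟙_ (Over 𝕊) ⟶ X} (h : IsLimitPt a l x y) : ∃ F : A1 𝕊 ⟶ X, IsArc a l x y F := by
  obtain ⟨φ, hx, hy⟩ := h
  have e1 : ∀ {W : Over 𝕊} (b : W ⟶ A1 𝕊), b ≫ lift (𝟙 _) (toUnit _) = lift b (toUnit W) := by
    intro W b
    rw [comp_lift, Category.comp_id, toUnit_unique (b ≫ toUnit _) (toUnit W)]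
  refine ⟨lift (𝟙 _) (toUnit _) ≫ und φ, ⟨fun g b => ?_, fun g => ?_, ?_⟩⟩
  · rw [← Category.assoc, e1, ← Category.assoc, e1, attr_equivariant]
  · rw [← Category.assoc, e1, ← hx, comp_attrToX, ← attr_equivariant, _root_.mul_one]
  · rw [← Category.assoc, e1, ← hy, limitPt_eq]
    congr 2

end K691.Arc

end
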