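import Groth.Agent.GIT.K691.MuKey

/-!
# Multiplicative functions on diagonalizable groups over a field are characters
-/

set_option autoImplicit false

universe u

open CategoryTheory CategoryTheory.Limits MonoidalCategory CartesianMonoidalCategory MonObj
  AlgebraicGeometry Opposite

noncomputable section

namespace K691.CharGm

open HMNum K951.Pts K951.Prd K691.Limit K691.Arc K691.MuKey Magnet

variable {k : Type u} [Field k] {M : Type} [AddCommMonoid M]

local notation "𝕊" => Spec (CommRingCat.of k)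

theorem exists_coeffs (F : Fn (AMonS (Spec (CommRingCat.of k)) M)) :
    ∃ P : MonoidAlgebra (Fn (𝟙_ (Over 𝕊))) (Multiplicative M),
      ∀ {W : Over 𝕊} (g : W ⟶ AMonS 𝕊 M),
        pb g F = P.coeff.sum fun m b => pb (toUnit W) b * chi g m := by
  have hA : IsAffine (𝟙_ (Over 𝕊)).left := inferInstanceAs (IsAffine (Spec (CommRingCat.of k)))
  obtain ⟨P, hP⟩ := (gam_bijective M (𝟙_ (Over 𝕊))).2 (pb (fst (AMonS 𝕊 M) (𝟙_ (Over 𝕊))) F)
  refine ⟨P, fun {W} g => ?_⟩
  have h1 : pb g F = pb (lift g (toUnit W)) (pb (fst (AMonS 𝕊 M) (𝟙_ (Over 𝕊))) F) := by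
    rw [← pb_comp_apply, lift_fst]
  rw [h1, ← hP, pb_lift_gam_apply, evl_apply]

/-- A nonzero multiplicative function on a diagonalizable monoid scheme over a field is a
character. -/
theorem exists_char (F : Fn (AMonS (Spec (CommRingCat.of k)) M)) (hF : F ≠ 0)
    (hmul : ∀ {W : Over 𝕊} (g h : W ⟶ AMonS 𝕊 M), pb (g * h) F = pb g F * pb h F) :
    ∃ m : M, ∀ {W : Over 𝕊} (g : W ⟶ AMonS 𝕊 M), pb g F = chi g (Multiplicative.ofAdd m) := by
  have hA : IsAffine (𝟙_ (Over 𝕊)).left := inferInstanceAs (IsAffine (Spec (CommRingCat.of k)))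
  obtain ⟨P, hP⟩ := exists_coeffs F
  let Y : Over 𝕊 := AMonS 𝕊 M ⊗ 𝟙_ (Over 𝕊)
  have hY : IsAffine Y.left := isAffine_prod M _
  let g : AMonS 𝕊 M ⊗ Y ⟶ AMonS 𝕊 M := fst _ _
  let h' : Y ⟶ AMonS 𝕊 M := fst _ _
  let h : AMonS 𝕊 M ⊗ Y ⟶ AMonS 𝕊 M := snd _ _ ≫ h'
  have h1 := hmul g h
  rw [hP (g * h), hP g, Finsupp.sum, Finsupp.sum, Finset.sum_mul] at h1
  have h2 : gam Y M (∑ m ∈ P.coeff.support,
        MonoidAlgebra.single m (pb (toUnit Y) (P.coeff m) * chi h' m)) =
      gam Y M (∑ m ∈ P.coeff.support,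
        MonoidAlgebra.single m (pb (toUnit Y) (P.coeff m) * pb h' F)) := by
    rw [map_sum, map_sum]
    refine Eq.trans (Eq.trans (Finset.sum_congr rfl fun m _ => ?_) h1)
      (Finset.sum_congr rfl fun m _ => ?_)
    · rw [gam_single, map_mul, pb_chi, ← pb_comp_apply, chi_mul,
        toUnit_unique (snd _ _ ≫ toUnit Y) (toUnit _)]
      change _ = _ * (chi g m * chi h m)
      ring
    · rw [gam_single, map_mul, ← pb_comp_apply, ← pb_comp_apply,
        toUnit_unique (snd _ _ ≫ toUnit Y) (toUnit _)]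
      change _ = _ * pb h F * chi g m
      ring
  have h3 := (gam_bijective M Y).1 h2
  have hP0 : P.coeff.support.Nonempty := by
    rw [Finset.nonempty_iff_ne_empty]
    intro he
    apply hF
    have h4 := hP (𝟙 (AMonS 𝕊 M))
    rw [Finsupp.sum, he, Finset.sum_empty, pb_id, RingHom.id_apply] at h4
    exact h4
  obtain ⟨m, hm⟩ := hP0
  have h4 := congrArg (fun p => p.coeff m) h3
  simp only [MonoidAlgebra.coeff_sum, Finsupp.finsetSum_apply, MonoidAlgebra.coeff_single] at h4
  rw [Finset.sum_eq_single_of_mem _ hm, Finset.sum_eq_single_of_mem _ hm, Finsupp.single_eq_same,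
    Finsupp.single_eq_same] at h4
  · have hu : IsUnit (pb (toUnit Y) (P.coeff m)) :=
      ((κ_isUnit_iff (k := k) _).2 (Finsupp.mem_support_iff.1 hm)).map _
    have h5 := hu.mul_left_cancel h4
    refine ⟨Multiplicative.toAdd m, fun {W} g => ?_⟩
    have h6 : g = lift g (toUnit W) ≫ h' := by rw [lift_fst]
    rw [h6, pb_comp_apply, ← h5, pb_chi]
    rfl
  · intro b _ hb
    exact Finsupp.single_eq_of_ne hb.symm
  · intro b _ hb
    exact Finsupp.single_eq_of_ne hb.symm

/-- Homomorphisms between diagonalizable groups over a field are given by maps of characters. -/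
theorem exists_char_hom {N : Type} [AddCommMonoid N] (f : AMonS 𝕊 M ⟶ AMonS 𝕊 N) [IsMonHom f]
    (n : N) : ∃ m : M, ∀ {W : Over 𝕊} (g : W ⟶ AMonS 𝕊 M),
      chi (g ≫ f) (Multiplicative.ofAdd n) = chi g (Multiplicative.ofAdd m) := by
  have h1 : ∀ {W : Over 𝕊} (g : W ⟶ AMonS 𝕊 M),
      pb g (chi f (Multiplicative.ofAdd n)) = chi (g ≫ f) (Multiplicative.ofAdd n) := by
    intro W g
    rw [pb_chi]
  obtain ⟨m, hm⟩ := exists_char (chi f (Multiplicative.ofAdd n)) (by
      intro h0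
      have h2 := h1 (1 : 𝟙_ (Over 𝕊) ⟶ AMonS 𝕊 M)
      rw [h0, map_zero, MonObj.one_comp, chi_one, MonoidHom.one_apply] at h2
      exact (κ_isUnit_iff (k := k) _).1 isUnit_one h2.symm) (fun g h => by
      rw [h1, h1, h1, MonObj.mul_comp, chi_mul, MonoidHom.mul_apply])
  exact ⟨m, fun g => by rw [← h1, hm g]⟩

/-- Distinct powers of the coordinate of the multiplicative group are distinct. -/
theorem eq_of_chi_gm {m n : ℤ} (h : ∀ {W : Over 𝕊} (g : W ⟶ Red.Gm 𝕊),
    chi (M := ℤ) g (Multiplicative.ofAdd m) = chi (M := ℤ) g (Multiplicative.ofAdd n)) : m = n := by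
  have h1 := h (bG k)
  rw [chi_gm, chi_gm, unitOfPt_bG, ← map_zpow, ← map_zpow] at h1
  have h2 : Fps.bL k ^ m = Fps.bL k ^ n := by
    have h3 := (γ (k := k) (Fps.L k)).injective (show γ (k := k) (Fps.L k)
      ((Fps.bu k ^ m : (Fps.L k)ˣ) : Fps.L k) = γ (k := k) (Fps.L k)
      ((Fps.bu k ^ n : (Fps.L k)ˣ) : Fps.L k) from h1)
    rwa [Units.val_zpow_eq_zpow_val, Units.val_zpow_eq_zpow_val, Fps.val_bu] at h3
  -- powers of the uniformiser are distinct
  by_contra hne
  wlog hlt : n < m generalizing m n with H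
  · exact H (fun g => (h g).symm) (by rw [h1]) h2.symm (Ne.symm hne)
      (lt_of_le_of_ne (not_lt.1 hlt) hne)
  obtain ⟨e, he⟩ := Int.eq_ofNat_of_zero_le (sub_nonneg.2 hlt.le)
  have hb := Fps.bL_ne_zero k
  have h3 : Fps.bL k ^ e = 1 := by
    rw [show m = n + e by omega, zpow_add₀ hb, zpow_natCast] at h2
    exact mul_left_cancel₀ (zpow_ne_zero n hb) (by rw [h2, _root_.mul_one])
  have h4 : (PowerSeries.X : PowerSeries k) ^ e = 1 := by
    apply IsFractionRing.injective (PowerSeries k) (Fps.L k)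
    rw [map_pow, map_one]
    exact h3
  have h5 := congrArg PowerSeries.constantCoeff h4
  rw [map_pow, PowerSeries.constantCoeff_X, map_one, zero_pow (by omega)] at h5
  exact one_ne_zero h5.symm

/-- The pairing of a character with a one-parameter subgroup of a diagonalizable group. -/
theorem exists_pairing {N : Type} [AddCommMonoid N] (l : Red.Gm 𝕊 ⟶ AMonS 𝕊 N) [IsMonHom l] :
    ∃ h : N → ℤ, ∀ {W : Over 𝕊} (g : W ⟶ Red.Gm 𝕊) (n : N),
      chi (g ≫ l) (Multiplicative.ofAdd n) = chi (M := ℤ) g (Multiplicative.ofAdd (h n)) := by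
  choose h hh using fun n : N => exists_char_hom (M := ℤ) l n
  exact ⟨h, fun g n => hh n g⟩

end K691.CharGm

end
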