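import Groth.Agent.GIT.K691.StablePt
import Groth.Agent.GIT.K687.Lim

/-!
# Every orbit closure contains a closed orbit

* `exists_closedOrb`: for a connected group (`A` a domain) every orbit closure contains a closed orbit.
* `isStable_ker`: the ideal of an orbit closure is stable.
* `closedOrb_of_mem`: the points of a closed orbit have closed orbits.
-/

set_option autoImplicit false

universe u v w

open TensorProduct HopfRep

namespace K691.ClosedEx

open GLin K701.Basic K701.Orbit K701.Orbit2 K701.Orbit3 K701.Dim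

section

variable {k : Type u} [Field k] {A : Type v} [CommRing A] [HopfAlgebra k A] {R : Type w} [CommRing R] [Algebra k R]
  [Comod k A R] [IsCoactAlg k A R]

/-- A stable ideal is stable in the sense of `K687`. -/
theorem isStable_of_isSubcomod {I : Ideal R} (hI : IsSubcomod (k := k) (A := A) (I.restrictScalars k)) :
    K687.IsStable (k := k) A I := by
  intro f hf
  obtain ⟨t, ht⟩ := hI f hf
  rw [← ht]
  clear ht
  induction t with
  | zero => rw [map_zero]; exact Ideal.zero_mem _
  | add t t' h h' =>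
    rw [map_add]
    exact Ideal.add_mem _ h h'
  | tmul a b =>
    have h1 : ((I.restrictScalars k).subtype.rTensor A) (a ⊗ₜ[k] b) =
        (Algebra.TensorProduct.includeLeft : R →ₐ[k] R ⊗[k] A) (a : R) * ((1 : R) ⊗ₜ[k] b) := by
      rw [LinearMap.rTensor_tmul, Algebra.TensorProduct.includeLeft_apply, Algebra.TensorProduct.tmul_mul_tmul,
        _root_.mul_one, _root_.one_mul]
      rfl
    rw [h1]
    exact Ideal.mul_mem_right _ _ (Ideal.mem_map_of_mem _ a.2)

/-- The ideal of an orbit closure is stable. -/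
theorem isStable_ker (x : R →ₐ[k] k) : K687.IsStable (k := k) A (RingHom.ker (orbitHom k A x)) :=
  isStable_of_isSubcomod (isSubcomod_ker_orbitHom x)

end

section

variable {k : Type u} [Field k] [IsAlgClosed k] {A : Type v} [CommRing A] [HopfAlgebra k A] [Algebra.FiniteType k A]
  [IsDomain A] {R : Type w} [CommRing R] [Algebra k R] [Algebra.FiniteType k R]
  [Comod k A R] [IsCoactAlg k A R]

/-- Two points with the same orbit closure are in the same orbit. -/
theorem exists_actPt_of_ker_eq {z w : R →ₐ[k] k}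
    (h : RingHom.ker (orbitHom k A z) = RingHom.ker (orbitHom k A w)) : ∃ g : A →ₐ[k] k, w = actPt k g z := by
  have hbot : (⊥ : Ideal A).IsPrime := Ideal.isPrime_bot
  obtain ⟨f, hf, hf'⟩ := exists_open_points (orbitHom k A z) (⊥ : Ideal A)
  obtain ⟨e, he, he'⟩ := exists_open_points (orbitHom k A w) (⊥ : Ideal A)
  have h1 : ∀ (x : R →ₐ[k] k) (a : R), a ∈ (⊥ : Ideal A).comap (orbitHom k A x) ↔ a ∈ RingHom.ker (orbitHom k A x) := by
    intro x a
    rw [Ideal.mem_comap, Ideal.mem_bot, RingHom.mem_ker]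
  have hne : orbitHom k A z (f * e) ≠ 0 := by
    rw [map_mul]
    refine mul_ne_zero (fun h0 => hf ?_) (fun h0 => he ?_)
    · rw [h1, RingHom.mem_ker]; exact h0
    · rw [h1, ← h, RingHom.mem_ker]; exact h0
  obtain ⟨g₀, hg₀⟩ : ∃ g₀ : A →ₐ[k] k, g₀ (orbitHom k A z (f * e)) ≠ 0 := by
    by_contra hcon
    push Not at hcon
    exact hne (Groth.Agent.Books.PointsAC.eq_zero_of_forall_point k A _ hcon)
  have hy : ∀ b ∈ RingHom.ker (orbitHom k A z), (actPt k g₀ z) b = 0 := by
    intro b hb
    rw [actPt_apply, RingHom.mem_ker.1 hb, map_zero]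
  have hne2 : (actPt k g₀ z) e ≠ 0 := by
    intro h0
    apply hg₀
    rw [map_mul, map_mul, ← actPt_apply z g₀ e, h0, mul_zero]
  obtain ⟨g, hg⟩ := he' (actPt k g₀ z) (fun b hb => hy b (by rw [h1] at hb; rw [h]; exact hb)) hne2
  have hg' : actPt k g w = actPt k g₀ z := hg
  refine ⟨((WithConv.toConv g₀) * (WithConv.toConv g)⁻¹).ofConv, ?_⟩
  rw [actPt_mul]
  change w = actPt k _ (actPt k g₀ z)
  rw [← hg', ← actPt_mul (A := A) w (WithConv.toConv g) ((WithConv.toConv g)⁻¹), mul_inv_cancel, actPt_one]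

/-- Every orbit closure contains a closed orbit. -/
theorem exists_closedOrb (x : R →ₐ[k] k) :
    ∃ z : R →ₐ[k] k, (∀ f ∈ RingHom.ker (orbitHom k A x), z f = 0) ∧ ClosedOrb A z := by
  have hNR : IsNoetherianRing R := Algebra.FiniteType.isNoetherianRing k R
  let S : Set (Ideal R) := {I | ∃ z : R →ₐ[k] k, (∀ f ∈ RingHom.ker (orbitHom k A x), z f = 0) ∧
    I = RingHom.ker (orbitHom k A z)}
  have hS : S.Nonempty := ⟨_, x, ker_orbitHom_le_ker x, rfl⟩
  obtain ⟨I, ⟨z, hz, rfl⟩, hmax⟩ := WellFounded.has_min (wellFounded_gt (α := Ideal R)) S hS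
  refine ⟨z, hz, fun w hw => ?_⟩
  have h1 : RingHom.ker (orbitHom k A z) ≤ RingHom.ker (orbitHom k A w) :=
    le_ker_orbitHom (isSubcomod_ker_orbitHom z) w hw
  have h2 : RingHom.ker (orbitHom k A x) ≤ RingHom.ker (orbitHom k A z) :=
    le_ker_orbitHom (isSubcomod_ker_orbitHom x) z hz
  have h3 := hmax _ ⟨w, fun f hf => hw f (h2 hf), rfl⟩
  have h4 : RingHom.ker (orbitHom k A z) = RingHom.ker (orbitHom k A w) := by
    by_contra hne
    exact h3 (lt_of_le_of_ne h1 hne)
  exact exists_actPt_of_ker_eq h4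

omit [IsAlgClosed k] [Algebra.FiniteType k A] [Algebra.FiniteType k R] [IsDomain A] in
/-- The points of a closed orbit have closed orbits. -/
theorem closedOrb_of_mem {z y : R →ₐ[k] k} (hz : ClosedOrb A z)
    (hy : ∀ f ∈ RingHom.ker (orbitHom k A z), y f = 0) : ClosedOrb A y := by
  obtain ⟨g, rfl⟩ := hz y hy
  intro w hw
  rw [ker_orbitHom_actPt] at hw
  obtain ⟨h, rfl⟩ := hz w hw
  refine ⟨((WithConv.toConv g)⁻¹ * WithConv.toConv h).ofConv, ?_⟩
  rw [actPt_mul, ← actPt_mul (A := A) z (WithConv.toConv g) ((WithConv.toConv g)⁻¹), mul_inv_cancel, actPt_one]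

end

end K691.ClosedEx
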