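import Groth.Agent.GIT.K691.MuTorus

/-!
# The one-parameter subgroups of a split torus
-/

set_option autoImplicit false

universe u

open CategoryTheory CategoryTheory.Limits MonoidalCategory CartesianMonoidalCategory MonObj
  AlgebraicGeometry Opposite

noncomputable section

namespace K691.Cochar

open HMNum K951.Pts K951.Prd Magnet K691.MuTorus

variable {k : Type u} [Field k] {r : ℕ}

local notation "𝕊" => Spec (CommRingCat.of k)

/-- The pairing with an integral vector. -/
def dot (v : Fin r → ℤ) : (Fin r → ℤ) →+ ℤ where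
  toFun m := ∑ i, v i * m i
  map_zero' := by simp
  map_add' m m' := by
    simp only [Pi.add_apply, mul_add, Finset.sum_add_distrib]

theorem dot_apply (v m : Fin r → ℤ) : dot v m = ∑ i, v i * m i := rfl

theorem dot_add (v w m : Fin r → ℤ) : dot (v + w) m = dot v m + dot w m := by
  simp only [dot_apply, Pi.add_apply, add_mul, Finset.sum_add_distrib]

theorem dot_single (v : Fin r → ℤ) (i : Fin r) : dot v (Pi.single i 1) = v i := by
  classical
  rw [dot_apply, Finset.sum_eq_single i]
  · simp
  · intro j _ hj
    rw [Pi.single_eq_of_ne hj, mul_zero]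
  · intro h
    exact absurd (Finset.mem_univ i) h

variable (k) in
/-- The one-parameter subgroup of the split torus with exponents `v`. -/
def cps (v : Fin r → ℤ) :
    Red.Gm (Spec (CommRingCat.of k)) ⟶ AMonS (Spec (CommRingCat.of k)) (Fin r → ℤ) :=
  AMonS.map _ (dot v)

instance (v : Fin r → ℤ) : IsMonHom (cps k v) := AMonS.map_isMonHom _ _

theorem isPairing_cps (v m : Fin r → ℤ) : IsPairing (cps k v) m (dot v m) :=
  fun _ g => chi_map_apply g (dot v) m

theorem eq_of_isPairing {M : Type} [AddCommGroup M] {l l' : Red.Gm 𝕊 ⟶ AMonS 𝕊 M}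
    (h : ∀ m, ∃ n, IsPairing l m n ∧ IsPairing l' m n) : l = l' := by
  apply chi_injective
  refine MonoidHom.ext fun m => ?_
  obtain ⟨n, h1, h2⟩ := h (Multiplicative.toAdd m)
  have h3 := (h1 _ (𝟙 _)).trans (h2 _ (𝟙 _)).symm
  rwa [Category.id_comp, Category.id_comp] at h3

theorem cps_add (v w : Fin r → ℤ) : cps k (v + w) = cps k v * cps k w := by
  refine eq_of_isPairing fun m => ⟨dot v m + dot w m, ?_, ?_⟩
  · rw [← dot_add]
    exact isPairing_cps _ _
  · exact (isPairing_cps v m).mul (isPairing_cps w m)

theorem cps_zero : cps k (0 : Fin r → ℤ) = 1 := by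
  refine eq_of_isPairing fun m => ⟨0, ?_, ?_⟩
  · have h1 := isPairing_cps (k := k) 0 m
    have h2 : dot 0 m = 0 := by
      rw [dot_apply]
      simp
    rwa [h2] at h1
  · intro W g
    rw [MonObj.comp_one, chi_one, ofAdd_zero, map_one, MonoidHom.one_apply]

theorem pairing_add {M : Type} [AddCommGroup M] (l : Red.Gm 𝕊 ⟶ AMonS 𝕊 M) [IsMonHom l]
    (m m' : M) : pairing l (m + m') = pairing l m + pairing l m' := by
  refine IsPairing.eq fun W g => ?_
  rw [ofAdd_add, map_mul, isPairing_pairing l m W g, isPairing_pairing l m' W g, ofAdd_add,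
    map_mul]

theorem exists_cps (l : Red.Gm 𝕊 ⟶ AMonS 𝕊 (Fin r → ℤ)) [IsMonHom l] :
    ∃ v, l = cps k v := by
  classical
  refine ⟨fun i => pairing l (Pi.single i 1), ?_⟩
  refine eq_of_isPairing fun m => ⟨pairing l m, isPairing_pairing l m, ?_⟩
  have h1 : pairing l m = dot (fun i => pairing l (Pi.single i 1)) m := by
    let F : (Fin r → ℤ) →+ ℤ := AddMonoidHom.mk' (pairing l) (pairing_add l)
    have h2 : m = ∑ i, m i • (Pi.single i 1 : Fin r → ℤ) := by
      ext j
      simp [Finset.sum_apply, Pi.single_apply]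
    have h3 : F m = ∑ i, m i • F (Pi.single i 1) := by
      conv_lhs => rw [h2, map_sum]
      exact Finset.sum_congr rfl fun i _ => map_zsmul F _ _
    change F m = _
    rw [h3, dot_apply]
    exact Finset.sum_congr rfl fun i _ => by rw [smul_eq_mul, mul_comm]; rfl
  rw [h1]
  exact isPairing_cps _ _

theorem cps_injective : Function.Injective (cps k (r := r)) := by
  intro v w h
  funext i
  have h1 := isPairing_cps (k := k) v (Pi.single i 1)
  have h2 := isPairing_cps (k := k) w (Pi.single i 1)
  rw [h] at h1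
  have h3 := h1.unique h2
  rwa [dot_single, dot_single] at h3

end K691.Cochar

end
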