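import Groth.Agent.GIT.K691.CharGm

/-!
# Expansion of a function along the orbits of a diagonalizable group
-/

set_option autoImplicit false

universe u

open CategoryTheory CategoryTheory.Limits MonoidalCategory CartesianMonoidalCategory MonObj
  AlgebraicGeometry Opposite

noncomputable section

namespace K691.Expand

open K951.Pts K951.Prd K691.MuKey Magnet

variable {k : Type u} [Field k] {M : Type} [AddCommMonoid M]

local notation "𝕊" => Spec (CommRingCat.of k)

/-- For an action morphism `ρ : A(M) × V ⟶ V` with `V` quasi-compact and a function `f` there are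
finitely many elements of `M` such that the function `t ↦ f(ρ(t, v))` is for every rational point `v`
a combination of the characters in this finite set. -/
theorem exists_expansion {V : Over (Spec (CommRingCat.of k))} [CompactSpace V.left]
    (ρ : AMonS (Spec (CommRingCat.of k)) M ⊗ V ⟶ V) (f : Fn V) :
    ∃ s : Finset M, ∀ v : 𝟙_ (Over 𝕊) ⟶ V, ∃ c : M → k,
      ∀ {W : Over 𝕊} (t : W ⟶ AMonS 𝕊 M), pb (lift t (toUnit W ≫ v) ≫ ρ) f =
        ∑ m ∈ s, pb (toUnit W) (κ k (c m)) * chi t (Multiplicative.ofAdd m) := by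
  classical
  -- one affine open
  have hloc : ∀ U : V.left.affineOpens, ∃ s : Finset M, ∀ v : 𝟙_ (Over 𝕊) ⟶ V,
      pt0 v ∈ U.1 → ∃ c : M → k, (∀ m, m ∉ s → c m = 0) ∧
      ∀ {W : Over 𝕊} (t : W ⟶ AMonS 𝕊 M), pb (lift t (toUnit W ≫ v) ≫ ρ) f =
        ∑ m ∈ s, pb (toUnit W) (κ k (c m)) * chi t (Multiplicative.ofAdd m) := by
    intro U
    let Y : Over 𝕊 := Over.mk (U.1.ι ≫ V.hom)
    let i : Y ⟶ V := Over.homMk U.1.ι rfl
    have hY : IsAffine Y.left := U.2
    obtain ⟨P, hP⟩ := (gam_bijective M Y).2 (pb ((AMonS 𝕊 M ◁ i) ≫ ρ) f)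
    refine ⟨P.coeff.support.image Multiplicative.toAdd, fun v hv => ?_⟩
    have hr : Set.range v.left ⊆ Set.range U.1.ι := by
      rw [Scheme.Opens.range_ι]
      rintro _ ⟨z, rfl⟩
      rw [eq_bot_pt z]
      exact hv
    let v' : 𝟙_ (Over 𝕊) ⟶ Y := Over.homMk (IsOpenImmersion.lift U.1.ι v.left hr) (by
      change _ ≫ U.1.ι ≫ V.hom = _
      rw [IsOpenImmersion.lift_fac_assoc]
      exact Over.w v)
    have hv' : v' ≫ i = v := by
      ext1
      exact IsOpenImmersion.lift_fac _ _ _
    refine ⟨fun m => (κ k).symm (pb v' (P.coeff (Multiplicative.ofAdd m))), fun m hm => ?_,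
      fun {W} t => ?_⟩
    · have : P.coeff (Multiplicative.ofAdd m) = 0 := by
        by_contra h
        exact hm (Finset.mem_image.2 ⟨Multiplicative.ofAdd m, Finsupp.mem_support_iff.2 h, rfl⟩)
      change (κ k).symm (pb v' (P.coeff (Multiplicative.ofAdd m))) = 0
      rw [this, map_zero, map_zero]
    · have e1 : lift t (toUnit W ≫ v) ≫ ρ = lift t (toUnit W ≫ v') ≫ (AMonS 𝕊 M ◁ i) ≫ ρ := by
        rw [← Category.assoc (lift t (toUnit W ≫ v')), lift_whiskerLeft, Category.assoc, hv']
      rw [e1, pb_comp_apply, ← hP, pb_lift_gam_apply, evl_apply, Finsupp.sum,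
        Finset.sum_image (fun x _ y _ h => Multiplicative.toAdd.injective h)]
      refine Finset.sum_congr rfl fun m _ => ?_
      rw [pb_comp_apply]
      congr 2
      exact ((κ k).apply_symm_apply _).symm
  choose s hs using hloc
  -- a finite subcover
  obtain ⟨t, ht⟩ := isCompact_univ.elim_finite_subcover
    (fun U : V.left.affineOpens => (U.1 : Set V.left)) (fun U => U.1.isOpen) (by
      intro z _
      obtain ⟨_, ⟨U, hU, rfl⟩, hz, -⟩ := V.left.isBasis_affineOpens.exists_subset_of_mem_open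
        (Set.mem_univ z) isOpen_univ
      exact Set.mem_iUnion.2 ⟨⟨U, hU⟩, hz⟩)
  refine ⟨t.biUnion s, fun v => ?_⟩
  obtain ⟨U, hU, hvU⟩ := Set.mem_iUnion₂.1 (ht (Set.mem_univ (pt0 v)))
  obtain ⟨c, hc0, hc⟩ := hs U v hvU
  refine ⟨c, fun {W} τ => ?_⟩
  rw [hc]
  refine Finset.sum_subset (fun m hm => Finset.mem_biUnion.2 ⟨U, hU, hm⟩) fun m _ hm => ?_
  rw [hc0 m hm, map_zero, map_zero, zero_mul]

end K691.Expand

end
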