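import Groth.Agent.GIT.K689.PullBun
import Groth.Agent.GIT.K689.Avoid
import Mathlib.AlgebraicGeometry.Morphisms.QuasiSeparated

/-!
# Extension of functions on `X_F` to sections of a power

`exists_ext`: `p : V ⟶ X` with an atlas, `X` quasi-compact, `V` quasi-compact and quasi-separated, `F` of
weight `n`, `φ` a function on `X_F`: for some `m` there is a function `G` of weight `n m` on `V` with
`G = F ^ m p^* φ` on the locus where `F ≠ 0`.

`exists_invariant_ext`: if `F` and `φ` are invariant there is an invariant section `F'` of weight `n m`,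
`m ≥ 1`, with `X_{F'} = D(φ)`.
-/

set_option autoImplicit false

universe u

open CategoryTheory CategoryTheory.Limits MonoidalCategory CartesianMonoidalCategory MonObj
  AlgebraicGeometry TopologicalSpace Opposite

namespace K691.Ext

open K689.SchGlue K689.Coord K689.CoordUP K689.Weight K689.Ratio K689.LinBunBasic K689.PullBun

theorem pow_mul_pow' {R : Type*} [CommRing R] (c y : R) (n m : ℕ) :
    (c * y ^ n) ^ m = c ^ m * y ^ (n * m) := by
  rw [mul_pow, ← pow_mul]

section Sch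

variable {X V : Scheme.{u}} {p : V ⟶ X} [IsAffineHom p]
  {chart : ∀ U : X.Opens, Set (Γ(V, p ⁻¹ᵁ U))} (A : Atl p chart)

include A in
/-- The local form of the extension. -/
theorem local_ext {n : ℕ} {F : Γ(V, p ⁻¹ᵁ ⊤)} (hF : Wt p chart n ⊤ F) {O : X.Opens}
    (hO : (O : Set X) = nv p F) (φ : Γ(X, O)) (hle : V.basicOpen F ≤ p ⁻¹ᵁ O) (m : ℕ)
    (G : Γ(V, p ⁻¹ᵁ ⊤))
    (hG : rsec (V.basicOpen_le F) G = rsec (V.basicOpen_le F) F ^ m * rsec hle (p.app O φ))
    (x : X) : ∃ (W : X.Opens), x ∈ W ∧ ∃ N₀ : ℕ, ∀ N, N₀ ≤ N →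
      Wt p chart (n * (N + m)) W (rs p le_top (F ^ N * G)) := by
  obtain ⟨W, hW, y, hWa, hxW, hy⟩ := A.exists_adm (O := ⊤) (x := x) trivial
  obtain ⟨c, hc⟩ := hF W hW y hy
  have hcO : X.basicOpen c ≤ O := by
    intro z hz
    have h1 : nv p F ∩ W = X.basicOpen c := by
      rw [← nv_rs hW, hc, nv_adm A hy]
    have h2 : z ∈ nv p F ∩ (W : Set X) := by rw [h1]; exact hz
    have h3 : z ∈ (O : Set X) := by rw [hO]; exact h2.1
    exact h3
  obtain ⟨s, d, hd⟩ := exists_eq_pow_mul_of_isCompact_of_isQuasiSeparated X W hWa.isCompact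
    hWa.isQuasiSeparated c (rsec hcO φ)
  have hd' : rsec (X.basicOpen_le c) d = rsec (X.basicOpen_le c) c ^ s * rsec hcO φ := hd
  have hpW : IsAffineOpen (p ⁻¹ᵁ W) := hWa.preimage p
  -- the difference vanishes where `F` does not
  let FW : Γ(V, p ⁻¹ᵁ W) := rs p hW F
  let E : V.Opens := V.basicOpen FW
  have hEW : E ≤ p ⁻¹ᵁ W := V.basicOpen_le _
  have hE : E = p ⁻¹ᵁ W ⊓ V.basicOpen F := V.basicOpen_res _ _
  have hEF : E ≤ V.basicOpen F := hE ▸ inf_le_right
  have hEc : E ≤ p ⁻¹ᵁ (X.basicOpen c) := by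
    have h1 : E = V.basicOpen (p.app W c * y ^ n) := by
      change V.basicOpen FW = _
      rw [show FW = p.app W c * y ^ n from hc]
    rw [h1, V.basicOpen_mul, Scheme.preimage_basicOpen]
    exact inf_le_left
  have key : rsec hEW (rs p hW (F ^ s * G) - p.app W (c ^ m * d) * y ^ (n * (s + m))) = 0 := by
    have e1 : rsec hEW (rs p hW (F ^ s * G)) = rsec hEF (rsec (V.basicOpen_le F) (F ^ s * G)) := by
      have a1 : rsec hEW (rs p hW (F ^ s * G)) = rsec (hEW.trans (p.preimage_mono hW)) (F ^ s * G) :=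
        rsec_rsec (p.preimage_mono hW) hEW _
      rw [a1, rsec_rsec]
    have e2 : rsec (V.basicOpen_le F) (F ^ s * G) =
        rsec (V.basicOpen_le F) F ^ (s + m) * rsec hle (p.app O φ) := by
      have a1 : rsec (V.basicOpen_le F) (F ^ s * G) =
        rsec (V.basicOpen_le F) F ^ s * rsec (V.basicOpen_le F) G := by
          rw [rsec, map_mul, map_pow]
      rw [a1, hG, pow_add, _root_.mul_assoc]
    have e3 : rsec hEF (rsec (V.basicOpen_le F) F) = rsec hEW (p.app W c * y ^ n) := by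
      rw [← show FW = p.app W c * y ^ n from hc, rsec_rsec]
      exact (rsec_rsec (p.preimage_mono hW) hEW F).symm
    have e4 : rsec hEF (rsec hle (p.app O φ)) =
        rsec hEc (p.app (X.basicOpen c) (rsec hcO φ)) := by
      rw [rsec_rsec]
      have a1 : p.app (X.basicOpen c) (rsec hcO φ) = rsec (p.preimage_mono hcO) (p.app O φ) := by
        have := p.naturality (homOfLE hcO).op
        exact congrArg (fun ψ => ψ.hom φ) this
      rw [a1, rsec_rsec]
    have e5 : rsec hEc (p.app (X.basicOpen c) (rsec (X.basicOpen_le c) d)) =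
        rsec hEW (p.app W d) := by
      have a1 : p.app (X.basicOpen c) (rsec (X.basicOpen_le c) d) =
          rsec (p.preimage_mono (X.basicOpen_le c)) (p.app W d) := by
        have := p.naturality (homOfLE (X.basicOpen_le c)).op
        exact congrArg (fun ψ => ψ.hom d) this
      rw [a1, rsec_rsec]
    have e6 : rsec hEc (p.app (X.basicOpen c) (rsec (X.basicOpen_le c) c)) =
        rsec hEW (p.app W c) := by
      have a1 : p.app (X.basicOpen c) (rsec (X.basicOpen_le c) c) =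
          rsec (p.preimage_mono (X.basicOpen_le c)) (p.app W c) := by
        have := p.naturality (homOfLE (X.basicOpen_le c)).op
        exact congrArg (fun ψ => ψ.hom c) this
      rw [a1, rsec_rsec]
    have e7 : rsec hEW (p.app W d) = rsec hEW (p.app W c) ^ s *
        rsec hEc (p.app (X.basicOpen c) (rsec hcO φ)) := by
      rw [← e5, hd', map_mul, map_pow]
      have a1 : rsec hEc (p.app (X.basicOpen c) (rsec (X.basicOpen_le c) c) ^ s *
          p.app (X.basicOpen c) (rsec hcO φ)) =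
          rsec hEc (p.app (X.basicOpen c) (rsec (X.basicOpen_le c) c)) ^ s *
          rsec hEc (p.app (X.basicOpen c) (rsec hcO φ)) := by
        rw [rsec, map_mul, map_pow]
      rw [a1, e6]
    have e8 : rsec hEF (rsec (V.basicOpen_le F) F ^ (s + m) * rsec hle (p.app O φ)) =
        rsec hEF (rsec (V.basicOpen_le F) F) ^ (s + m) * rsec hEF (rsec hle (p.app O φ)) := by
      rw [rsec, map_mul, map_pow]
    have e9 : rsec hEW (p.app W c * y ^ n) = rsec hEW (p.app W c) * rsec hEW y ^ n := by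
      rw [rsec, map_mul, map_pow]
    have e10 : rsec hEW (p.app W (c ^ m * d) * y ^ (n * (s + m))) =
        rsec hEW (p.app W c) ^ m * rsec hEW (p.app W d) * rsec hEW y ^ (n * (s + m)) := by
      rw [map_mul (p.app W).hom, map_pow (p.app W).hom, rsec, map_mul, map_mul, map_pow, map_pow]
    have e11 : rsec hEW (rs p hW (F ^ s * G) - p.app W (c ^ m * d) * y ^ (n * (s + m))) =
        rsec hEW (rs p hW (F ^ s * G)) - rsec hEW (p.app W (c ^ m * d) * y ^ (n * (s + m))) :=
      map_sub _ _ _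
    rw [e11, e1, e2, e8, e3, e4, e9, e10, e7, sub_eq_zero]
    ring
  obtain ⟨r, hr⟩ := exists_pow_mul_eq_zero_of_res_basicOpen_eq_zero_of_isCompact V
    (U := p ⁻¹ᵁ W) hpW.isCompact _ FW key
  refine ⟨W, hxW, s + r, fun N hN => ?_⟩
  obtain ⟨t, rfl⟩ := Nat.exists_eq_add_of_le hN
  have h1 : rs p (le_top : W ≤ ⊤) (F ^ (s + r + t) * G) =
      p.app W (c ^ (r + t) * (c ^ m * d)) * y ^ (n * (s + r + t + m)) := by
    have h2 : FW ^ r * rs p hW (F ^ s * G) =
        FW ^ r * (p.app W (c ^ m * d) * y ^ (n * (s + m))) := by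
      rw [← sub_eq_zero, ← mul_sub]
      exact hr
    have h3 : rs p (le_top : W ≤ ⊤) (F ^ (s + r + t) * G) = FW ^ t * (FW ^ r * rs p hW (F ^ s * G)) := by
      have : F ^ (s + r + t) * G = F ^ t * (F ^ r * (F ^ s * G)) := by ring
      rw [this, rs_mul, rs_mul, rs_pow, rs_pow]
    rw [h3, h2, show FW = p.app W c * y ^ n from hc, map_mul (p.app W).hom (c ^ (r + t)),
      map_pow (p.app W).hom]
    ring
  rw [h1]
  exact Wt.of_adm A hy _

include A in
/-- Extension of functions on `X_F`. -/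
theorem exists_ext [CompactSpace X] [CompactSpace V] [QuasiSeparatedSpace V] {n : ℕ}
    {F : Γ(V, p ⁻¹ᵁ ⊤)} (hF : Wt p chart n ⊤ F) {O : X.Opens}
    (hO : (O : Set X) = nv p F) (φ : Γ(X, O)) (hle : V.basicOpen F ≤ p ⁻¹ᵁ O) :
    ∃ (m : ℕ) (G : Γ(V, p ⁻¹ᵁ ⊤)), Wt p chart (n * m) ⊤ G ∧
      rsec (V.basicOpen_le F) G = rsec (V.basicOpen_le F) F ^ m * rsec hle (p.app O φ) := by
  obtain ⟨m, G, hG⟩ := exists_eq_pow_mul_of_isCompact_of_isQuasiSeparated V (p ⁻¹ᵁ ⊤)
    (show IsCompact (Set.univ : Set V) from isCompact_univ)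
    (show IsQuasiSeparated (Set.univ : Set V) from isQuasiSeparated_univ) F
    (rsec hle (p.app O φ))
  have hG' : rsec (V.basicOpen_le F) G = rsec (V.basicOpen_le F) F ^ m * rsec hle (p.app O φ) := hG
  choose W hxW N₀ hN₀ using fun x => local_ext A hF hO φ hle m G hG' x
  obtain ⟨t, ht⟩ := isCompact_univ.elim_finite_subcover (fun z : X => (W z : Set X))
    (fun z => (W z).isOpen) (fun z _ => Set.mem_iUnion.2 ⟨z, hxW z⟩)
  let N := t.sup N₀
  refine ⟨N + m, F ^ N * G, ?_, ?_⟩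
  · refine Wt.of_local A fun x _ => ?_
    obtain ⟨z, hz, hxz⟩ := Set.mem_iUnion₂.1 (ht (Set.mem_univ x))
    exact ⟨W z, le_top, hxz, hN₀ z N (Finset.le_sup hz)⟩
  · have a1 : rsec (V.basicOpen_le F) (F ^ N * G) =
        rsec (V.basicOpen_le F) F ^ N * rsec (V.basicOpen_le F) G := by
      rw [rsec, map_mul, map_pow]
    rw [a1, hG', pow_add, _root_.mul_assoc]

end Sch

section Inv

variable {S : Scheme.{u}} {G X : Over S} [GrpObj G] {a : AlgGrp.Action G X} (B : GLinSh.LinBun G a)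

theorem basicOpen_tt {X V : Scheme.{u}} (p : V ⟶ X) (f : Γ(V, ⊤)) :
    V.basicOpen (tt p f) = V.basicOpen f := by
  have e : V.basicOpen (tt p f) = (p ⁻¹ᵁ ⊤) ⊓ V.basicOpen f := V.basicOpen_res _ _
  rw [e]
  exact inf_eq_right.2 (fun x _ => trivial)

theorem appTop_eq {X V : Scheme.{u}} (q : V ⟶ X) (f : Γ(X, ⊤)) :
    q.appTop f = q.appLE ⊤ ⊤ le_top f := by
  have : q.appLE ⊤ ⊤ le_top = q.appTop := Scheme.Hom.appLE_eq_app _
  exact (congrArg (fun φ => φ.hom f) this).symm

/-- Extension of invariant functions on `X_F` to invariant sections. -/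
theorem exists_invariant_ext [CompactSpace X.left] [CompactSpace B.V.left]
    [QuasiSeparatedSpace B.V.left] [CompactSpace (G ⊗ B.V).left] {n : ℕ} (hn : 1 ≤ n)
    {F : Γ(B.V.left, ⊤)} (hF : B.IsInvSection n F) {O : X.left.Opens}
    (hO : (O : Set X.left) = GLinSh.nonvanishing B.π F) (φ : Γ(X.left, O))
    (hφ : ∀ (W : (G ⊗ X).left.Opens) (h1 : W ≤ a.act.left ⁻¹ᵁ O) (h2 : W ≤ (snd G X).left ⁻¹ᵁ O),
      a.act.left.appLE O W h1 φ = (snd G X).left.appLE O W h2 φ) :
    ∃ (m : ℕ) (F' : Γ(B.V.left, ⊤)), 1 ≤ m ∧ B.IsInvSection m F' ∧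
      GLinSh.nonvanishing B.π F' = X.left.basicOpen φ := by
  have haff := B.atlas.affine
  let p := B.π.left
  have A := atl B.atlas
  have hWt := (hasWeight_iff B.atlas n F).1 hF.1
  have hO' : (O : Set X.left) = nv p (tt p F) := by rw [hO, nonvanishing_eq]
  have hle : B.V.left.basicOpen (tt p F) ≤ p ⁻¹ᵁ O := by
    intro v hv
    have h1 : p v ∈ (O : Set X.left) := by rw [hO']; exact ⟨v, hv, rfl⟩
    exact h1
  obtain ⟨m, G₀, hG₀, hG₁⟩ := exists_ext A hWt hO' φ hle
  -- the section as a global function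
  have htt : ∀ f : Γ(B.V.left, p ⁻¹ᵁ ⊤), tt p (show Γ(B.V.left, ⊤) from f) = f := fun f => by
    change (B.V.left.presheaf.map (𝟙 (op ⊤))) f = f
    rw [CategoryTheory.Functor.map_id]
    rfl
  let G' : Γ(B.V.left, ⊤) := G₀
  have hG'w : GLinSh.HasWeight B.atlas.chart (n * m) G' := by
    rw [hasWeight_iff, htt]
    exact hG₀
  let D : B.V.left.Opens := B.V.left.basicOpen F
  have hD : D ≤ p ⁻¹ᵁ O := by
    have := hle
    rwa [basicOpen_tt] at this
  have hG'D : rsec (le_top : D ≤ ⊤) G' = rsec le_top F ^ m * rsec hD (p.app O φ) := by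
    have h2 : D ≤ B.V.left.basicOpen (tt p F) := by rw [basicOpen_tt]
    have h1 := congrArg (rsec h2) hG₁
    have h3 : rsec h2 (rsec (B.V.left.basicOpen_le (tt p F)) (tt p F) ^ m *
        rsec hle (p.app O φ)) = rsec h2 (rsec (B.V.left.basicOpen_le (tt p F)) (tt p F)) ^ m *
        rsec h2 (rsec hle (p.app O φ)) := by
      rw [rsec, map_mul, map_pow]
    have h4 : rsec h2 (rsec hle (p.app O φ)) = rsec hD (p.app O φ) := rsec_rsec _ _ _
    have h5 : rsec h2 (rsec (B.V.left.basicOpen_le (tt p F)) (tt p F)) =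
        rsec (le_top : D ≤ ⊤) F :=
      (rsec_rsec _ _ _).trans (rsec_rsec (U := ⊤) (W := p ⁻¹ᵁ ⊤) le_top _ F)
    rw [h3, h4, h5, rsec_rsec] at h1
    exact h1
  -- invariance up to a power of `F`
  let F₂ : Γ((G ⊗ B.V).left, ⊤) := (snd G B.V).left.appTop F
  have hF₂ : B.lift.act.left.appTop F = F₂ := hF.2
  let E : (G ⊗ B.V).left.Opens := (G ⊗ B.V).left.basicOpen F₂
  have hE1 : E ≤ (snd G B.V).left ⁻¹ᵁ D :=
    (Scheme.preimage_basicOpen_top (snd G B.V).left F).ge
  have hE2 : E ≤ B.lift.act.left ⁻¹ᵁ D := by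
    have h1 := Scheme.preimage_basicOpen_top B.lift.act.left F
    rw [hF₂] at h1
    exact h1.ge
  have hcommA : B.lift.act.left ≫ p = (G ◁ B.π).left ≫ a.act.left :=
    congrArg Over.Hom.left B.lift_π
  have hcommS : (snd G B.V).left ≫ p = (G ◁ B.π).left ≫ (snd G X).left := by
    have : snd G B.V ≫ B.π = (G ◁ B.π) ≫ snd G X := (whiskerLeft_snd _ _).symm
    exact congrArg Over.Hom.left this
  let W : (G ⊗ X).left.Opens := a.act.left ⁻¹ᵁ O ⊓ (snd G X).left ⁻¹ᵁ O
  have hEA : E ≤ (B.lift.act.left ≫ p) ⁻¹ᵁ O := fun z hz => hD (hE2 hz)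
  have hES : E ≤ ((snd G B.V).left ≫ p) ⁻¹ᵁ O := fun z hz => hD (hE1 hz)
  have hEW : E ≤ (G ◁ B.π).left ⁻¹ᵁ W := by
    have h1 : E ≤ ((G ◁ B.π).left ≫ a.act.left) ⁻¹ᵁ O := by rw [← hcommA]; exact hEA
    have h2 : E ≤ ((G ◁ B.π).left ≫ (snd G X).left) ⁻¹ᵁ O := by rw [← hcommS]; exact hES
    exact le_inf h1 h2
  have hval : ∀ (q : (G ⊗ B.V).left ⟶ B.V.left) (_ : q.appTop F = F₂) (hq : E ≤ q ⁻¹ᵁ D)
      (hq2 : E ≤ (q ≫ p) ⁻¹ᵁ O),
      rsec (le_top : E ≤ ⊤) (q.appTop G') = rsec le_top F₂ ^ m * (q ≫ p).appLE O E hq2 φ := by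
    intro q hqF hq hq2
    have h1 : rsec (le_top : E ≤ ⊤) (q.appTop G') = q.appLE D E hq (rsec le_top G') := by
      rw [appLE_rsec q le_top hq le_top]
      rw [appTop_eq q G', rsec_appLE]
    have h3 : q.appLE D E hq (rsec le_top F) = rsec le_top F₂ := by
      rw [appLE_rsec q le_top hq le_top, ← hqF]
      rw [appTop_eq q F, rsec_appLE]
    have h4 : q.appLE D E hq (rsec hD (p.app O φ)) = (q ≫ p).appLE O E hq2 φ := by
      rw [appLE_rsec q hD hq (hq.trans (q.preimage_mono hD)), app_appLE q p _ hq2]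
    rw [h1, hG'D, map_mul, map_pow, h3, h4]
  have hdiff : rsec (le_top : E ≤ ⊤)
      (B.lift.act.left.appTop G' - (snd G B.V).left.appTop G') = 0 := by
    have h0 : rsec (le_top : E ≤ ⊤)
      (B.lift.act.left.appTop G' - (snd G B.V).left.appTop G') =
      rsec le_top (B.lift.act.left.appTop G') - rsec le_top ((snd G B.V).left.appTop G') :=
      map_sub _ _ _
    rw [h0, hval _ hF₂ hE2 hEA, hval _ rfl hE1 hES, sub_eq_zero]
    congr 1
    have hEA' : E ≤ ((G ◁ B.π).left ≫ a.act.left) ⁻¹ᵁ O := by rw [← hcommA]; exact hEA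
    have hES' : E ≤ ((G ◁ B.π).left ≫ (snd G X).left) ⁻¹ᵁ O := by rw [← hcommS]; exact hES
    rw [appLE_hom_congr hcommA hEA hEA', appLE_hom_congr hcommS hES hES',
      ← appLE_appLE (G ◁ B.π).left a.act.left (inf_le_left : W ≤ _) hEW,
      ← appLE_appLE (G ◁ B.π).left (snd G X).left (inf_le_right : W ≤ _) hEW, hφ W]
  obtain ⟨r, hr⟩ := exists_pow_mul_eq_zero_of_res_basicOpen_eq_zero_of_isCompact (G ⊗ B.V).left
    (U := ⊤) isCompact_univ _ F₂ hdiff
  have hwt := weight_mul B (weight_pow B hF.1 (r + 1)) hG'w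
  refine ⟨n * (r + 1) + n * m, F ^ (r + 1) * G', ?_, ⟨hwt, ?_⟩, ?_⟩
  · have : 1 ≤ n * (r + 1) := Nat.succ_le_of_lt (Nat.mul_pos hn (Nat.succ_pos r))
    omega
  · change B.lift.act.left.appTop (F ^ (r + 1) * G') = (snd G B.V).left.appTop (F ^ (r + 1) * G')
    have h1 : F₂ ^ (r + 1) * (B.lift.act.left.appTop G' - (snd G B.V).left.appTop G') = 0 := by
      rw [pow_succ, mul_comm (F₂ ^ r), _root_.mul_assoc, hr, mul_zero]
    rw [map_mul, map_mul, map_pow, map_pow, hF₂]
    rw [mul_sub, sub_eq_zero] at h1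
    exact h1
  · -- the nonvanishing locus
    have hbo : B.V.left.basicOpen (F ^ (r + 1) * G') = D ⊓ p ⁻¹ᵁ (X.left.basicOpen φ) := by
      rw [Scheme.basicOpen_mul, Scheme.basicOpen_pow _ _ (Nat.succ_pos r)]
      have h1 : D ⊓ B.V.left.basicOpen G' = B.V.left.basicOpen (rsec (le_top : D ≤ ⊤) G') :=
        (B.V.left.basicOpen_res G' (homOfLE le_top).op).symm
      have h2 : B.V.left.basicOpen (rsec (le_top : D ≤ ⊤) F) = D := by
        have := B.V.left.basicOpen_res F (homOfLE (le_top : D ≤ ⊤)).op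
        exact this.trans (inf_idem _)
      have h3 : B.V.left.basicOpen (rsec hD (p.app O φ)) = D ⊓ p ⁻¹ᵁ (X.left.basicOpen φ) := by
        have := B.V.left.basicOpen_res (p.app O φ) (homOfLE hD).op
        refine this.trans ?_
        rw [Scheme.preimage_basicOpen]
      have h4 : D ⊓ B.V.left.basicOpen G' = D ⊓ p ⁻¹ᵁ (X.left.basicOpen φ) := by
        rw [h1, hG'D, Scheme.basicOpen_mul, h3]
        have h5 : D ≤ B.V.left.basicOpen (rsec (le_top : D ≤ ⊤) F ^ m) := by
          have h6 : IsUnit (rsec (le_top : D ≤ ⊤) F ^ m) := by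
            refine IsUnit.pow m ?_
            exact RingedSpace.isUnit_res_basicOpen _ F
          rw [Scheme.basicOpen_of_isUnit _ h6]
        rw [← inf_assoc, inf_eq_right.2 h5]
      exact h4
    rw [GLinSh.nonvanishing, hbo]
    ext x
    constructor
    · rintro ⟨v, hv, rfl⟩
      exact hv.2
    · intro hx
      have hxO : x ∈ (O : Set X.left) := X.left.basicOpen_le φ hx
      rw [hO] at hxO
      obtain ⟨v, hv, rfl⟩ := hxO
      exact ⟨v, ⟨hv, hx⟩, rfl⟩

end Inv

end K691.Ext
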