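import Groth.Agent.GIT.K691.ArcX

/-!
# Points of the total space with a given coordinate

* `toSpec_eq`: a morphism landing in an affine open is determined by its map on functions;
* `exists_pt`: over a point landing in the domain of a fibre coordinate there is a point of the total
  space with a given value of the coordinate.
-/

set_option autoImplicit false

universe u

open CategoryTheory CategoryTheory.Limits MonoidalCategory CartesianMonoidalCategory MonObj
  AlgebraicGeometry Opposite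

noncomputable section

namespace K691.FibPt

open HMNum K951.Pts K951.Prd K691.Limit K691.FibreWt

/-- A morphism landing in an affine open is determined by its map on functions. -/
theorem toSpec_eq {W X : Scheme.{u}} (p : W ⟶ X) {U : X.Opens} (hU : IsAffineOpen U)
    (hp : ⊤ ≤ p ⁻¹ᵁ U) : W.toSpecΓ ≫ Spec.map (p.appLE U ⊤ hp) ≫ hU.fromSpec = p := by
  have hr : Set.range p ⊆ Set.range U.ι := by
    rw [Scheme.Opens.range_ι]
    rintro _ ⟨w, rfl⟩
    exact hp (show w ∈ (⊤ : W.Opens) from trivial)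
  let q := IsOpenImmersion.lift U.ι p hr
  have hq : q ≫ U.ι = p := IsOpenImmersion.lift_fac _ _ _
  have h1 : p.appLE U ⊤ hp = (U.ι).appLE U ⊤ (by simp) ≫ q.appTop := by
    have h2 : p.appLE U ⊤ hp = (q ≫ U.ι).appLE U ⊤ (by rw [hq]; exact hp) := by
      congr 1
      exact hq.symm
    have h3 : q.appTop = q.appLE ⊤ ⊤ le_rfl := by
      rw [Scheme.Hom.appTop, Scheme.Hom.app_eq_appLE]; rfl
    rw [h2, h3, Scheme.Hom.appLE_comp_appLE q U.ι U ⊤ ⊤ (by simp) le_rfl]
  have h3 : U.toSpecΓ = (U : Scheme.{u}).toSpecΓ ≫ Spec.map ((U.ι).appLE U ⊤ (by simp)) := by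
    rw [Scheme.Opens.toSpecΓ]
    congr 2
    simp
    rfl
  rw [h1, Spec.map_comp, Category.assoc]
  rw [← Scheme.toSpecΓ_naturality_assoc]
  have h4 := hU.toSpecΓ_fromSpec
  rw [h3, Category.assoc] at h4
  rw [h4, hq]

/-- Morphisms landing in an affine open agree if they agree on functions. -/
theorem ext_of_appLE {W X : Scheme.{u}} {p p' : W ⟶ X} {U : X.Opens} (hU : IsAffineOpen U)
    (hp : ⊤ ≤ p ⁻¹ᵁ U) (hp' : ⊤ ≤ p' ⁻¹ᵁ U) (h : ∀ s : Γ(X, U), ev p hp s = ev p' hp' s) :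
    p = p' := by
  rw [← toSpec_eq p hU hp, ← toSpec_eq p' hU hp']
  have : p.appLE U ⊤ hp = p'.appLE U ⊤ hp' := by
    ext s
    exact h s
  rw [this]

/-- Spec-type morphisms into an affine open. -/
def mkPt {W X : Scheme.{u}} {U : X.Opens} (hU : IsAffineOpen U) (φ : Γ(X, U) →+* Γ(W, ⊤)) : W ⟶ X :=
  W.toSpecΓ ≫ Spec.map (CommRingCat.ofHom φ) ≫ hU.fromSpec

theorem mkPt_le {W X : Scheme.{u}} {U : X.Opens} (hU : IsAffineOpen U)
    (φ : Γ(X, U) →+* Γ(W, ⊤)) : ⊤ ≤ (mkPt hU φ) ⁻¹ᵁ U := by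
  intro w _
  have h1 : (hU.fromSpec) ((Spec.map (CommRingCat.ofHom φ)) (W.toSpecΓ w)) ∈ U := by
    have : (hU.fromSpec) ((Spec.map (CommRingCat.ofHom φ)) (W.toSpecΓ w)) ∈
        Set.range hU.fromSpec := ⟨_, rfl⟩
    rw [hU.range_fromSpec] at this
    exact this
  exact h1

theorem ev_mkPt {W X : Scheme.{u}} {U : X.Opens} (hU : IsAffineOpen U)
    (φ : Γ(X, U) →+* Γ(W, ⊤)) (h : ⊤ ≤ (mkPt hU φ) ⁻¹ᵁ U) (s : Γ(X, U)) :
    ev (mkPt hU φ) h s = φ s := by
  have h1 : ⊤ ≤ (Spec.map (CommRingCat.ofHom φ) ≫ hU.fromSpec) ⁻¹ᵁ U := by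
    intro w _
    have : (hU.fromSpec) ((Spec.map (CommRingCat.ofHom φ)) w) ∈
        Set.range hU.fromSpec := ⟨_, rfl⟩
    rw [hU.range_fromSpec] at this
    exact this
  have h2 : ⊤ ≤ hU.fromSpec ⁻¹ᵁ U := by
    intro w _
    have : hU.fromSpec w ∈ Set.range hU.fromSpec := ⟨_, rfl⟩
    rw [hU.range_fromSpec] at this
    exact this
  have h0 : ev (mkPt hU φ) h s = _ :=
    ev_comp (W.toSpecΓ) (Spec.map (CommRingCat.ofHom φ) ≫ hU.fromSpec) h1 h s
  rw [h0, ev_comp (Spec.map (CommRingCat.ofHom φ)) hU.fromSpec h2 h1]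
  have h3 : ev hU.fromSpec h2 s = (Scheme.ΓSpecIso Γ(X, U)).inv s := by
    have h4 := hU.fromSpec_app_self
    rw [ev, Scheme.Hom.appLE, h4]
    have h5 : ((Scheme.ΓSpecIso Γ(X, U)).inv ≫
        (Spec Γ(X, U)).presheaf.map (eqToHom hU.fromSpec_preimage_self).op) ≫
        (Spec Γ(X, U)).presheaf.map (homOfLE h2).op = (Scheme.ΓSpecIso Γ(X, U)).inv := by
      rw [Category.assoc, ← Functor.map_comp]
      have h6 : (eqToHom hU.fromSpec_preimage_self).op ≫ (homOfLE h2).op = 𝟙 _ :=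
        Subsingleton.elim _ _
      rw [h6]
      erw [CategoryTheory.Functor.map_id, Category.comp_id]
    exact congrArg (fun r => (ConcreteCategory.hom r) s) h5
  rw [h3]
  have h7 := Scheme.ΓSpecIso_inv_naturality (CommRingCat.ofHom φ)
  have h8 := congrArg (fun r => (ConcreteCategory.hom r) s) h7
  have h9 : (Spec.map (CommRingCat.ofHom φ)).appTop ((Scheme.ΓSpecIso Γ(X, U)).inv s) =
    (Scheme.ΓSpecIso (CommRingCat.of Γ(W, ⊤))).inv (φ s) := h8.symm
  rw [h9, Scheme.toSpecΓ_appTop]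
  exact congrArg (fun r => (ConcreteCategory.hom r) (φ s))
    (Scheme.ΓSpecIso (CommRingCat.of Γ(W, ⊤))).inv_hom_id

section Over

variable {S : Scheme.{u}} {X V : Over S}

/-- Over a point landing in an affine open with a fibre coordinate there is a point of the total
space with any given value of the coordinate. -/
theorem exists_pt (π : V ⟶ X) [IsAffineHom π.left] {U : X.left.Opens} (hU : IsAffineOpen U)
    {yc : Γ(V.left, π.left ⁻¹ᵁ U)}
    (hyc : Function.Bijective (Polynomial.eval₂RingHom (π.left.app U).hom yc))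
    {W : Over S} (p : W ⟶ X) (hp : ⊤ ≤ p.left ⁻¹ᵁ U) (c : Γ(W.left, ⊤)) :
    ∃ (v : W ⟶ V), v ≫ π = p ∧ ∀ h, evalFn π yc v h = c := by
  have hV : IsAffineOpen (π.left ⁻¹ᵁ U) := hU.preimage π.left
  let e := RingEquiv.ofBijective _ hyc
  let φ : Γ(V.left, π.left ⁻¹ᵁ U) →+* Γ(W.left, ⊤) :=
    (Polynomial.eval₂RingHom (p.left.appLE U ⊤ hp).hom c).comp (e.symm : _ →+* _)
  have hφ1 : φ yc = c := by
    have h1 : e.symm yc = Polynomial.X := by
      rw [RingEquiv.symm_apply_eq]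
      change yc = Polynomial.eval₂RingHom (π.left.app U).hom yc Polynomial.X
      simp
    change Polynomial.eval₂RingHom (p.left.appLE U ⊤ hp).hom c (e.symm yc) = c
    rw [h1]
    simp
  have hφ2 : ∀ s, φ (π.left.app U s) = ev p.left hp s := by
    intro s
    have h1 : e.symm (π.left.app U s) = Polynomial.C s := by
      rw [RingEquiv.symm_apply_eq]
      change _ = Polynomial.eval₂RingHom (π.left.app U).hom yc (Polynomial.C s)
      simp
    change Polynomial.eval₂RingHom (p.left.appLE U ⊤ hp).hom c (e.symm _) = _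
    rw [h1]
    simp [ev]
  have hle := mkPt_le hV φ
  have hle' : ⊤ ≤ (mkPt hV φ ≫ π.left) ⁻¹ᵁ U := hle
  have hcomp : mkPt hV φ ≫ π.left = p.left := by
    refine ext_of_appLE hU hle' hp fun s => ?_
    rw [← ev_app (mkPt hV φ) π.left hle hle' s, ev_mkPt, hφ2]
  refine ⟨Over.homMk (mkPt hV φ) ?_, ?_, ?_⟩
  · rw [← Over.w π, ← Category.assoc, hcomp, Over.w p]
  · ext1
    exact hcomp
  · intro h
    rw [evalFn_eq_ev]
    exact (ev_mkPt hV φ h yc).trans hφ1

/-- A point of the total space is determined by its image and the value of the coordinate. -/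
theorem pt_ext (π : V ⟶ X) [IsAffineHom π.left] {U : X.left.Opens} (hU : IsAffineOpen U)
    {yc : Γ(V.left, π.left ⁻¹ᵁ U)}
    (hyc : Function.Bijective (Polynomial.eval₂RingHom (π.left.app U).hom yc))
    {W : Over S} {v v' : W ⟶ V} (h : ⊤ ≤ v.left ⁻¹ᵁ (π.left ⁻¹ᵁ U))
    (h' : ⊤ ≤ v'.left ⁻¹ᵁ (π.left ⁻¹ᵁ U)) (hv : v ≫ π = v' ≫ π)
    (hc : evalFn π yc v h = evalFn π yc v' h') : v = v' := by
  have hV : IsAffineOpen (π.left ⁻¹ᵁ U) := hU.preimage π.left
  ext1
  refine ext_of_appLE hV h h' fun s => ?_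
  obtain ⟨P, rfl⟩ := hyc.2 s
  have key : (v.left.appLE (π.left ⁻¹ᵁ U) ⊤ h).hom.comp
      (Polynomial.eval₂RingHom (π.left.app U).hom yc) =
      (v'.left.appLE (π.left ⁻¹ᵁ U) ⊤ h').hom.comp
      (Polynomial.eval₂RingHom (π.left.app U).hom yc) := by
    refine Polynomial.ringHom_ext (fun a => ?_) ?_
    · simp only [RingHom.comp_apply, Polynomial.coe_eval₂RingHom, Polynomial.eval₂_C]
      have e1 := ev_app v.left π.left h h a
      have e2 := ev_app v'.left π.left h' h' a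
      refine e1.trans (Eq.trans ?_ e2.symm)
      apply ev_congr
      rw [← Over.comp_left, ← Over.comp_left, hv]
    · simp only [RingHom.comp_apply, Polynomial.coe_eval₂RingHom, Polynomial.eval₂_X]
      exact hc
  exact congrArg (fun r => r P) key

end Over

end K691.FibPt

end
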