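import Mathlib.RingTheory.PowerSeries.Inverse
import Mathlib.RingTheory.Localization.FractionRing
import Mathlib.RingTheory.DiscreteValuationRing.Basic
import Mathlib.FieldTheory.IsAlgClosed.Basic
import Mathlib.LinearAlgebra.LinearIndependent.Basic
import Mathlib.Tactic

/-!
# Formal power series and their field of fractions: the scaling automorphisms

* `exists_zpow`: a nonzero element of `Frac k⟦b⟧` is `b ^ e` times a unit of `k⟦b⟧`;
* `scO`, `scL`: the automorphisms `b ↦ s b`;
* `exists_unit_of_scaling`: if `q(s b) = C_s(b) q(b)` with `C_s ∈ k⟦b⟧`, `C_s(0) = s ^ w`, then `q` is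
  `b ^ w` times a unit of `k⟦b⟧`;
* `eq_zero_of_regular`: a Laurent polynomial in `b` with coefficients `∑_{χ ↦ m} F_χ t(χ)` ...
-/

set_option autoImplicit false

universe u

noncomputable section

namespace K691.Fps

open PowerSeries

variable (k : Type u) [Field k]

/-- The field of fractions of the ring of formal power series. -/
abbrev L : Type u := FractionRing (PowerSeries k)

/-- The coordinate in the field of fractions. -/
def bL : L k := algebraMap (PowerSeries k) (L k) X

theorem bL_ne_zero : bL k ≠ 0 := by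
  rw [bL, Ne, FaithfulSMul.algebraMap_eq_zero_iff]
  exact X_ne_zero

/-- The coordinate as a unit. -/
def bu : (L k)ˣ := Units.mk0 (bL k) (bL_ne_zero k)

@[simp] theorem val_bu : (bu k : L k) = bL k := rfl

variable {k}

theorem exists_pow (f : PowerSeries k) (hf : f ≠ 0) :
    ∃ (n : ℕ) (u : (PowerSeries k)ˣ), f = X ^ n * (u : PowerSeries k) := by
  refine ⟨f.order.toNat, Unit_of_divided_by_X_pow_order f, ?_⟩
  rw [Unit_of_divided_by_X_pow_order_nonzero hf, X_pow_order_mul_divXPowOrder]

/-- A nonzero element of the field of fractions is a power of the coordinate times a unit. -/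
theorem exists_zpow (q : L k) (hq : q ≠ 0) :
    ∃ (e : ℤ) (u : (PowerSeries k)ˣ), q = bL k ^ e * algebraMap (PowerSeries k) (L k) u := by
  obtain ⟨f, g, hg, rfl⟩ := IsFractionRing.div_surjective (A := PowerSeries k) q
  have hg0 : g ≠ 0 := nonZeroDivisors.ne_zero hg
  have hf0 : f ≠ 0 := by
    rintro rfl
    exact hq (by simp)
  obtain ⟨n, u, rfl⟩ := exists_pow f hf0
  obtain ⟨m, v, rfl⟩ := exists_pow g hg0
  refine ⟨(n : ℤ) - m, u * v⁻¹, ?_⟩
  have hv : algebraMap (PowerSeries k) (L k) (v : PowerSeries k) ≠ 0 := by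
    rw [Ne, FaithfulSMul.algebraMap_eq_zero_iff]
    exact v.ne_zero
  have hv' : algebraMap (PowerSeries k) (L k) ((v⁻¹ : (PowerSeries k)ˣ) : PowerSeries k) =
      (algebraMap (PowerSeries k) (L k) (v : PowerSeries k))⁻¹ := by
    refine eq_inv_of_mul_eq_one_left ?_
    rw [← map_mul, ← Units.val_mul, inv_mul_cancel, Units.val_one, map_one]
  rw [Units.val_mul, map_mul, map_mul, map_mul, hv', map_pow, map_pow, zpow_sub₀ (bL_ne_zero k),
    zpow_natCast, zpow_natCast]
  change _ = bL k ^ n / bL k ^ m * _
  rw [← bL]
  field_simp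

/-- The scaling `b ↦ s b`. -/
def scO (s : kˣ) : PowerSeries k →ₐ[k] PowerSeries k :=
  { rescale (s : k) with
    commutes' := fun c => by
      change rescale (s : k) (algebraMap k (PowerSeries k) c) = _
      ext n
      rw [coeff_rescale, PowerSeries.algebraMap_apply, Algebra.algebraMap_self_apply, coeff_C]
      split_ifs with h
      · rw [h, pow_zero, one_mul]
      · rw [mul_zero] }

theorem scO_apply (s : kˣ) (f : PowerSeries k) : scO s f = rescale (s : k) f := rfl

theorem constantCoeff_scO (s : kˣ) (f : PowerSeries k) :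
    constantCoeff (scO s f) = constantCoeff f := by
  rw [scO_apply, ← coeff_zero_eq_constantCoeff_apply, ← coeff_zero_eq_constantCoeff_apply,
    coeff_rescale, pow_zero, one_mul]

theorem scO_X (s : kˣ) : scO s (X : PowerSeries k) = (s : k) • (X : PowerSeries k) := by
  rw [scO_apply, rescale_X, smul_eq_C_mul]

theorem scO_injective (s : kˣ) : Function.Injective (scO s) := by
  intro f g h
  ext n
  have := congrArg (coeff n) h
  rw [scO_apply, scO_apply, coeff_rescale, coeff_rescale] at this
  exact mul_left_cancel₀ (pow_ne_zero _ s.ne_zero) this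

/-- The scaling on the field of fractions. -/
def scL (s : kˣ) : L k →ₐ[k] L k :=
  IsFractionRing.liftAlgHom (K := L k) (A := PowerSeries k)
    (g := (IsScalarTower.toAlgHom k (PowerSeries k) (L k)).comp (scO s))
    ((IsFractionRing.injective (PowerSeries k) (L k)).comp (scO_injective s))

theorem scL_algebraMap (s : kˣ) (f : PowerSeries k) :
    scL s (algebraMap (PowerSeries k) (L k) f) = algebraMap (PowerSeries k) (L k) (scO s f) := by
  simp [scL]

theorem scL_bL (s : kˣ) : scL s (bL k) = (s : k) • bL k := by
  rw [bL, scL_algebraMap, scO_X, Algebra.smul_def, Algebra.smul_def, map_mul,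
    ← IsScalarTower.algebraMap_apply]

theorem scL_bL_zpow (s : kˣ) (e : ℤ) : scL s (bL k ^ e) = ((s : k) ^ e) • bL k ^ e := by
  rw [map_zpow₀, scL_bL, Algebra.smul_def, Algebra.smul_def, mul_zpow, map_zpow₀]

theorem eq_of_zpow_eq [Infinite k] {e w : ℤ} (h : ∀ s : kˣ, (s : k) ^ e = (s : k) ^ w) : e = w := by
  by_contra hne
  wlog hlt : w < e generalizing e w with H
  · exact H (fun s => (h s).symm) (Ne.symm hne) (lt_of_le_of_ne (not_lt.1 hlt) hne)
  obtain ⟨n, hn⟩ := Int.eq_ofNat_of_zero_le (sub_nonneg.2 hlt.le)
  have hn0 : 0 < n := by omega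
  have h1 : ∀ s : kˣ, (s : k) ^ n = 1 := by
    intro s
    have h2 := h s
    rw [show e = w + n by omega, zpow_add₀ s.ne_zero, zpow_natCast] at h2
    have h3 : (s : k) ^ w ≠ 0 := zpow_ne_zero _ s.ne_zero
    exact mul_left_cancel₀ h3 (by rw [h2, mul_one])
  have hfin : (Set.univ : Set k).Finite := by
    have h4 : (Set.univ : Set k) ⊆ insert 0 ((Polynomial.X ^ n - 1 : Polynomial k).rootSet k) := by
      intro s _
      by_cases hs : s = 0
      · exact Or.inl hs
      · right
        rw [Polynomial.mem_rootSet]
        refine ⟨Polynomial.X_pow_sub_C_ne_zero hn0 1, ?_⟩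
        have := h1 (Units.mk0 s hs)
        simpa [sub_eq_zero] using this
    exact ((Polynomial.rootSet_finite _ _).insert 0).subset h4
  exact Set.infinite_univ hfin

/-- An element of the field of fractions which transforms under scaling by power series with
constant term `s ^ w` is `b ^ w` times a unit. -/
theorem exists_unit_of_scaling [Infinite k] {q : L k} (hq : q ≠ 0) (w : ℤ)
    (C : kˣ → PowerSeries k)
    (hC : ∀ s, scL s q = algebraMap (PowerSeries k) (L k) (C s) * q)
    (h0 : ∀ s, constantCoeff (C s) = (s : k) ^ w) :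
    ∃ u : (PowerSeries k)ˣ, q = bL k ^ w * algebraMap (PowerSeries k) (L k) u := by
  obtain ⟨e, u, rfl⟩ := exists_zpow q hq
  have h1 : e = w := by
    refine eq_of_zpow_eq (k := k) fun s => ?_
    have h2 := hC s
    rw [map_mul, scL_bL_zpow, scL_algebraMap] at h2
    have h3 : bL k ^ e ≠ 0 := zpow_ne_zero _ (bL_ne_zero k)
    have h4 : algebraMap (PowerSeries k) (L k) (PowerSeries.C ((s : k) ^ e) * scO s u) =
        algebraMap (PowerSeries k) (L k) (C s * u) := by
      apply mul_left_cancel₀ h3
      rw [map_mul, map_mul]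
      have h5 : algebraMap (PowerSeries k) (L k) (PowerSeries.C ((s : k) ^ e)) =
        algebraMap k (L k) ((s : k) ^ e) := by
        rw [IsScalarTower.algebraMap_apply k (PowerSeries k) (L k)]
        rfl
      rw [h5]
      rw [Algebra.smul_def] at h2
      linear_combination h2
    have h6 := IsFractionRing.injective (PowerSeries k) (L k) h4
    have h7 := congrArg constantCoeff h6
    rw [map_mul, map_mul, constantCoeff_C, constantCoeff_scO, h0] at h7
    exact mul_right_cancel₀ (u.isUnit.map constantCoeff).ne_zero h7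
  exact ⟨u, by rw [h1]⟩

end K691.Fps

end
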