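import Groth.Agent.GIT.K691.Dense

/-!
# Limits under a one-parameter subgroup: extensions of the orbit map to the affine line

For `X` separated over a field: `HMNum.IsLimitPt` is the existence of an extension to `𝔸¹ ⊗ T` of
the orbit map, the limit is unique, it is a fixed point, and a fixed point is its own limit.
-/

set_option autoImplicit false

universe u

open CategoryTheory CategoryTheory.Limits MonoidalCategory CartesianMonoidalCategory MonObj
  AlgebraicGeometry Opposite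

noncomputable section

namespace K691.Limit

open HMNum

section General

variable {S : Scheme.{u}} {G X : Over S} [GrpObj G]

@[reassoc]
theorem lift_one_act (a : AlgGrp.Action G X) {T : Over S} (x : T ⟶ X) :
    lift (1 : T ⟶ G) x ≫ a.act = x := (Magnet.MonAct.ofAction a).lift_one_act x

@[reassoc]
theorem lift_mul_act (a : AlgGrp.Action G X) {T : Over S} (g h : T ⟶ G) (x : T ⟶ X) :
    lift (g * h) x ≫ a.act = lift g (lift h x ≫ a.act) ≫ a.act :=
  (Magnet.MonAct.ofAction a).lift_mul_act g h x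

/-- The orbit map of a `T`-point under a one-parameter subgroup: `(u, t) ↦ l(u) · x(t)`. -/
def orb (a : AlgGrp.Action G X) (l : Red.Gm S ⟶ G) {T : Over S} (x : T ⟶ X) :
    Red.Gm S ⊗ T ⟶ X :=
  lift (fst _ _ ≫ l) (snd _ _ ≫ x) ≫ a.act

theorem lift_orb (a : AlgGrp.Action G X) (l : Red.Gm S ⟶ G) {T T' : Over S} (x : T ⟶ X)
    (g : T' ⟶ Red.Gm S) (t : T' ⟶ T) :
    lift g t ≫ orb a l x = lift (g ≫ l) (t ≫ x) ≫ a.act := by
  rw [orb, ← Category.assoc, comp_lift, lift_fst_assoc, lift_snd_assoc]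

/-- The conjugate of a one-parameter subgroup by a section. -/
abbrev conj (h : 𝟙_ (Over S) ⟶ G) (l : Red.Gm S ⟶ G) : Red.Gm S ⟶ G :=
  (toUnit _ ≫ h) * l * (toUnit _ ≫ h)⁻¹

theorem comp_conj (h : 𝟙_ (Over S) ⟶ G) (l : Red.Gm S ⟶ G) {T : Over S} (g : T ⟶ Red.Gm S) :
    g ≫ conj h l = (toUnit _ ≫ h) * (g ≫ l) * (toUnit _ ≫ h)⁻¹ := by
  rw [conj, MonObj.comp_mul, MonObj.comp_mul, GrpObj.comp_inv, ← Category.assoc,
    toUnit_unique (g ≫ toUnit _) (toUnit T)]

theorem lift_subAct {T : Over S} (g : T ⟶ Red.Gm S) (b : T ⟶ A1 S) :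
    lift g b ≫ (Magnet.subAct S ℤ plus).act = (g ≫ incl S) * b := by
  rw [Magnet.subAct]
  exact (Magnet.MonAct.lift_restrict_act _ _ g b).trans (Magnet.MonAct.lift_regular_act _ _)

/-- The morphism underlying a point of the attractor. -/
abbrev und {a : AlgGrp.Action G X} {l : Red.Gm S ⟶ G} [IsMonHom l] {T : Over S}
    (φ : (attrPlus a l).obj (op T)) : A1 S ⊗ T ⟶ X := φ.1

/-- The defining property of a point of the attractor. -/
theorem attr_equivariant {a : AlgGrp.Action G X} {l : Red.Gm S ⟶ G} [IsMonHom l] {T : Over S}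
    (φ : (attrPlus a l).obj (op T)) {T' : Over S} (g : T' ⟶ Red.Gm S) (b : T' ⟶ A1 S)
    (t : T' ⟶ T) :
    lift ((g ≫ incl S) * b) t ≫ und φ = lift (g ≫ l) (lift b t ≫ und φ) ≫ a.act := by
  have h := (Magnet.MonAct.mem_eqvHom_iff _).1 φ.2 T' g b t
  rw [lift_subAct] at h
  refine h.trans ?_
  exact Magnet.MonAct.lift_restrict_act _ _ _ _

/-- A morphism with the equivariance property is a point of the attractor. -/
def mkAttr {a : AlgGrp.Action G X} {l : Red.Gm S ⟶ G} [IsMonHom l] {T : Over S}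
    (φ : A1 S ⊗ T ⟶ X)
    (h : ∀ (T' : Over S) (g : T' ⟶ Red.Gm S) (b : T' ⟶ A1 S) (t : T' ⟶ T),
      lift ((g ≫ incl S) * b) t ≫ φ = lift (g ≫ l) (lift b t ≫ φ) ≫ a.act) :
    (attrPlus a l).obj (op T) :=
  ⟨φ, (Magnet.MonAct.mem_eqvHom_iff _).2 fun T' g b t => by
    rw [lift_subAct]
    exact (h T' g b t).trans
      (Magnet.MonAct.lift_restrict_act l (Magnet.MonAct.ofAction a) g (lift b t ≫ φ)).symm⟩

theorem und_mkAttr {a : AlgGrp.Action G X} {l : Red.Gm S ⟶ G} [IsMonHom l] {T : Over S}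
    (φ : A1 S ⊗ T ⟶ X) (h) : und (mkAttr (a := a) (l := l) φ h) = φ := rfl

theorem attrToX_eq {a : AlgGrp.Action G X} {l : Red.Gm S ⟶ G} [IsMonHom l] {T : Over S}
    (φ : (attrPlus a l).obj (op T)) :
    (Magnet.attrToX (gmAct a l) plus).app (op T) φ = lift (1 : T ⟶ A1 S) (𝟙 T) ≫ und φ := rfl

theorem comp_attrToX {a : AlgGrp.Action G X} {l : Red.Gm S ⟶ G} [IsMonHom l] {T T' : Over S}
    (φ : (attrPlus a l).obj (op T)) (t : T' ⟶ T) :
    t ≫ (Magnet.attrToX (gmAct a l) plus).app (op T) φ = lift (1 : T' ⟶ A1 S) t ≫ und φ := by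
  rw [attrToX_eq, ← Category.assoc, comp_lift, Category.comp_id, MonObj.comp_one]

/-- Restriction to `G_m` of a point of the attractor is the orbit map. -/
theorem incl_attr {a : AlgGrp.Action G X} {l : Red.Gm S ⟶ G} [IsMonHom l] {T : Over S}
    (φ : (attrPlus a l).obj (op T)) {x : T ⟶ X}
    (hx : (Magnet.attrToX (gmAct a l) plus).app (op T) φ = x) :
    (incl S ▷ T) ≫ und φ = orb a l x := by
  subst hx
  apply Magnet.hom_ext_lift₂
  intro T' g t
  rw [lift_orb, comp_attrToX, ← attr_equivariant φ g 1 t, _root_.mul_one, ← Category.assoc,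
    lift_whiskerRight]

end General

section Origin

variable (S : Scheme.{u})

theorem algebraMap_bot_bijective (Z : Type u) [CommRing Z] :
    Function.Bijective (algebraMap Z
      (MonoidAlgebra Z (Multiplicative ↥(⊥ : AddSubmonoid ℤ)))) := by
  have hs : Subsingleton (Multiplicative ↥(⊥ : AddSubmonoid ℤ)) :=
    ⟨fun a b => Subtype.ext ((AddSubmonoid.mem_bot.1 a.2).trans (AddSubmonoid.mem_bot.1 b.2).symm)⟩
  constructor
  · intro x y h
    have := congrArg (fun q => q.coeff 1) h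
    simpa using this
  · intro x
    refine ⟨x.coeff 1, ?_⟩
    ext m
    rw [Subsingleton.elim m 1]
    simp

instance isIso_bot_hom : IsIso (Magnet.AMonS S ↥(⊥ : AddSubmonoid ℤ)).hom := by
  have h : IsIso (Magnet.AMon (ULift.{u} ℤ) ↥(⊥ : AddSubmonoid ℤ)).hom := by
    have e : IsIso (CommRingCat.ofHom (algebraMap (ULift.{u} ℤ)
      (MonoidAlgebra (ULift.{u} ℤ) (Multiplicative ↥(⊥ : AddSubmonoid ℤ))))) :=
      (ConcreteCategory.isIso_iff_bijective _).2 (algebraMap_bot_bijective _)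
    exact inferInstanceAs (IsIso (Spec.map (CommRingCat.ofHom
      (algebraMap (ULift.{u} ℤ) (MonoidAlgebra (ULift.{u} ℤ)
        (Multiplicative ↥(⊥ : AddSubmonoid ℤ)))))))
  exact inferInstanceAs (IsIso (pullback.snd _ _))

variable {S}

theorem bot_pt_unique {T : Over S} (f g : T ⟶ Magnet.AMonS S ↥(⊥ : AddSubmonoid ℤ)) : f = g := by
  ext1
  rw [← cancel_mono (Magnet.AMonS S ↥(⊥ : AddSubmonoid ℤ)).hom, Over.w, Over.w]

/-- `z · 0 = 0` on the affine line. -/
theorem incl_mul_origin {T : Over S} (g : T ⟶ Red.Gm S) :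
    (g ≫ incl S) * (toUnit T ≫ origin S) = toUnit T ≫ origin S := by
  have h := (Magnet.MonAct.isEquivariant_iff _ _ _).1
    (Magnet.isEquivariant_faceMapS (M := ℤ) S isFace_bot) T g
    (toUnit T ≫ η[Magnet.AMonS S ↥(⊥ : AddSubmonoid ℤ)])
  rw [lift_subAct, ← Category.assoc, bot_pt_unique (lift g (toUnit T ≫ _) ≫ _)
    (toUnit T ≫ η[Magnet.AMonS S ↥(⊥ : AddSubmonoid ℤ)]), Category.assoc] at h
  exact h.symm

theorem comp_origin {T T' : Over S} (t : T' ⟶ T) :
    t ≫ toUnit T ≫ origin S = toUnit T' ≫ origin S := by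
  rw [← Category.assoc, toUnit_unique (t ≫ toUnit T) (toUnit T')]

variable {G X : Over S} [GrpObj G]

theorem comp_limitPt {a : AlgGrp.Action G X} {l : Red.Gm S ⟶ G} [IsMonHom l] {T T' : Over S}
    (φ : (attrPlus a l).obj (op T)) (t : T' ⟶ T) :
    t ≫ limitPt φ = lift (toUnit T' ≫ origin S) t ≫ und φ := by
  rw [limitPt_eq, ← Category.assoc, comp_lift, Category.comp_id, comp_origin]

/-- A limit point is fixed. -/
theorem isFixedBy_of_isLimitPt {a : AlgGrp.Action G X} {l : Red.Gm S ⟶ G} [IsMonHom l]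
    {T : Over S} {x y : T ⟶ X} (h : IsLimitPt a l x y) : IsFixedBy a l y := by
  obtain ⟨φ, -, rfl⟩ := h
  intro T' t g
  rw [comp_limitPt, ← attr_equivariant, incl_mul_origin]

end Origin

section Field

variable {k : Type u} [Field k] {G X : Over (Spec (CommRingCat.of k))} [GrpObj G]
  [IsSeparated X.hom]

local notation "𝕊" => Spec (CommRingCat.of k)

/-- An extension of the orbit map to the affine line is equivariant. -/
theorem equivariant_of_incl {a : AlgGrp.Action G X} {l : Red.Gm 𝕊 ⟶ G} [IsMonHom l]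
    {T : Over 𝕊} {x : T ⟶ X} {φ : A1 𝕊 ⊗ T ⟶ X} (h : (incl 𝕊 ▷ T) ≫ φ = orb a l x)
    (T' : Over 𝕊) (g : T' ⟶ Red.Gm 𝕊) (b : T' ⟶ A1 𝕊) (t : T' ⟶ T) :
    lift ((g ≫ incl 𝕊) * b) t ≫ φ = lift (g ≫ l) (lift b t ≫ φ) ≫ a.act := by
  have key : lift ((fst (Red.Gm 𝕊) (A1 𝕊 ⊗ T) ≫ incl 𝕊) * (snd _ _ ≫ fst _ _)) (snd _ _ ≫ snd _ _)
      ≫ φ = lift (fst _ _ ≫ l) (snd _ _ ≫ φ) ≫ a.act := by
    apply Dense.hom_ext₂
    apply Magnet.hom_ext_lift₂
    intro T'' g z
    obtain ⟨g', t, rfl⟩ : ∃ g' t, z = lift g' t := ⟨z ≫ fst _ _, z ≫ snd _ _, by simp⟩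
    have h1 : ∀ (r : T'' ⟶ Red.Gm 𝕊), lift (r ≫ incl 𝕊) t ≫ φ = lift (r ≫ l) (t ≫ x) ≫ a.act := by
      intro r
      rw [← lift_orb, ← h, ← Category.assoc, lift_whiskerRight]
    rw [← Category.assoc, ← Category.assoc, lift_whiskerLeft, lift_whiskerRight,
      ← Category.assoc, ← Category.assoc, lift_whiskerLeft, lift_whiskerRight]
    rw [comp_lift, comp_lift, MonObj.comp_mul]
    simp only [lift_fst_assoc, lift_snd_assoc, lift_fst, lift_snd]
    rw [← MonObj.mul_comp, h1, h1, MonObj.mul_comp, lift_mul_act]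
  have h2 := lift g (lift b t) ≫= key
  rw [comp_lift_assoc, comp_lift_assoc, MonObj.comp_mul] at h2
  simpa only [lift_fst_assoc, lift_snd_assoc, lift_fst, lift_snd] using h2

/-- For separated `X`, `y` is the limit of `l(u) · x` if and only if some morphism from the affine
line extends the orbit map and has value `y` at the origin. -/
theorem isLimitPt_iff (a : AlgGrp.Action G X) (l : Red.Gm 𝕊 ⟶ G) [IsMonHom l] {T : Over 𝕊}
    (x y : T ⟶ X) :
    IsLimitPt a l x y ↔ ∃ φ : A1 𝕊 ⊗ T ⟶ X, (incl 𝕊 ▷ T) ≫ φ = orb a l x ∧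
      lift (toUnit T ≫ origin 𝕊) (𝟙 T) ≫ φ = y := by
  constructor
  · rintro ⟨φ, h1, h2⟩
    exact ⟨und φ, incl_attr φ h1, by rw [← h2, limitPt_eq]⟩
  · rintro ⟨φ, h1, h2⟩
    refine ⟨mkAttr φ (equivariant_of_incl h1), ?_, ?_⟩
    · rw [attrToX_eq, und_mkAttr]
      have h3 : lift (1 : T ⟶ A1 𝕊) (𝟙 T) = lift (1 : T ⟶ Red.Gm 𝕊) (𝟙 T) ≫ (incl 𝕊 ▷ T) := by
        rw [lift_whiskerRight, MonObj.one_comp]
      rw [h3, Category.assoc, h1, lift_orb, MonObj.one_comp, lift_one_act, Category.id_comp]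
    · rw [limitPt_eq]
      exact h2

theorem isLimitPt_unique {a : AlgGrp.Action G X} {l : Red.Gm 𝕊 ⟶ G} [IsMonHom l] {T : Over 𝕊}
    {x y y' : T ⟶ X} (h : IsLimitPt a l x y) (h' : IsLimitPt a l x y') : y = y' := by
  rw [isLimitPt_iff] at h h'
  obtain ⟨φ, h1, rfl⟩ := h
  obtain ⟨φ', h1', rfl⟩ := h'
  rw [Dense.hom_ext₁ (h1.trans h1'.symm)]

omit [IsSeparated X.hom] in
/-- A fixed point is its own limit. -/
theorem isLimitPt_self {a : AlgGrp.Action G X} {l : Red.Gm 𝕊 ⟶ G} [IsMonHom l] {T : Over 𝕊}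
    {y : T ⟶ X} (hy : IsFixedBy a l y) : IsLimitPt a l y y := by
  refine ⟨mkAttr (snd _ _ ≫ y) (fun T' g b t => ?_), ?_, ?_⟩
  · rw [lift_snd_assoc, lift_snd_assoc, hy T' t g]
  · rw [attrToX_eq, und_mkAttr, lift_snd_assoc, Category.id_comp]
  · rw [limitPt_eq]
    change lift _ _ ≫ snd _ _ ≫ y = y
    rw [lift_snd_assoc, Category.id_comp]

end Field

end K691.Limit

end
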