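import Groth.Agent.GIT.K686.CoactOf
import Groth.Agent.Desc.QAffDesc
import Groth.Agent.Localalg.GrpSchPts
import Groth.Agent.Magnet.K951.Prod
import Groth.Agent.GIT.K691.Limit

/-!
# The coaction on the functions of a quasi-compact quasi-separated scheme with an action

`k` a field, `C` a commutative Hopf algebra over `k`, `e : Spec C ≅ G` an isomorphism of group schemes, `V` a
quasi-compact and quasi-separated scheme over `k` with an action of `G`: then `Γ(V)` is a comodule algebra
over `C` (the right action is `x · g = g⁻¹ x`).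

* `can_bijective`: `Γ(V) ⊗ B ≅ Γ(V × Spec B)`;
* `evT`: the value of an element of `Γ(V) ⊗ B` at a pair of points;
* `rho`, `evT_rho`: the coaction and its values.
-/

set_option autoImplicit false

universe u

open CategoryTheory CategoryTheory.Limits MonoidalCategory CartesianMonoidalCategory MonObj
  AlgebraicGeometry Opposite
open scoped TensorProduct

noncomputable section

namespace K691.GCoact

open K951.Pts K951.Prd

attribute [local instance] K951.Pts.algΓ

variable {k : Type u} [Field k]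

local notation "𝕊" => Spec (CommRingCat.of k)

/-- Pull-back of functions as an algebra map. -/
def pbA {W V : Over (Spec (CommRingCat.of k))} (f : W ⟶ V) : Γ(V.left, ⊤) →ₐ[k] Γ(W.left, ⊤) where
  __ := f.left.appTop.hom
  commutes' c := by
    have h := fnS_comp f.left (B := k) V.hom
    rw [Over.w] at h
    exact (congr($h c)).symm

theorem pbA_apply {W V : Over 𝕊} (f : W ⟶ V) (x : Γ(V.left, ⊤)) : pbA f x = pb f x := rfl

theorem pbA_comp {W W' V : Over 𝕊} (g : W' ⟶ W) (f : W ⟶ V) : pbA (g ≫ f) = (pbA g).comp (pbA f) := by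
  apply AlgHom.ext
  intro x
  exact pb_comp_apply g f x

variable {B : Type u} [CommRing B] [Algebra k B]

/-- The value of an element of `Γ(V) ⊗ B` at a point of `V` and a point of `Spec B`. -/
def evT {W V : Over (Spec (CommRingCat.of k))} (v : W ⟶ V) (b : W ⟶ CoactBr.sp k B) :
    Γ(V.left, ⊤) ⊗[k] B →ₐ[k] Γ(W.left, ⊤) :=
  Algebra.TensorProduct.lift (pbA v) (fn b) fun _ _ => Commute.all _ _

theorem evT_tmul {W V : Over 𝕊} (v : W ⟶ V) (b : W ⟶ CoactBr.sp k B) (x : Γ(V.left, ⊤)) (y : B) :
    evT v b (x ⊗ₜ y) = pb v x * fn b y := by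
  rw [evT, Algebra.TensorProduct.lift_tmul]
  rfl

theorem pb_evT {W W' V : Over 𝕊} (g : W' ⟶ W) (v : W ⟶ V) (b : W ⟶ CoactBr.sp k B)
    (t : Γ(V.left, ⊤) ⊗[k] B) : pb g (evT v b t) = evT (g ≫ v) (g ≫ b) t := by
  induction t with
  | zero => simp
  | add s t hs ht => rw [map_add, map_add, map_add, hs, ht]
  | tmul x y => rw [evT_tmul, evT_tmul, map_mul, pb_comp_apply, fn_comp]

variable (V : Over (Spec (CommRingCat.of k))) (B)

/-- The canonical map `Γ(V) ⊗ B → Γ(V × Spec B)`. -/
def can : Γ(V.left, ⊤) ⊗[k] B →ₐ[k] Γ((V ⊗ CoactBr.sp k B).left, ⊤) :=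
  evT (fst _ _) (snd _ _)

theorem flat_sp : Flat (CoactBr.sp k B).hom := by
  have h : Flat (Spec.map (CommRingCat.ofHom (algebraMap k B))) := by
    rw [Flat.SpecMap_iff]
    exact (RingHom.flat_algebraMap_iff).2 inferInstance
  exact h

theorem isPushout_can [CompactSpace V.left] [QuasiSeparatedSpace V.left] :
    IsPushout (CommRingCat.ofHom (algebraMap k Γ(V.left, ⊤))) (CommRingCat.ofHom (algebraMap k B))
      (fst V (CoactBr.sp k B)).left.appTop
      (CommRingCat.ofHom (fn (snd V (CoactBr.sp k B))).toRingHom) := by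
  have hf : Flat (CoactBr.sp k B).hom := flat_sp B
  have H := Groth.Agent.Localalg.GrpSchPts.isPullback_tensor V (CoactBr.sp k B)
  have hA : IsAffine (Spec (CommRingCat.of k)) := inferInstance
  have hT : IsAffine (CoactBr.sp k B).left := inferInstanceAs (IsAffine (Spec (CommRingCat.of B)))
  have h := Groth.Agent.Desc.QAffDesc.isPushout_appTop_of_flat (f := (CoactBr.sp k B).hom) H
  refine IsPushout.of_iso h (Scheme.ΓSpecIso (CommRingCat.of k)) (Iso.refl _)
    (Scheme.ΓSpecIso (CommRingCat.of B)) (Iso.refl _) ?_ ?_ ?_ ?_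
  · have e : CommRingCat.ofHom (algebraMap k Γ(V.left, ⊤)) =
        (Scheme.ΓSpecIso (CommRingCat.of k)).inv ≫ V.hom.appTop := rfl
    rw [e, Iso.hom_inv_id_assoc]
    exact Category.comp_id _
  · exact (Scheme.ΓSpecIso_naturality (CommRingCat.ofHom (algebraMap k B)))
  · exact (Category.comp_id _).trans (Category.id_comp _).symm
  · have e : CommRingCat.ofHom (fn (snd V (CoactBr.sp k B))).toRingHom =
        (Scheme.ΓSpecIso (CommRingCat.of B)).inv ≫ (snd V (CoactBr.sp k B)).left.appTop := rfl
    rw [e]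
    exact (Category.comp_id _).trans (Iso.hom_inv_id_assoc _ _).symm

theorem can_bijective [CompactSpace V.left] [QuasiSeparatedSpace V.left] :
    Function.Bijective (can B V) := by
  have h := isPushout_can B V
  let e := (CommRingCat.isPushout_tensorProduct k Γ(V.left, ⊤) B).isoIsPushout _ _ h
  have h1 : ∀ b, e.hom (Algebra.TensorProduct.includeLeftRingHom b) =
      (fst V (CoactBr.sp k B)).left.appTop b := fun b ↦
    ConcreteCategory.congr_hom
      ((CommRingCat.isPushout_tensorProduct k Γ(V.left, ⊤) B).inl_isoIsPushout_hom _ _ h) b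
  have h2 : ∀ c, e.hom (Algebra.TensorProduct.includeRight (R := k) (A := Γ(V.left, ⊤)) c) =
      fn (snd V (CoactBr.sp k B)) c := fun c ↦
    ConcreteCategory.congr_hom
      ((CommRingCat.isPushout_tensorProduct k Γ(V.left, ⊤) B).inr_isoIsPushout_hom _ _ h) c
  have h3 : ∀ t : Γ(V.left, ⊤) ⊗[k] B, e.hom.hom t = can B V t := by
    intro t
    induction t with
    | zero => rw [map_zero, map_zero]
    | add s t hs ht => rw [map_add, map_add, hs, ht]
    | tmul x y =>
      have e1 : (x ⊗ₜ[k] y : Γ(V.left, ⊤) ⊗[k] B) =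
          Algebra.TensorProduct.includeLeftRingHom x *
            Algebra.TensorProduct.includeRight (R := k) (A := Γ(V.left, ⊤)) y := by simp
      rw [can, evT_tmul]
      exact (congrArg e.hom.hom e1).trans ((map_mul e.hom.hom _ _).trans
        (congrArg₂ (· * ·) (h1 x) (h2 y)))
  have h4 : ⇑(can B V) = ⇑(ConcreteCategory.hom e.hom) := funext fun t => (h3 t).symm
  rw [h4]
  exact ConcreteCategory.bijective_of_isIso e.hom

variable {B} {V}

/-- Elements of `Γ(V) ⊗ B` are determined by their values. -/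
theorem ext_evT [CompactSpace V.left] [QuasiSeparatedSpace V.left] {s t : Γ(V.left, ⊤) ⊗[k] B}
    (h : evT (fst V (CoactBr.sp k B)) (snd V (CoactBr.sp k B)) s =
      evT (fst V (CoactBr.sp k B)) (snd V (CoactBr.sp k B)) t) : s = t :=
  (can_bijective B V).1 h

section Action

variable {G V : Over (Spec (CommRingCat.of k))} [GrpObj G] (Φ : AlgGrp.Action G V)
  {C : Type u} [CommRing C] [HopfAlgebra k C] (e : CoactBr.sp k C ≅ G)

/-- The right action `v · g = g⁻¹ v`. -/
def ract : V ⊗ CoactBr.sp k C ⟶ V :=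
  lift ((snd V (CoactBr.sp k C) ≫ e.hom)⁻¹) (fst _ _) ≫ Φ.act

theorem lift_ract {W : Over 𝕊} (v : W ⟶ V) (g : W ⟶ CoactBr.sp k C) :
    lift v g ≫ ract Φ e = lift (g ≫ e.hom)⁻¹ v ≫ Φ.act := by
  rw [ract, ← Category.assoc, comp_lift, lift_fst, GrpObj.comp_inv, ← Category.assoc, lift_snd]

theorem ract_mul [IsMonHom e.hom] {W : Over 𝕊} (v : W ⟶ V) (g h : W ⟶ CoactBr.sp k C) :
    lift (lift v g ≫ ract Φ e) h ≫ ract Φ e = lift v (g * h) ≫ ract Φ e := by
  rw [lift_ract, lift_ract, lift_ract, ← Limit.lift_mul_act, MonObj.mul_comp, mul_inv_rev]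

theorem ract_one [IsMonHom e.hom] {W : Over 𝕊} (v : W ⟶ V) :
    lift v (1 : W ⟶ CoactBr.sp k C) ≫ ract Φ e = v := by
  rw [lift_ract, MonObj.one_comp, inv_one, Limit.lift_one_act]

variable [CompactSpace V.left] [QuasiSeparatedSpace V.left]

/-- The coaction on the functions on `V`. -/
def rho : Γ(V.left, ⊤) →ₐ[k] Γ(V.left, ⊤) ⊗[k] C :=
  (AlgEquiv.ofBijective (can C V) (can_bijective C V)).symm.toAlgHom.comp (pbA (ract Φ e))

theorem can_rho (f : Γ(V.left, ⊤)) : can C V (rho Φ e f) = pb (ract Φ e) f :=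
  (AlgEquiv.ofBijective (can C V) (can_bijective C V)).apply_symm_apply _

theorem evT_rho {W : Over 𝕊} (v : W ⟶ V) (g : W ⟶ CoactBr.sp k C) (f : Γ(V.left, ⊤)) :
    evT v g (rho Φ e f) = pb (lift v g ≫ ract Φ e) f := by
  rw [pb_comp_apply, ← can_rho, can, pb_evT, lift_fst, lift_snd]

theorem coassoc [IsMonHom e.hom] (f : Γ(V.left, ⊤)) :
    (TensorProduct.assoc k Γ(V.left, ⊤) C C) ((rho Φ e).toLinearMap.rTensor C (rho Φ e f)) =
      (CoalgebraStruct.comul (R := k) (A := C)).lTensor Γ(V.left, ⊤) (rho Φ e f) := by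
  apply ext_evT
  set v := fst V (CoactBr.sp k (C ⊗[k] C))
  set c := snd V (CoactBr.sp k (C ⊗[k] C))
  let g := c ≫ CoactBr.pt (Algebra.TensorProduct.includeLeft : C →ₐ[k] C ⊗[k] C)
  let h := c ≫ CoactBr.pt (Algebra.TensorProduct.includeRight : C →ₐ[k] C ⊗[k] C)
  have hgh : fn c = Algebra.TensorProduct.lift (fn g) (fn h) fun _ _ => Commute.all _ _ := by
    apply Algebra.TensorProduct.ext
    · rw [Algebra.TensorProduct.lift_comp_includeLeft, fn_comp_pt]
    · rw [Algebra.TensorProduct.lift_comp_includeRight, fn_comp_pt]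
      rfl
  have h1 : ∀ t : Γ(V.left, ⊤) ⊗[k] C,
      evT v c ((CoalgebraStruct.comul (R := k) (A := C)).lTensor Γ(V.left, ⊤) t) =
        evT v (g * h) t := by
    intro t
    induction t with
    | zero => simp
    | add s t hs ht => rw [map_add, map_add, map_add, hs, ht]
    | tmul x y =>
      rw [LinearMap.lTensor_tmul, evT_tmul, evT_tmul, fn_mul, hgh]
      rfl
  have h2 : ∀ (s : Γ(V.left, ⊤) ⊗[k] C) (y : C),
      evT v c ((TensorProduct.assoc k Γ(V.left, ⊤) C C) (s ⊗ₜ y)) = evT v g s * fn h y := by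
    intro s y
    induction s with
    | zero => simp
    | add s t hs ht => rw [TensorProduct.add_tmul, map_add, map_add, map_add, hs, ht, add_mul]
    | tmul x z =>
      rw [TensorProduct.assoc_tmul, evT_tmul, evT_tmul, hgh, Algebra.TensorProduct.lift_tmul,
        _root_.mul_assoc]
  have h3 : ∀ t : Γ(V.left, ⊤) ⊗[k] C,
      evT v c ((TensorProduct.assoc k Γ(V.left, ⊤) C C) ((rho Φ e).toLinearMap.rTensor C t)) =
        evT (lift v g ≫ ract Φ e) h t := by
    intro t
    induction t with
    | zero => simp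
    | add s t hs ht => rw [map_add, map_add, map_add, map_add, hs, ht]
    | tmul x y =>
      rw [LinearMap.rTensor_tmul, h2, evT_tmul]
      congr 1
      exact evT_rho Φ e v g x
  rw [h3, h1, evT_rho, evT_rho, ract_mul]

theorem counit [IsMonHom e.hom] (f : Γ(V.left, ⊤)) :
    (CoalgebraStruct.counit (R := k) (A := C)).lTensor Γ(V.left, ⊤) (rho Φ e f) =
      f ⊗ₜ[k] (1 : k) := by
  apply ext_evT
  set v := fst V (CoactBr.sp k k)
  set c := snd V (CoactBr.sp k k)
  have hc : ∀ z : k, fn c z = algebraMap k _ z := fun z => (fn c).commutes z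
  have h1 : ∀ t : Γ(V.left, ⊤) ⊗[k] C,
      evT v c ((CoalgebraStruct.counit (R := k) (A := C)).lTensor Γ(V.left, ⊤) t) =
        evT v (1 : _ ⟶ CoactBr.sp k C) t := by
    intro t
    induction t with
    | zero => simp
    | add s t hs ht => rw [map_add, map_add, map_add, hs, ht]
    | tmul x y =>
      rw [LinearMap.lTensor_tmul, evT_tmul, evT_tmul, fn_one, hc]
      rfl
  rw [h1, evT_rho, ract_one, evT_tmul, map_one, _root_.mul_one]

/-- The comodule structure on the functions on `V`. -/
@[reducible] def comod [IsMonHom e.hom] : HopfRep.Comod k C Γ(V.left, ⊤) where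
  coact := (rho Φ e).toLinearMap
  coassoc := by
    ext f
    exact coassoc Φ e f
  counit_comp := by
    ext f
    exact counit Φ e f

theorem isCoactAlg [IsMonHom e.hom] :
    letI := comod Φ e
    GLin.IsCoactAlg k C Γ(V.left, ⊤) :=
  letI := comod Φ e
  { coact_one := map_one (rho Φ e)
    coact_mul := fun f g => map_mul (rho Φ e) f g }

/-- The invariants of the coaction are the invariant functions. -/
theorem rho_eq_iff (f : Γ(V.left, ⊤)) :
    rho Φ e f = f ⊗ₜ[k] (1 : C) ↔ Φ.act.left.appTop f = (snd G V).left.appTop f := by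
  constructor
  · intro h
    have h1 := evT_rho Φ e (snd G V) ((fst G V)⁻¹ ≫ e.inv) f
    rw [h, evT_tmul, map_one, _root_.mul_one, lift_ract, Category.assoc, Iso.inv_hom_id,
      Category.comp_id, inv_inv, lift_fst_snd, Category.id_comp] at h1
    exact h1.symm
  · intro h
    apply ext_evT
    rw [evT_rho, evT_tmul, map_one, _root_.mul_one, lift_ract, pb_comp_apply]
    have h1 : pb Φ.act f = pb (snd G V) f := h
    rw [h1, ← pb_comp_apply, lift_snd]

end Action

end K691.GCoact

end
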