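import Groth.Agent.GIT.K691.MuKey

/-!
# The order of vanishing along the arc of a limit is the weight on the fibre
-/

set_option autoImplicit false

universe u

open CategoryTheory CategoryTheory.Limits MonoidalCategory CartesianMonoidalCategory MonObj
  AlgebraicGeometry Opposite

noncomputable section

namespace K691.MuKey

open HMNum K951.Pts K951.Prd K691.Limit K691.FibreWt K691.FibPt K691.Arc K691.Fps

variable {k : Type u} [Field k] {G X : Over (Spec (CommRingCat.of k))} [GrpObj G]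
  {a : AlgGrp.Action G X} (B : GLinSh.LinBun G a)

local notation "𝕊" => Spec (CommRingCat.of k)

/-- The generic point of the arc of the translates of a point of the total space. -/
def vL (l : Red.Gm (Spec (CommRingCat.of k)) ⟶ G)
    (v₀ : 𝟙_ (Over (Spec (CommRingCat.of k))) ⟶ B.V) : CoactBr.sp k (L k) ⟶ B.V :=
  lift (bG k ≫ l) (toUnit _ ≫ v₀) ≫ B.lift.act

variable {B}

theorem vL_π {l : Red.Gm (Spec (CommRingCat.of k)) ⟶ G} {x y : 𝟙_ (Over 𝕊) ⟶ X} {F : A1 𝕊 ⟶ X}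
    (hF : IsArc a l x y F) {v₀ : 𝟙_ (Over 𝕊) ⟶ B.V} (hv : v₀ ≫ B.π = x) :
    vL B l v₀ ≫ B.π = genι k ≫ bO k ≫ F := by
  rw [vL, act_comp_π, Category.assoc, hv, ← hF.orb, ← Category.assoc (genι k), genι_bO]

theorem cls_F {l : Red.Gm (Spec (CommRingCat.of k)) ⟶ G} {x y : 𝟙_ (Over 𝕊) ⟶ X} {F : A1 𝕊 ⟶ X}
    (hF : IsArc a l x y F) : cls k ≫ bO k ≫ F = toUnit _ ≫ y := by
  rw [← Category.assoc, cls_bO, Category.assoc, hF.lim]

theorem arc_le {l : Red.Gm (Spec (CommRingCat.of k)) ⟶ G} {x y : 𝟙_ (Over 𝕊) ⟶ X} {F : A1 𝕊 ⟶ X}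
    (hF : IsArc a l x y F) {U : X.left.Opens} (hU : y.left ⁻¹ᵁ U = ⊤) :
    (bO k ≫ F).left ⁻¹ᵁ U = ⊤ := by
  apply land
  rw [cls_F hF]
  have e : (toUnit (CoactBr.sp k k) ≫ y).left ⁻¹ᵁ U =
    (toUnit (CoactBr.sp k k)).left ⁻¹ᵁ (y.left ⁻¹ᵁ U) := rfl
  rw [e, hU]
  rfl

theorem vL_le {l : Red.Gm (Spec (CommRingCat.of k)) ⟶ G} {x y : 𝟙_ (Over 𝕊) ⟶ X} {F : A1 𝕊 ⟶ X}
    (hF : IsArc a l x y F) {v₀ : 𝟙_ (Over 𝕊) ⟶ B.V} (hv : v₀ ≫ B.π = x) {U : X.left.Opens}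
    (hU : y.left ⁻¹ᵁ U = ⊤) : ⊤ ≤ (vL B l v₀).left ⁻¹ᵁ (B.π.left ⁻¹ᵁ U) := by
  have e : (vL B l v₀).left ⁻¹ᵁ (B.π.left ⁻¹ᵁ U) = (vL B l v₀ ≫ B.π).left ⁻¹ᵁ U := rfl
  rw [e, vL_π hF hv]
  have e2 : (genι k ≫ bO k ≫ F).left ⁻¹ᵁ U = (genι k).left ⁻¹ᵁ ((bO k ≫ F).left ⁻¹ᵁ U) := rfl
  rw [e2, arc_le hF hU]
  exact le_rfl

/-- The coordinate of the generic point of the arc has order the weight of the limit. -/
theorem ord_coord [Infinite k] {l : Red.Gm (Spec (CommRingCat.of k)) ⟶ G} [IsMonHom l]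
    {x y : 𝟙_ (Over 𝕊) ⟶ X}
    {F : A1 𝕊 ⟶ X} (hF : IsArc a l x y F) {w : ℤ} (hw : HasFibreWeight B l y w)
    {v₀ : 𝟙_ (Over 𝕊) ⟶ B.V} (hv : v₀ ≫ B.π = x) (hnz : NZ B v₀) {U : X.left.Opens}
    {yc : Γ(B.V.left, B.π.left ⁻¹ᵁ U)} (hyc : yc ∈ B.atlas.chart U) (hU : y.left ⁻¹ᵁ U = ⊤) :
    ∃ u : (PowerSeries k)ˣ, (γ (k := k) (L k)).symm (evalFn B.π yc (vL B l v₀) (vL_le hF hv hU)) =
      bL k ^ w * algebraMap (PowerSeries k) (L k) u := by
  set p := bO k ≫ F with hp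
  have hpU := arc_le hF hU
  have hunit : IsUnit (evalFn B.π yc (vL B l v₀) (vL_le hF hv hU)) :=
    (hnz.comp (toUnit _)).isUnit_act _ hyc _
  obtain ⟨c, hc⟩ := exists_coef B hyc hyc
  -- the pairs `(s, arc)`
  have hpair : ∀ s : kˣ, ⊤ ≤ (lift (cst s ≫ l) p).left ⁻¹ᵁ
      (a.act.left ⁻¹ᵁ U ⊓ (snd G X).left ⁻¹ᵁ U) := by
    intro s
    refine pair_le _ _ hpU.ge ?_
    have e1 : lift (cst s ≫ l) p ≫ a.act = rO s ≫ p := by
      rw [hp, ← Category.assoc (rO s), rO_bO, hF.eqv]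
    rw [e1]
    have e2 : (rO s ≫ p).left ⁻¹ᵁ U = (rO s).left ⁻¹ᵁ (p.left ⁻¹ᵁ U) := rfl
    rw [e2, hpU]
    exact le_rfl
  have hpairG : ∀ s : kˣ, ⊤ ≤ (lift (cst s ≫ l) (vL B l v₀ ≫ B.π)).left ⁻¹ᵁ
      (a.act.left ⁻¹ᵁ U ⊓ (snd G X).left ⁻¹ᵁ U) := by
    intro s
    rw [vL_π hF hv, ← comp_cst (genι k) s, Category.assoc, ← comp_lift]
    have e2 : (genι k ≫ lift (cst s ≫ l) p).left ⁻¹ᵁ
        (a.act.left ⁻¹ᵁ U ⊓ (snd G X).left ⁻¹ᵁ U) = (genι k).left ⁻¹ᵁ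
        ((lift (cst s ≫ l) p).left ⁻¹ᵁ (a.act.left ⁻¹ᵁ U ⊓ (snd G X).left ⁻¹ᵁ U)) := rfl
    rw [e2]
    intro z _
    exact hpair s (show (genι k).left z ∈ (⊤ : (CoactBr.sp k (PowerSeries k)).left.Opens)
      from trivial)
  let C : kˣ → PowerSeries k := fun s =>
    (γ (k := k) (PowerSeries k)).symm (ev (lift (cst s ≫ l) p).left (hpair s) c)
  refine exists_unit_of_scaling (q := (γ (k := k) (L k)).symm
    (evalFn B.π yc (vL B l v₀) (vL_le hF hv hU))) ?_ w C ?_ ?_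
  · exact (hunit.map (γ (k := k) (L k)).symm).ne_zero
  · -- scaling
    intro s
    have e1 : rL s ≫ vL B l v₀ = lift (cst s ≫ l) (vL B l v₀) ≫ B.lift.act := by
      rw [vL, ← Category.assoc, comp_lift, ← Category.assoc, rL_bG, MonObj.mul_comp,
        lift_mul_act, ← Category.assoc (rL s), toUnit_unique (rL s ≫ toUnit _) (toUnit _)]
    have h1 : scL s ((γ (k := k) (L k)).symm (evalFn B.π yc (vL B l v₀) (vL_le hF hv hU))) =
        (γ (k := k) (L k)).symm (pb (rL s) (evalFn B.π yc (vL B l v₀) (vL_le hF hv hU))) :=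
      (pb_pt_γ_symm (k := k) (scL s) _).symm
    rw [h1]
    have hle : ⊤ ≤ (rL s ≫ vL B l v₀).left ⁻¹ᵁ (B.π.left ⁻¹ᵁ U) :=
      le_of_comp B (rL s) (vL_le hF hv hU)
    have h2 : pb (rL s) (evalFn B.π yc (vL B l v₀) (vL_le hF hv hU)) =
        evalFn B.π yc (rL s ≫ vL B l v₀) hle := (evalFn_comp B.π yc (rL s) (vL B l v₀) _ _).symm
    have hle2 : ⊤ ≤ (lift (cst s ≫ l) (vL B l v₀) ≫ B.lift.act).left ⁻¹ᵁ
        (B.π.left ⁻¹ᵁ U) := by rw [← e1]; exact hle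
    have h3 := hc (cst s ≫ l) (vL B l v₀) (vL_le hF hv hU) hle2 (hpairG s)
    rw [h2, evalFn_congr B.π yc e1 hle hle2, h3, map_mul]
    congr 1
    have e3 : lift (cst s ≫ l) (vL B l v₀ ≫ B.π) = genι k ≫ lift (cst s ≫ l) p := by
      rw [vL_π hF hv, ← comp_cst (genι k) s, Category.assoc, ← comp_lift]
    have hle3 : ⊤ ≤ (genι k ≫ lift (cst s ≫ l) p).left ⁻¹ᵁ
        (a.act.left ⁻¹ᵁ U ⊓ (snd G X).left ⁻¹ᵁ U) := by rw [← e3]; exact hpairG s
    have h4 : ev (lift (cst s ≫ l) (vL B l v₀ ≫ B.π)).left (hpairG s) c =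
        ev (genι k ≫ lift (cst s ≫ l) p).left hle3 c := by
      apply ev_congr
      rw [e3]
    have h5 : ev (genι k ≫ lift (cst s ≫ l) p).left hle3 c =
        pb (genι k) (ev (lift (cst s ≫ l) p).left (hpair s) c) :=
      ev_comp (genι k).left (lift (cst s ≫ l) p).left (hpair s) hle3 c
    rw [h4, h5]
    exact pb_pt_γ_symm (k := k) (IsScalarTower.toAlgHom k (PowerSeries k) (L k)) _
  · -- the constant coefficient
    intro s
    obtain ⟨v, hvy, hv1⟩ := exists_pt_one B y hyc hU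
    have hvU : ⊤ ≤ v.left ⁻¹ᵁ (B.π.left ⁻¹ᵁ U) := by
      have e : v.left ⁻¹ᵁ (B.π.left ⁻¹ᵁ U) = (v ≫ B.π).left ⁻¹ᵁ U := rfl
      rw [e, hvy]; exact hU.ge
    let t : CoactBr.sp k k ⟶ 𝟙_ (Over 𝕊) := toUnit _
    have htv : (t ≫ v) ≫ B.π = t ≫ y := by rw [Category.assoc, hvy]
    have hfix := hw.1
    have hgv : (lift (cst s ≫ l) (t ≫ v) ≫ B.lift.act) ≫ B.π = t ≫ y := by
      rw [act_comp_π, htv]
      exact hfix _ t (cst s)
    have h1 := wt_chart B hw hyc hU t (cst s) (t ≫ v) htv hgv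
    have h2 : evalFn B.π yc (t ≫ v) (top_le_preimage B.π hU htv) = 1 := by
      rw [evalFn_comp B.π yc t v hvU, hv1, map_one]
    have hpk : ⊤ ≤ (lift (cst s ≫ l) ((t ≫ v) ≫ B.π)).left ⁻¹ᵁ
        (a.act.left ⁻¹ᵁ U ⊓ (snd G X).left ⁻¹ᵁ U) := by
      refine pair_le _ _ (top_le_preimage B.π hU htv) ?_
      have e : (lift (cst s ≫ l) ((t ≫ v) ≫ B.π) ≫ a.act) = t ≫ y := by
        rw [← act_comp_π, hgv]
      rw [e]
      have e2 : (t ≫ y).left ⁻¹ᵁ U = t.left ⁻¹ᵁ (y.left ⁻¹ᵁ U) := rfl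
      rw [e2, hU]
      exact le_rfl
    have h3 := hc (cst s ≫ l) (t ≫ v) (top_le_preimage B.π hU htv)
      (top_le_preimage B.π hU hgv) hpk
    rw [h1, h2, _root_.mul_one, _root_.mul_one] at h3
    have h4 : PowerSeries.constantCoeff (C s) = (γ (k := k) k).symm
        (pb (cls k) (ev (lift (cst s ≫ l) p).left (hpair s) c)) :=
      (pb_pt_γ_symm (k := k) (cc k) _).symm
    have hle4 : ⊤ ≤ (cls k ≫ lift (cst s ≫ l) p).left ⁻¹ᵁ
        (a.act.left ⁻¹ᵁ U ⊓ (snd G X).left ⁻¹ᵁ U) := by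
      intro z _
      exact hpair s (show (cls k).left z ∈ (⊤ : (CoactBr.sp k (PowerSeries k)).left.Opens)
        from trivial)
    have h5 : pb (cls k) (ev (lift (cst s ≫ l) p).left (hpair s) c) =
        ev (cls k ≫ lift (cst s ≫ l) p).left hle4 c :=
      (ev_comp (cls k).left (lift (cst s ≫ l) p).left (hpair s) hle4 c).symm
    have e6 : cls k ≫ lift (cst s ≫ l) p = lift (cst s ≫ l) ((t ≫ v) ≫ B.π) := by
      rw [comp_lift, hp, cls_F hF, htv, ← Category.assoc, comp_cst]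
    have h6 : ev (cls k ≫ lift (cst s ≫ l) p).left hle4 c =
        ev (lift (cst s ≫ l) ((t ≫ v) ≫ B.π)).left hpk c := by
      apply ev_congr
      rw [e6]
    rw [h4, h5, h6, ← h3, RingEquiv.symm_apply_eq]
    have h7 : GmPts.unitOfPt (cst s : CoactBr.sp k k ⟶ Red.Gm 𝕊) =
        Units.map (γ (k := k) k : k →* _) s := by
      ext
      rw [GmPts.val_unitOfPt, gmFn_cst, fnS_sp]
      rfl
    rw [h7, ← map_zpow, ← Units.val_zpow_eq_zpow_val]
    rfl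

/-- The value of a section of weight `n` along the arc of a limit. -/
theorem ord_section [Infinite k] {l : Red.Gm (Spec (CommRingCat.of k)) ⟶ G} [IsMonHom l]
    {x y : 𝟙_ (Over 𝕊) ⟶ X}
    {F : A1 𝕊 ⟶ X} (hF : IsArc a l x y F) {w : ℤ} (hw : HasFibreWeight B l y w)
    {v₀ : 𝟙_ (Over 𝕊) ⟶ B.V} (hv : v₀ ≫ B.π = x) (hnz : NZ B v₀) {f : Γ(B.V.left, ⊤)} {n : ℕ}
    (hf : GLinSh.HasWeight B.atlas.chart n f) :
    ∃ D : PowerSeries k, (γ (k := k) (L k)).symm (pb (vL B l v₀) f) =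
      bL k ^ ((n : ℤ) * w) * algebraMap (PowerSeries k) (L k) D ∧
      (PowerSeries.constantCoeff D ≠ 0 ↔ pt0 y ∈ GLinSh.nonvanishing B.π f) := by
  obtain ⟨U, yc, hyc, hU⟩ := exists_chart_pt B y
  obtain ⟨u, hu⟩ := ord_coord hF hw hv hnz hyc hU
  obtain ⟨d, hd⟩ := hf U yc hyc
  set p := bO k ≫ F with hp
  have hpU := arc_le hF hU
  have hle := vL_le hF hv hU
  refine ⟨(γ (k := k) (PowerSeries k)).symm (ev p.left hpU.ge d) * (u : PowerSeries k) ^ n,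
    ?_, ?_⟩
  · have h1 : pb (vL B l v₀) f = ev (vL B l v₀).left hle (GLinSh.resTop B.π U f) := by
      rw [GLinSh.resTop, ev_map (vL B l v₀).left le_top hle le_top, ev_top]
    have hle2 : ⊤ ≤ (vL B l v₀ ≫ B.π).left ⁻¹ᵁ U := hle
    have hle3 : ⊤ ≤ (genι k ≫ p).left ⁻¹ᵁ U := by rw [hp, ← vL_π hF hv]; exact hle2
    have h2 : ev (vL B l v₀).left hle (B.π.left.app U d) =
        pb (genι k) (ev p.left hpU.ge d) := by
      rw [ev_app (vL B l v₀).left B.π.left hle hle2]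
      have h3 : ev ((vL B l v₀).left ≫ B.π.left) hle2 d = ev (genι k ≫ p).left hle3 d := by
        apply ev_congr
        rw [hp, ← vL_π hF hv]
        rfl
      rw [h3]
      exact ev_comp (genι k).left p.left hpU.ge hle3 d
    rw [h1, hd, ev_mul, ev_pow, h2, map_mul, map_pow]
    have h4 : (γ (k := k) (L k)).symm (ev (vL B l v₀).left hle yc) =
      bL k ^ w * algebraMap (PowerSeries k) (L k) u := hu
    have h5 : (γ (k := k) (L k)).symm (pb (genι k) (ev p.left hpU.ge d)) =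
        algebraMap (PowerSeries k) (L k)
          ((γ (k := k) (PowerSeries k)).symm (ev p.left hpU.ge d)) :=
      pb_pt_γ_symm (k := k) (IsScalarTower.toAlgHom k (PowerSeries k) (L k)) _
    rw [h4, h5, mul_pow, map_mul, map_pow, ← zpow_natCast (bL k ^ w), ← zpow_mul,
      mul_comm w (n : ℤ)]
    ring
  · rw [mem_nonvanishing_iff B hyc hd y hU, map_mul, map_pow]
    have hu0 : PowerSeries.constantCoeff (u : PowerSeries k) ≠ 0 :=
      (u.isUnit.map PowerSeries.constantCoeff).ne_zero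
    have h1 : PowerSeries.constantCoeff
        ((γ (k := k) (PowerSeries k)).symm (ev p.left hpU.ge d)) =
        (γ (k := k) k).symm (pb (cls k) (ev p.left hpU.ge d)) :=
      (pb_pt_γ_symm (k := k) (cc k) _).symm
    have hle4 : ⊤ ≤ (cls k ≫ p).left ⁻¹ᵁ U := by
      intro z _
      exact hpU.ge (show (cls k).left z ∈ (⊤ : (CoactBr.sp k (PowerSeries k)).left.Opens)
        from trivial)
    have hle5 : ⊤ ≤ (toUnit (CoactBr.sp k k) ≫ y).left ⁻¹ᵁ U := by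
      rw [← cls_F hF]; exact hle4
    have h2 : pb (cls k) (ev p.left hpU.ge d) =
        pb (toUnit (CoactBr.sp k k)) (ev y.left hU.ge d) := by
      have h3 : pb (cls k) (ev p.left hpU.ge d) = ev (cls k ≫ p).left hle4 d :=
        (ev_comp (cls k).left p.left hpU.ge hle4 d).symm
      have h4 : ev (cls k ≫ p).left hle4 d =
          ev (toUnit (CoactBr.sp k k) ≫ y).left hle5 d := by
        apply ev_congr
        rw [hp, cls_F hF]
      rw [h3, h4]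
      exact ev_comp (toUnit (CoactBr.sp k k)).left y.left hU.ge hle5 d
    rw [h1, h2]
    obtain ⟨c, hc⟩ := (κ k).surjective (ev y.left hU.ge d)
    rw [← hc, pb_toUnit_κ, RingEquiv.symm_apply_apply, Algebra.algebraMap_self_apply,
      Ne, Ne, map_eq_zero_iff _ (κ k).injective, mul_eq_zero, or_iff_left (pow_ne_zero n hu0)]

end K691.MuKey

end
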