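import Groth.Agent.GIT.K691.FibreWt
import Groth.Agent.Sga3B.Pts

/-!
# Translation of the numerical function; conjugation by points of the parabolic `P(λ)`
-/

set_option autoImplicit false

universe u

open CategoryTheory CategoryTheory.Limits MonoidalCategory CartesianMonoidalCategory MonObj
  AlgebraicGeometry Opposite

noncomputable section

namespace K691.MuTranslate

open HMNum Limit FibreWt

variable {k : Type u} [Field k] {G X : Over (Spec (CommRingCat.of k))} [GrpObj G]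
  {a : AlgGrp.Action G X} (B : GLinSh.LinBun G a)

local notation "𝕊" => Spec (CommRingCat.of k)

theorem isMu_translate {l l' : Red.Gm 𝕊 ⟶ G} [IsMonHom l] [IsMonHom l'] {x : 𝟙_ (Over 𝕊) ⟶ X}
    {m : ℤ} (h : 𝟙_ (Over 𝕊) ⟶ G) (hl' : l' = conj h l) (hm : IsMu B l x m) :
    IsMu B l' (lift h x ≫ a.act) m := by
  obtain ⟨y, h1, h2⟩ := hm
  have h3 := isLimitPt_translate (l' := l') h hl' h1
  rw [toUnit_unique (toUnit (𝟙_ (Over 𝕊))) (𝟙 _), Category.id_comp] at h3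
  refine ⟨lift h y ≫ a.act, h3, ?_⟩
  subst hl'
  exact hasFibreWeight_translate_iff B h h2

theorem conj_inv_conj (h : 𝟙_ (Over 𝕊) ⟶ G) (l : Red.Gm 𝕊 ⟶ G) :
    conj h⁻¹ (conj h l) = l := by
  simp only [conj, GrpObj.comp_inv, inv_inv]
  group

/-- The numerical function at a translated point. -/
theorem isMu_act_iff {l l' : Red.Gm 𝕊 ⟶ G} [IsMonHom l] [IsMonHom l'] {x : 𝟙_ (Over 𝕊) ⟶ X}
    {m : ℤ} (h : 𝟙_ (Over 𝕊) ⟶ G) (hl' : l' = (toUnit _ ≫ h)⁻¹ * l * (toUnit _ ≫ h)) :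
    IsMu B l (lift h x ≫ a.act) m ↔ IsMu B l' x m := by
  have e : l' = conj h⁻¹ l := by
    rw [hl', conj, GrpObj.comp_inv, inv_inv]
  have e' : l = conj h l' := by
    rw [hl', conj]; group
  constructor
  · intro hm
    have := isMu_translate B h⁻¹ e hm
    rwa [← lift_mul_act, inv_mul_cancel, lift_one_act] at this
  · intro hm
    exact isMu_translate B h e' hm

theorem isMonHom_conj (h : 𝟙_ (Over 𝕊) ⟶ G) (l : Red.Gm 𝕊 ⟶ G) [IsMonHom l] :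
    IsMonHom (conj h l) :=
  Groth.Agent.Sga3B.Pts.isMonHom_of_points (G := Red.Gm 𝕊) (conj h l) (by
    intro T x y
    rw [comp_conj, comp_conj, comp_conj, MonObj.mul_comp]
    group)

/-- The values of the extension on `G_m`. -/
theorem extension_pt {l : Red.Gm 𝕊 ⟶ G} {g₀ : 𝟙_ (Over 𝕊) ⟶ G} {f : A1 𝕊 ⟶ G}
    (hf : incl 𝕊 ≫ f = l * (toUnit _ ≫ g₀) * l⁻¹) {T : Over 𝕊} (r : T ⟶ Red.Gm 𝕊) :
    (r ≫ incl 𝕊) ≫ f = (r ≫ l) * (toUnit _ ≫ g₀) * (r ≫ l)⁻¹ := by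
  rw [Category.assoc, hf, MonObj.comp_mul, MonObj.comp_mul, GrpObj.comp_inv, ← Category.assoc,
    toUnit_unique (r ≫ toUnit _) (toUnit T)]

theorem group_aux {Γ : Type*} [Group Γ] (g f l : Γ) (h : f * l = l * f) :
    g⁻¹ * l * g = (g⁻¹ * f) * l * (g⁻¹ * f)⁻¹ := by
  rw [_root_.mul_assoc g⁻¹ f l, h]
  group

/-- Equivariance of the extension to the affine line of `u ↦ l(u) g₀ l(u)⁻¹`. -/
theorem conj_extension [IsSeparated G.hom] {l : Red.Gm 𝕊 ⟶ G} [IsMonHom l]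
    {g₀ : 𝟙_ (Over 𝕊) ⟶ G} {f : A1 𝕊 ⟶ G}
    (hf : incl 𝕊 ≫ f = l * (toUnit _ ≫ g₀) * l⁻¹) {T : Over 𝕊} (g : T ⟶ Red.Gm 𝕊)
    (b : T ⟶ A1 𝕊) :
    ((g ≫ incl 𝕊) * b) ≫ f = (g ≫ l) * (b ≫ f) * (g ≫ l)⁻¹ := by
  have key : ((fst (Red.Gm 𝕊) (A1 𝕊 ⊗ 𝟙_ (Over 𝕊)) ≫ incl 𝕊) * (snd _ _ ≫ fst _ _)) ≫ f =
      (fst _ _ ≫ l) * ((snd _ _ ≫ fst _ _) ≫ f) * (fst _ _ ≫ l)⁻¹ := by
    apply Dense.hom_ext₂
    apply Magnet.hom_ext_lift₂
    intro T g z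
    obtain ⟨g', t, rfl⟩ : ∃ g' t, z = lift g' t := ⟨z ≫ fst _ _, z ≫ snd _ _, by simp⟩
    have e : ∀ {Z : Over 𝕊} (q : Red.Gm 𝕊 ⊗ (A1 𝕊 ⊗ 𝟙_ (Over 𝕊)) ⟶ Z), lift g (lift g' t) ≫
        (Red.Gm 𝕊 ◁ (incl 𝕊 ▷ 𝟙_ (Over 𝕊))) ≫ q = lift g (lift (g' ≫ incl 𝕊) t) ≫ q := by
      intro Z q
      rw [← Category.assoc, lift_whiskerLeft, lift_whiskerRight]
    rw [e, e, ← Category.assoc, MonObj.comp_mul, MonObj.comp_mul, MonObj.comp_mul,
      GrpObj.comp_inv]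
    simp only [← Category.assoc, lift_fst, lift_snd]
    rw [← MonObj.mul_comp, extension_pt hf, extension_pt hf, MonObj.mul_comp]
    group
  have h2 := lift g (lift b (toUnit T)) ≫= key
  rw [← Category.assoc, MonObj.comp_mul, MonObj.comp_mul, MonObj.comp_mul, GrpObj.comp_inv] at h2
  simpa only [← Category.assoc, lift_fst, lift_snd] using h2

/-- The numerical function does not change under conjugation by a point of `P(l)`. -/
theorem isMu_parabolic [IsSeparated G.hom] [IsSeparated X.hom] {l l' : Red.Gm 𝕊 ⟶ G}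
    [IsMonHom l] [IsMonHom l'] {x : 𝟙_ (Over 𝕊) ⟶ X} {m : ℤ}
    {g₀ : 𝟙_ (Over 𝕊) ⟶ G} {f : A1 𝕊 ⟶ G}
    (hf : incl 𝕊 ≫ f = l * (toUnit _ ≫ g₀) * l⁻¹)
    (hl' : l' = (toUnit _ ≫ g₀)⁻¹ * l * (toUnit _ ≫ g₀)) (hm : IsMu B l x m) :
    IsMu B l' x m := by
  obtain ⟨y, h1, h2⟩ := hm
  let f₀ : 𝟙_ (Over 𝕊) ⟶ G := origin 𝕊 ≫ f
  have hcomm : ∀ {T : Over 𝕊} (r : T ⟶ Red.Gm 𝕊),
      (r ≫ l) * (toUnit T ≫ f₀) * (r ≫ l)⁻¹ = toUnit T ≫ f₀ := by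
    intro T r
    have := conj_extension hf r (toUnit T ≫ origin 𝕊)
    rw [incl_mul_origin, Category.assoc] at this
    exact this.symm
  have hconj : l' = conj (g₀⁻¹ * f₀) l := by
    have h3 := hcomm (𝟙 (Red.Gm 𝕊))
    rw [Category.id_comp] at h3
    rw [hl', conj, MonObj.comp_mul, GrpObj.comp_inv]
    have h4 : (toUnit (Red.Gm 𝕊) ≫ f₀) * l = l * (toUnit _ ≫ f₀) := by
      nth_rw 1 [← h3]
      group
    exact group_aux _ _ _ h4
  refine ⟨lift (g₀⁻¹ * f₀) y ≫ a.act, ?_, ?_⟩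
  · rw [isLimitPt_iff] at h1 ⊢
    obtain ⟨φ, h3, h4⟩ := h1
    refine ⟨lift ((toUnit _ ≫ g₀)⁻¹ * (fst _ _ ≫ f)) φ ≫ a.act, ?_, ?_⟩
    · apply Magnet.hom_ext_lift₂
      intro T g t
      have h5 : lift (g ≫ incl 𝕊) t ≫ φ = lift (g ≫ l) (t ≫ x) ≫ a.act := by
        rw [← lift_orb, ← h3, ← Category.assoc, lift_whiskerRight]
      rw [← Category.assoc, lift_whiskerRight, comp_lift_assoc, h5, lift_orb, MonObj.comp_mul,
        GrpObj.comp_inv]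
      simp only [← Category.assoc, lift_fst]
      rw [extension_pt hf, ← lift_mul_act, hl', MonObj.comp_mul, MonObj.comp_mul,
        GrpObj.comp_inv, ← Category.assoc g,
        toUnit_unique (g ≫ toUnit _) (toUnit T),
        toUnit_unique (lift (g ≫ incl 𝕊) t ≫ toUnit _) (toUnit T)]
      congr 2
      group
    · rw [comp_lift_assoc, h4, MonObj.comp_mul, GrpObj.comp_inv]
      simp only [← Category.assoc, lift_fst]
      rw [toUnit_unique (lift (toUnit (𝟙_ (Over 𝕊)) ≫ origin 𝕊) (𝟙 (𝟙_ (Over 𝕊))) ≫ toUnit _)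
        (𝟙 _), toUnit_unique (toUnit (𝟙_ (Over 𝕊))) (𝟙 _), Category.id_comp, Category.id_comp]
  · subst hconj
    exact hasFibreWeight_translate_iff B _ h2

end K691.MuTranslate

end
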