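import Groth.Agent.GIT.K691.GCoact
import Groth.Agent.GIT.K691.MuOrd
import Groth.Agent.GIT.K691.MuTranslate
import Groth.Prelude.Def_SGA3t2b

/-!
# One-parameter subgroups on Hopf algebras and on group schemes

* `ptA x`: the rational point of the algebra of functions attached to a rational point;
* `fn_orbitHom`: the orbit homomorphism on points;
* `lamS e lam : G_m ⟶ G`, the one-parameter subgroup attached to `lam : C → k[T;T⁻¹]`: for the right action
  `v · g = g⁻¹ v` the left action of `lamS e lam` is the right action of `lam`;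
* `lamS_trivial`, `vL_value`.
-/

set_option autoImplicit false

universe u

open CategoryTheory CategoryTheory.Limits MonoidalCategory CartesianMonoidalCategory MonObj
  AlgebraicGeometry Opposite
open scoped TensorProduct LaurentPolynomial

noncomputable section

namespace K691.LamPS

open HMNum K951.Pts K951.Prd K691.GCoact K691.MuKey K691.Arc K691.Fps

attribute [local instance] K951.Pts.algΓ

variable {k : Type u} [Field k]

local notation "𝕊" => Spec (CommRingCat.of k)

theorem algebraMap_unit (c : k) : algebraMap k Γ((𝟙_ (Over 𝕊)).left, ⊤) c = κ k c := by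
  rw [algebraMap_algΓ]
  have h : (𝟙_ (Over 𝕊)).hom = 𝟙 𝕊 := rfl
  have h2 : fnS (B := k) (𝟙 𝕊) c = κ k c := by
    rw [fnS, Scheme.Hom.id_appTop]
    exact congrArg (fun f => f.hom c) (Category.comp_id (Scheme.ΓSpecIso (CommRingCat.of k)).inv)
  exact h2

/-- The inverse of `κ` as an algebra map. -/
def κA : Γ((𝟙_ (Over (Spec (CommRingCat.of k)))).left, ⊤) →ₐ[k] k where
  __ := (κ k).symm.toRingHom
  commutes' c := by
    rw [algebraMap_unit]
    exact (κ k).symm_apply_apply c

theorem κA_apply (x : Γ((𝟙_ (Over 𝕊)).left, ⊤)) : κA x = (κ k).symm x := rfl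

/-- The rational point of the algebra of functions attached to a rational point. -/
def ptA {V : Over (Spec (CommRingCat.of k))} (x : 𝟙_ (Over (Spec (CommRingCat.of k))) ⟶ V) :
    Γ(V.left, ⊤) →ₐ[k] k :=
  κA.comp (pbA x)

theorem ptA_apply {V : Over 𝕊} (x : 𝟙_ (Over 𝕊) ⟶ V) (f : Γ(V.left, ⊤)) :
    ptA x f = (κ k).symm (pb x f) := rfl

theorem pb_toUnit_comp {V W : Over 𝕊} (x : 𝟙_ (Over 𝕊) ⟶ V) (f : Γ(V.left, ⊤)) :
    pb (toUnit W ≫ x) f = algebraMap k Γ(W.left, ⊤) (ptA x f) := by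
  rw [pb_comp_apply]
  have h1 : pb x f = κ k (ptA x f) := by rw [ptA_apply, RingEquiv.apply_symm_apply]
  rw [h1, ← algebraMap_unit]
  exact (pbA (toUnit W)).commutes _

section Orbit

variable {G V : Over (Spec (CommRingCat.of k))} [GrpObj G] (Φ : AlgGrp.Action G V)
  {C : Type u} [CommRing C] [HopfAlgebra k C] (e : CoactBr.sp k C ≅ G) [IsMonHom e.hom]
  [CompactSpace V.left] [QuasiSeparatedSpace V.left]

theorem fn_orbitHom {W : Over 𝕊} (x : 𝟙_ (Over 𝕊) ⟶ V) (g : W ⟶ CoactBr.sp k C)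
    (f : Γ(V.left, ⊤)) :
    letI := comod Φ e
    haveI := isCoactAlg Φ e
    fn g (GLin.orbitHom k C (ptA x) f) = pb (lift (toUnit W ≫ x) g ≫ ract Φ e) f := by
  let := comod Φ e
  have := isCoactAlg Φ e
  have h1 : ∀ t : Γ(V.left, ⊤) ⊗[k] C, fn g ((Algebra.TensorProduct.lid k C)
      (Algebra.TensorProduct.map (ptA x) (AlgHom.id k C) t)) = evT (toUnit W ≫ x) g t := by
    intro t
    induction t with
    | zero => simp
    | add s t hs ht => rw [map_add, map_add, map_add, map_add, hs, ht]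
    | tmul y c =>
      rw [Algebra.TensorProduct.map_tmul, Algebra.TensorProduct.lid_tmul, map_smul, evT_tmul,
        pb_toUnit_comp, Algebra.smul_def]
      rfl
  rw [← evT_rho, ← h1]
  rfl

end Orbit

section Lam

variable {G : Over (Spec (CommRingCat.of k))} [GrpObj G]
  {C : Type u} [CommRing C] [HopfAlgebra k C] (e : CoactBr.sp k C ≅ G)

/-- Evaluation of Laurent polynomials at a point of the multiplicative group. -/
def evG {W : Over (Spec (CommRingCat.of k))} (g : W ⟶ Red.Gm (Spec (CommRingCat.of k))) :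
    k[T;T⁻¹] →ₐ[k] Γ(W.left, ⊤) :=
  AddMonoidAlgebra.lift k Γ(W.left, ⊤) ℤ (chi (M := ℤ) g)

theorem evG_T {W : Over 𝕊} (g : W ⟶ Red.Gm 𝕊) (n : ℤ) :
    evG g (LaurentPolynomial.T n) = chi (M := ℤ) g (Multiplicative.ofAdd n) := by
  rw [evG, LaurentPolynomial.T, AddMonoidAlgebra.lift_single, one_smul]

theorem laurent_hom_ext {R : Type*} [CommRing R] [Algebra k R] {f g : k[T;T⁻¹] →ₐ[k] R}
    (h : ∀ n : ℤ, f (LaurentPolynomial.T n) = g (LaurentPolynomial.T n)) : f = g := by
  refine AddMonoidAlgebra.algHom_ext ?_ ?_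
  · intro n
    exact h n
  · exact Subsingleton.elim _ _

theorem evG_comp {W W' : Over 𝕊} (v : W' ⟶ W) (g : W ⟶ Red.Gm 𝕊) :
    evG (v ≫ g) = (pbA v).comp (evG g) := by
  apply laurent_hom_ext
  intro n
  rw [AlgHom.comp_apply, evG_T, evG_T, chi_comp]
  rfl

theorem evG_mul {W : Over 𝕊} (g h : W ⟶ Red.Gm 𝕊) :
    evG (g * h) = (Algebra.TensorProduct.lift (evG g) (evG h) fun _ _ => Commute.all _ _).comp
      (Bialgebra.comulAlgHom k k[T;T⁻¹]) := by
  apply laurent_hom_ext
  intro n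
  rw [AlgHom.comp_apply, Bialgebra.comulAlgHom_apply, LaurentPolynomial.comul_T, 
    Algebra.TensorProduct.lift_tmul, evG_T, evG_T, evG_T, chi_mul]
  rfl

variable (lam : C →ₐc[k] k[T;T⁻¹])

/-- The one-parameter subgroup of `Spec C` attached to `lam`. -/
def lamC : Red.Gm (Spec (CommRingCat.of k)) ⟶ CoactBr.sp k C :=
  ofFn ((evG (𝟙 _)).comp (lam : C →ₐ[k] k[T;T⁻¹]))

theorem fn_lamC {W : Over 𝕊} (g : W ⟶ Red.Gm 𝕊) :
    fn (g ≫ lamC lam) = (evG g).comp (lam : C →ₐ[k] k[T;T⁻¹]) := by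
  apply AlgHom.ext
  intro c
  rw [fn_comp, lamC, fn_ofFn, AlgHom.comp_apply, AlgHom.comp_apply]
  have h := evG_comp g (𝟙 (Red.Gm 𝕊))
  rw [Category.comp_id] at h
  rw [h]
  rfl

theorem lamC_mul {W : Over 𝕊} (g h : W ⟶ Red.Gm 𝕊) :
    (g * h) ≫ lamC lam = (g ≫ lamC lam) * (h ≫ lamC lam) := by
  apply fn_injective
  rw [fn_lamC, fn_mul, fn_lamC, fn_lamC, evG_mul]
  apply AlgHom.ext
  intro c
  simp only [AlgHom.comp_apply, Bialgebra.comulAlgHom_apply]
  have h1 : CoalgebraStruct.comul (R := k) (lam c) =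
      TensorProduct.map (lam : C →ₗ[k] k[T;T⁻¹]) (lam : C →ₗ[k] k[T;T⁻¹])
        (CoalgebraStruct.comul (R := k) c) :=
    (CoalgHomClass.map_comp_comul_apply lam c).symm
  have h2 : ∀ t : C ⊗[k] C, (Algebra.TensorProduct.lift (evG g) (evG h) fun _ _ => Commute.all _ _)
      (TensorProduct.map (lam : C →ₗ[k] k[T;T⁻¹]) (lam : C →ₗ[k] k[T;T⁻¹]) t) =
      (Algebra.TensorProduct.lift ((evG g).comp (lam : C →ₐ[k] k[T;T⁻¹]))
        ((evG h).comp (lam : C →ₐ[k] k[T;T⁻¹])) fun _ _ => Commute.all _ _) t := by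
    intro t
    induction t with
    | zero => simp
    | add s t hs ht => rw [map_add, map_add, map_add, hs, ht]
    | tmul x y => simp
  exact (congrArg _ h1).trans (h2 _)

/-- The one-parameter subgroup of `G` attached to `lam` for the left action `g v = v · g⁻¹`. -/
def lamS : Red.Gm (Spec (CommRingCat.of k)) ⟶ G := (lamC lam ≫ e.hom)⁻¹

theorem comp_lamS {W : Over 𝕊} (g : W ⟶ Red.Gm 𝕊) :
    g ≫ lamS e lam = ((g ≫ lamC lam) ≫ e.hom)⁻¹ := by
  rw [lamS, GrpObj.comp_inv, Category.assoc]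

theorem gm_comm {W : Over 𝕊} (g h : W ⟶ Red.Gm 𝕊) : g * h = h * g := by
  apply chi_injective (M := ℤ)
  rw [chi_mul, chi_mul, mul_comm]

instance isMonHom_lamS [IsMonHom e.hom] : IsMonHom (lamS e lam) :=
  Groth.Agent.Sga3B.Pts.isMonHom_of_points (G := Red.Gm 𝕊) (lamS e lam) (by
    intro W g h
    rw [comp_lamS, comp_lamS, comp_lamS, gm_comm, lamC_mul, MonObj.mul_comp, mul_inv_rev])

variable {V : Over (Spec (CommRingCat.of k))} (Φ : AlgGrp.Action G V)

theorem lamS_act {W : Over 𝕊} (g : W ⟶ Red.Gm 𝕊) (v : W ⟶ V) :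
    lift (g ≫ lamS e lam) v ≫ Φ.act = lift v (g ≫ lamC lam) ≫ ract Φ e := by
  rw [lift_ract, comp_lamS]

/-- The values of functions on the orbit under a one-parameter subgroup. -/
theorem pb_lamS_act [IsMonHom e.hom] [CompactSpace V.left] [QuasiSeparatedSpace V.left]
    {W : Over 𝕊} (g : W ⟶ Red.Gm 𝕊) (x : 𝟙_ (Over 𝕊) ⟶ V) (f : Γ(V.left, ⊤)) :
    letI := comod Φ e
    haveI := isCoactAlg Φ e
    pb (lift (g ≫ lamS e lam) (toUnit W ≫ x) ≫ Φ.act) f =
      evG g (GLin.lamOrbit k C lam (ptA x) f) := by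
  let := comod Φ e
  have := isCoactAlg Φ e
  rw [lamS_act, ← fn_orbitHom, fn_lamC]
  rfl

/-- The universal point of the multiplicative group. -/
def unG (k : Type u) [Field k] : CoactBr.sp k k[T;T⁻¹] ⟶ Red.Gm (Spec (CommRingCat.of k)) :=
  ofChi (M := ℤ) ((γ (k := k) k[T;T⁻¹] : k[T;T⁻¹] →* _).comp
    { toFun := fun n => LaurentPolynomial.T (Multiplicative.toAdd n)
      map_one' := rfl
      map_mul' := fun _ _ => LaurentPolynomial.T_add _ _ })

theorem evG_unG (p : k[T;T⁻¹]) : evG (unG k) p = γ (k := k) k[T;T⁻¹] p := by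
  let γA : k[T;T⁻¹] →ₐ[k] Γ((CoactBr.sp k k[T;T⁻¹]).left, ⊤) :=
    { (γ (k := k) k[T;T⁻¹]).toRingHom with
      commutes' := fun c => (fnS_sp k[T;T⁻¹] c).symm }
  have h : evG (unG k) = γA := by
    apply laurent_hom_ext
    intro n
    rw [evG_T, unG, chi_ofChi]
    rfl
  rw [h]
  rfl

/-- The one-parameter subgroup is trivial iff `lam` is. -/
theorem lamS_eq_one_iff [IsMonHom e.hom] :
    lamS e lam = 1 ↔ SGA3t2b.IsTrivialBialgHom lam := by
  have h1 : lamS e lam = 1 ↔ lamC lam = 1 := by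
    rw [lamS, inv_eq_one]
    constructor
    · intro h
      rw [← Category.comp_id (lamC lam), ← e.hom_inv_id, ← Category.assoc, h, MonObj.one_comp]
    · intro h
      rw [h, MonObj.one_comp]
  rw [h1]
  constructor
  · intro h c
    have h2 := fn_lamC lam (unG k)
    rw [h, MonObj.comp_one, fn_one] at h2
    have h3 := congr($h2 c)
    rw [AlgHom.comp_apply, AlgHom.comp_apply] at h3
    apply (γ (k := k) k[T;T⁻¹]).injective
    rw [← evG_unG]
    refine h3.symm.trans ?_
    rw [Algebra.ofId_apply]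
    exact fnS_sp k[T;T⁻¹] _
  · intro h
    apply fn_injective
    have h2 := fn_lamC lam (𝟙 _)
    rw [Category.id_comp] at h2
    rw [h2, fn_one]
    apply AlgHom.ext
    intro c
    rw [AlgHom.comp_apply, AlgHom.comp_apply]
    exact (congrArg _ (h c)).trans ((evG (𝟙 _)).commutes _)

/-- The value of a polynomial at the generic point of the formal arc. -/
theorem evG_bG (p : Polynomial k) : evG (bG k) (Polynomial.toLaurent p) =
    γ (k := k) (L k) (algebraMap (PowerSeries k) (L k) (p : PowerSeries k)) := by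
  let γA : L k →ₐ[k] Γ((CoactBr.sp k (L k)).left, ⊤) :=
    { (γ (k := k) (L k)).toRingHom with
      commutes' := fun c => (fnS_sp (L k) c).symm }
  let f : Polynomial k →ₐ[k] Γ((CoactBr.sp k (L k)).left, ⊤) :=
    γA.comp ((IsScalarTower.toAlgHom k (PowerSeries k) (L k)).comp
      (Polynomial.coeToPowerSeries.algHom k))
  have h : (evG (bG k)).comp Polynomial.toLaurentAlg = f := by
    apply Polynomial.algHom_ext
    rw [AlgHom.comp_apply, Polynomial.toLaurentAlg_apply, Polynomial.toLaurent_X, evG_T, chi_gm,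
      unitOfPt_bG, zpow_one]
    have e1 : f Polynomial.X = γ (k := k) (L k) (algebraMap (PowerSeries k) (L k)
        (Polynomial.coeToPowerSeries.algHom k (Polynomial.X : Polynomial k))) := rfl
    rw [e1, Polynomial.coeToPowerSeries.algHom_apply, Polynomial.coe_X]
    simp only [Algebra.algebraMap_self, PowerSeries.map_id]
    rfl
  have h2 := congr($h p)
  rw [AlgHom.comp_apply] at h2
  refine h2.trans ?_
  have e1 : f p = γ (k := k) (L k) (algebraMap (PowerSeries k) (L k)
      (Polynomial.coeToPowerSeries.algHom k p)) := rfl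
  rw [e1, Polynomial.coeToPowerSeries.algHom_apply]
  simp only [Algebra.algebraMap_self, PowerSeries.map_id]
  rfl

theorem nonneg_of_eq {N : ℤ} {D P : PowerSeries k}
    (h : algebraMap (PowerSeries k) (L k) P = bL k ^ N * algebraMap (PowerSeries k) (L k) D)
    (hD : PowerSeries.constantCoeff D ≠ 0) : 0 ≤ N := by
  by_contra hN
  obtain ⟨m, hm⟩ : ∃ m : ℕ, N = -((m : ℤ) + 1) := ⟨(-N - 1).toNat, by omega⟩
  have h1 : algebraMap (PowerSeries k) (L k) D =
      algebraMap (PowerSeries k) (L k) (PowerSeries.X ^ (m + 1) * P) := by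
    rw [map_mul, map_pow, h, ← _root_.mul_assoc]
    have h2 : (algebraMap (PowerSeries k) (L k) PowerSeries.X) ^ (m + 1) * bL k ^ N = 1 := by
      rw [hm, zpow_neg]
      have h3 : bL k ^ ((m : ℤ) + 1) = (algebraMap (PowerSeries k) (L k) PowerSeries.X) ^ (m + 1) := by
        rw [← Nat.cast_succ, zpow_natCast]
        rfl
      rw [h3]
      exact mul_inv_cancel₀ (pow_ne_zero _ (bL_ne_zero k))
    rw [h2, _root_.one_mul]
  have h4 := IsFractionRing.injective (PowerSeries k) (L k) h1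
  apply hD
  rw [h4, map_mul, map_pow, PowerSeries.constantCoeff_X, zero_pow (Nat.succ_ne_zero m), zero_mul]

theorem pos_of_eq {N : ℤ} {D P : PowerSeries k}
    (h : algebraMap (PowerSeries k) (L k) P = bL k ^ N * algebraMap (PowerSeries k) (L k) D)
    (hD : PowerSeries.constantCoeff D ≠ 0) (hP : PowerSeries.constantCoeff P = 0) : 0 < N := by
  refine lt_of_le_of_ne (nonneg_of_eq h hD) ?_
  rintro rfl
  rw [zpow_zero, _root_.one_mul] at h
  rw [IsFractionRing.injective (PowerSeries k) (L k) h] at hP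
  exact hD hP

end Lam

end K691.LamPS

end
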