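import Groth.Agent.GIT.K691.TrWt
import Groth.Agent.GIT.K691.LamPS
import Groth.Agent.GIT.K689.Avoid
import Groth.Agent.Books.ComodPoints
import Groth.Agent.InvQ.K701.Orbit

/-!
# The subcomodule of the sections of weight `n` with affine nonvanishing locus
-/

set_option autoImplicit false

universe u

open CategoryTheory CategoryTheory.Limits MonoidalCategory CartesianMonoidalCategory MonObj
  AlgebraicGeometry Opposite TopologicalSpace
open scoped TensorProduct

noncomputable section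

namespace K691.GoodSub

open K951.Pts K951.Prd K691.GCoact K691.LamPS K691.TrWt K689.LinBunBasic K689.Weight K689.Avoid

attribute [local instance] K951.Pts.algΓ

variable {k : Type u} [Field k]

local notation "𝕊" => Spec (CommRingCat.of k)

section Act

variable {G V : Over (Spec (CommRingCat.of k))} [GrpObj G] (Φ : AlgGrp.Action G V)
  {C : Type u} [CommRing C] [HopfAlgebra k C] (e : CoactBr.sp k C ≅ G)

/-- The rational point of `Spec C` attached to a point of `C`. -/
def gpt (g : C →ₐ[k] k) : 𝟙_ (Over (Spec (CommRingCat.of k))) ⟶ CoactBr.sp k C :=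
  ofFn ((Algebra.ofId k _).comp g)

theorem fn_toUnit_gpt {W : Over 𝕊} (g : C →ₐ[k] k) (c : C) :
    fn (toUnit W ≫ gpt g) c = algebraMap k Γ(W.left, ⊤) (g c) := by
  rw [fn_comp, gpt, fn_ofFn]
  exact (pbA (toUnit W)).commutes _

theorem act_eq [IsMonHom e.hom] [CompactSpace V.left] [QuasiSeparatedSpace V.left]
    (g : C →ₐ[k] k) (f : Γ(V.left, ⊤)) :
    letI := comod Φ e
    HopfRep.Comod.act k C Γ(V.left, ⊤) g f = (tr Φ (gpt g ≫ e.hom)⁻¹).left.appTop f := by
  let := comod Φ e
  have h1 : ∀ t : Γ(V.left, ⊤) ⊗[k] C, TensorProduct.rid k Γ(V.left, ⊤)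
      (g.toLinearMap.lTensor Γ(V.left, ⊤) t) = evT (𝟙 V) (toUnit V ≫ gpt g) t := by
    intro t
    induction t with
    | zero => simp
    | add s t hs ht => rw [map_add, map_add, map_add, hs, ht]
    | tmul x c =>
      rw [LinearMap.lTensor_tmul, TensorProduct.rid_tmul, evT_tmul, fn_toUnit_gpt, pb_id,
        RingHom.id_apply, Algebra.smul_def, mul_comm]
      rfl
  rw [Groth.Agent.Books.ComodPoints.act_apply, h1]
  have h2 := evT_rho Φ e (𝟙 V) (toUnit V ≫ gpt g) f
  refine h2.trans ?_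
  rw [lift_ract, tr, GrpObj.comp_inv, Category.assoc]

end Act

section Good

variable {G X : Over (Spec (CommRingCat.of k))} [GrpObj G] {a : AlgGrp.Action G X}
  (B : GLinSh.LinBun G a)

theorem hasWeight_algebraMap (c : k) :
    GLinSh.HasWeight B.atlas.chart 0 (algebraMap k Γ(B.V.left, ⊤) c) := by
  rw [hasWeight_iff]
  have h1 : algebraMap k Γ(B.V.left, ⊤) c = pb B.π (algebraMap k Γ(X.left, ⊤) c) :=
    ((pbA B.π).commutes c).symm
  have h2 : tt B.π.left (algebraMap k Γ(B.V.left, ⊤) c) =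
      B.π.left.app ⊤ (algebraMap k Γ(X.left, ⊤) c) := by
    rw [h1]
    change (B.V.left.presheaf.map (𝟙 (op ⊤))) (pb B.π (algebraMap k Γ(X.left, ⊤) c)) = _
    rw [CategoryTheory.Functor.map_id]
    rfl
  rw [h2]
  exact Wt.base _

/-- The sections of weight `n` with affine nonvanishing locus. -/
def goodSub (n : ℕ) (hn : n ≠ 0) : Submodule k Γ(B.V.left, ⊤) where
  carrier := {f | GLinSh.HasWeight B.atlas.chart n f ∧
    ∃ U : X.left.Opens, (U : Set X.left) = GLinSh.nonvanishing B.π f ∧ IsAffineOpen U}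
  zero_mem' := by
    refine ⟨(invSection_zero n).1, ⊥, ?_, isAffineOpen_bot _⟩
    rw [nonvanishing_zero]
    rfl
  add_mem' := by
    rintro f g ⟨hf, U, hU, hUa⟩ ⟨hg, U', hU', hUa'⟩
    have h := weight_add B hf hg
    refine ⟨h, ⟨_, isOpen_nonvanishing h⟩, rfl, ?_⟩
    exact isAffineOpen_add hf hg hn U hU hUa U' hU' hUa' _ rfl
  smul_mem' := by
    rintro c f ⟨hf, U, hU, hUa⟩
    rw [Algebra.smul_def]
    have h := weight_mul B (hasWeight_algebraMap B c) hf
    rw [zero_add] at h
    refine ⟨h, ⟨_, isOpen_nonvanishing h⟩, rfl, ?_⟩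
    exact isAffineOpen_mul (hasWeight_algebraMap B c) hf hn U hU hUa _ rfl

variable {B}

theorem mem_goodSub {n : ℕ} {hn : n ≠ 0} {f : Γ(B.V.left, ⊤)} :
    f ∈ goodSub B n hn ↔ GLinSh.HasWeight B.atlas.chart n f ∧
      ∃ U : X.left.Opens, (U : Set X.left) = GLinSh.nonvanishing B.π f ∧ IsAffineOpen U :=
  Iff.rfl

theorem tr_mem_goodSub {n : ℕ} {hn : n ≠ 0} {f : Γ(B.V.left, ⊤)} (hf : f ∈ goodSub B n hn)
    (g : 𝟙_ (Over 𝕊) ⟶ G) : (tr B.lift g).left.appTop f ∈ goodSub B n hn := by
  obtain ⟨h, U, hU, hUa⟩ := hf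
  have hiso : IsIso (tr a g).left :=
    inferInstanceAs (IsIso ((Over.forget _).map (trIso a g).hom))
  refine ⟨hasWeight_tr B g h, (tr a g).left ⁻¹ᵁ U, ?_, hUa.preimage (tr a g).left⟩
  rw [nonvanishing_tr, ← hU]
  rfl

variable [IsAlgClosed k] {C : Type u} [CommRing C] [HopfAlgebra k C] [Algebra.FiniteType k C]
  [_root_.IsReduced C] (e : CoactBr.sp k C ≅ G) [IsMonHom e.hom]
  [CompactSpace B.V.left] [QuasiSeparatedSpace B.V.left]

/-- The good sections form a subcomodule. -/
theorem isSubcomod_goodSub (n : ℕ) (hn : n ≠ 0) :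
    letI := comod B.lift e
    HopfRep.IsSubcomod (k := k) (A := C) (goodSub B n hn) := by
  let := comod B.lift e
  refine Groth.Agent.Books.ComodPoints.isSubcomod_of_stable
    (Groth.Agent.Books.PointsAC.eq_zero_of_forall_point k C) _ fun g f hf => ?_
  rw [act_eq]
  exact tr_mem_goodSub hf _

end Good

end K691.GoodSub

end
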