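import Groth.Agent.GIT.K691.GoodSub
import Groth.Agent.GLin.K765.Tr
import Groth.Agent.GLin.K765.Gens
import Groth.Agent.GLin.K765.SubAlg

/-!
# Independence of weights, homogeneous components of invariants, common weight of an ample cover
-/

set_option autoImplicit false

universe u

open CategoryTheory CategoryTheory.Limits MonoidalCategory CartesianMonoidalCategory MonObj
  AlgebraicGeometry Opposite TopologicalSpace
open scoped TensorProduct

noncomputable section

namespace K691.Grade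

open K951.Pts K951.Prd K691.GCoact K691.LamPS K691.TrWt K689.LinBunBasic K689.Weight K689.Avoid
  K689.Coord K689.SchGlue K691.GoodSub HMNum

attribute [local instance] K951.Pts.algΓ

variable {k : Type u} [Field k]

local notation "𝕊" => Spec (CommRingCat.of k)

section Indep

variable {S : Scheme.{u}} {G X : Over S} [GrpObj G] {a : AlgGrp.Action G X} (B : GLinSh.LinBun G a)

/-- Functions of different weights are linearly independent. -/
theorem eq_zero_of_sum_eq_zero {J : Type*} (s : Finset J) (ω : J → ℕ) (hω : Function.Injective ω)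
    (D : J → Γ(B.V.left, ⊤)) (hD : ∀ n ∈ s, GLinSh.HasWeight B.atlas.chart (ω n) (D n))
    (h : ∑ n ∈ s, D n = 0) : ∀ n ∈ s, D n = 0 := by
  classical
  intro n hn
  have A := atl B.atlas
  apply tt_injective B.π.left
  have h0 : tt B.π.left (0 : Γ(B.V.left, ⊤)) = 0 := map_zero _
  rw [h0]
  apply section_ext
  intro v _
  obtain ⟨W, hW, y, hWa, hxW, hy⟩ := A.exists_adm (O := ⊤) (x := B.π.left v) trivial
  refine ⟨B.π.left ⁻¹ᵁ W, B.π.left.preimage_mono hW, hxW, ?_⟩
  change rs B.π.left hW (tt B.π.left (D n)) = rs B.π.left hW 0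
  have hwt : ∀ m ∈ s, ∃ c : Γ(X.left, W), rs B.π.left hW (tt B.π.left (D m)) =
      B.π.left.app W c * y ^ ω m := fun m hm => (hasWeight_iff _ _ _).1 (hD m hm) W hW y hy
  choose! c hc using hwt
  have h1 : rs B.π.left hW (tt B.π.left (∑ m ∈ s, D m)) =
      ∑ m ∈ s, B.π.left.app W (c m) * y ^ ω m := by
    have e1 : tt B.π.left (∑ m ∈ s, D m) = ∑ m ∈ s, tt B.π.left (D m) := map_sum _ _ _
    have e2 : rs B.π.left hW (∑ m ∈ s, tt B.π.left (D m)) =
      ∑ m ∈ s, rs B.π.left hW (tt B.π.left (D m)) := map_sum _ _ _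
    rw [e1, e2]
    exact Finset.sum_congr rfl fun m hm => hc m hm
  have h2 : rs B.π.left hW (tt B.π.left (0 : Γ(B.V.left, ⊤))) = 0 := by
    rw [h0, rs_zero]
  rw [h, h2] at h1
  have hco := (A.adm_coord hy) W hWa le_rfl
  have hrs : rs B.π.left (le_refl W) y = y := rs_self y
  rw [hrs] at hco
  let P : Polynomial Γ(X.left, W) := ∑ m ∈ s, Polynomial.monomial (ω m) (c m)
  have h3 : Polynomial.eval₂RingHom (B.π.left.app W).hom y P = 0 := by
    rw [map_sum]
    refine Eq.trans (Finset.sum_congr rfl fun m _ => ?_) h1.symm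
    rw [Polynomial.coe_eval₂RingHom, Polynomial.eval₂_monomial]
  have h4 : P = 0 := hco.1 (h3.trans (map_zero _).symm)
  have h5 : c n = 0 := by
    have := congrArg (fun q => Polynomial.coeff q (ω n)) h4
    simp only [P, Polynomial.finsetSum_coeff, Polynomial.coeff_monomial,
      Polynomial.coeff_zero] at this
    rw [Finset.sum_eq_single n (fun m _ hm => if_neg fun e => hm (hω e))
      (fun h => absurd hn h), if_pos rfl] at this
    exact this
  rw [hc n hn, h5, map_zero, zero_mul, rs_zero]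

variable {B}

theorem eq_of_sum_eq {J : Type*} (s : Finset J) (ω : J → ℕ) (hω : Function.Injective ω)
    (D D' : J → Γ(B.V.left, ⊤)) (hD : ∀ n ∈ s, GLinSh.HasWeight B.atlas.chart (ω n) (D n))
    (hD' : ∀ n ∈ s, GLinSh.HasWeight B.atlas.chart (ω n) (D' n))
    (h : ∑ n ∈ s, D n = ∑ n ∈ s, D' n) : ∀ n ∈ s, D n = D' n := by
  intro n hn
  have h1 : ∀ m ∈ s, GLinSh.HasWeight B.atlas.chart (ω m) (D m - D' m) := by
    intro m hm
    have h2 := hD m hm
    have h3 := hD' m hm
    rw [hasWeight_iff] at *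
    have : tt B.π.left (D m - D' m) = tt B.π.left (D m) - tt B.π.left (D' m) := map_sub _ _ _
    rw [this]
    exact h2.sub h3
  have := eq_zero_of_sum_eq_zero B s ω hω (fun m => D m - D' m) h1
    (by rw [Finset.sum_sub_distrib, h, sub_self]) n hn
  exact sub_eq_zero.1 this

end Indep

section Comp

variable {G X : Over (Spec (CommRingCat.of k))} [GrpObj G] {a : AlgGrp.Action G X}
  (B : GLinSh.LinBun G a)

/-- The sums of good sections of the weights `N, 2N, …`. -/
def plusSub (N : ℕ) (hN : N ≠ 0) : Submodule k Γ(B.V.left, ⊤) :=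
  ⨆ m : ℕ, goodSub B (N * (m + 1)) (Nat.mul_ne_zero hN (Nat.succ_ne_zero m))

variable {B}

theorem goodSub_le_plusSub {N : ℕ} {hN : N ≠ 0} : goodSub B N hN ≤ plusSub B N hN := by
  refine le_trans ?_ (le_iSup _ 0)
  intro f hf
  rw [mem_goodSub] at hf ⊢
  rwa [zero_add, _root_.mul_one]

theorem mul_mem_goodSub {n m : ℕ} {hn : n ≠ 0} {hm : m ≠ 0} {f g : Γ(B.V.left, ⊤)}
    (hf : f ∈ goodSub B n hn) (hg : g ∈ goodSub B m hm) (h : n + m ≠ 0) :
    f * g ∈ goodSub B (n + m) h := by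
  obtain ⟨hf, U, hU, hUa⟩ := hf
  obtain ⟨hg, U', hU', hUa'⟩ := hg
  have h := weight_mul B hf hg
  exact ⟨h, ⟨_, isOpen_nonvanishing h⟩, rfl, isAffineOpen_mul hf hg hm U' hU' hUa' _ rfl⟩

/-- The functions multiplying `plusSub` into itself. -/
theorem mul_mem_plusSub {N : ℕ} {hN : N ≠ 0} {E : Set Γ(B.V.left, ⊤)}
    (hE : ∀ f ∈ E, f ∈ goodSub B N hN) {r : Γ(B.V.left, ⊤)} (hr : r ∈ Algebra.adjoin k E)
    {t : Γ(B.V.left, ⊤)} (ht : t ∈ plusSub B N hN) : r * t ∈ plusSub B N hN := by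
  revert t
  induction hr using Algebra.adjoin_induction with
  | mem f hf =>
    intro t ht
    refine Submodule.iSup_induction (p := fun m : ℕ => goodSub B (N * (m + 1)) _)
      (motive := fun t => f * t ∈ plusSub B N hN) ht ?_ ?_ ?_
    · intro m g hg
      refine le_iSup (fun m : ℕ => goodSub B (N * (m + 1))
        (Nat.mul_ne_zero hN (Nat.succ_ne_zero m))) (m + 1) ?_
      have h1 := mul_mem_goodSub (hE f hf) hg (by
        have : N * (m + 1) ≠ 0 := Nat.mul_ne_zero hN (Nat.succ_ne_zero m)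
        omega)
      rw [mem_goodSub] at h1 ⊢
      have e : N + N * (m + 1) = N * (m + 1 + 1) := by ring
      rwa [e] at h1
    · rw [mul_zero]; exact zero_mem _
    · intro x y hx hy
      rw [mul_add]; exact add_mem hx hy
  | algebraMap c =>
    intro t ht
    rw [← Algebra.smul_def]
    exact Submodule.smul_mem _ _ ht
  | add x y _ _ hx hy =>
    intro t ht
    rw [add_mul]; exact add_mem (hx ht) (hy ht)
  | mul x y _ _ hx hy =>
    intro t ht
    rw [_root_.mul_assoc]; exact hx (hy ht)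

/-- The homogeneous components of an invariant. -/
theorem exists_component {N : ℕ} {hN : N ≠ 0} {F : Γ(B.V.left, ⊤)} (hF : F ∈ plusSub B N hN)
    (hinv : ∀ g : 𝟙_ (Over 𝕊) ⟶ G, (tr B.lift g).left.appTop F = F)
    (ψ : Γ(B.V.left, ⊤) →ₐ[k] k) (hψ : ψ F ≠ 0) :
    ∃ (n : ℕ) (hn : n ≠ 0) (F' : Γ(B.V.left, ⊤)), F' ∈ goodSub B n hn ∧
      (∀ g : 𝟙_ (Over 𝕊) ⟶ G, (tr B.lift g).left.appTop F' = F') ∧ ψ F' ≠ 0 := by
  obtain ⟨f, hf, rfl⟩ := (Submodule.mem_iSup_iff_exists_finsupp _ _).1 hF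
  obtain ⟨m, hm, hψm⟩ : ∃ m ∈ f.support, ψ (f m) ≠ 0 := by
    by_contra hcon
    push Not at hcon
    apply hψ
    rw [Finsupp.sum, map_sum]
    exact Finset.sum_eq_zero hcon
  have hω : Function.Injective fun m : ℕ => N * (m + 1) := by
    intro p q hpq
    have := Nat.eq_of_mul_eq_mul_left (Nat.pos_of_ne_zero hN) hpq
    omega
  refine ⟨N * (m + 1), Nat.mul_ne_zero hN (Nat.succ_ne_zero m), f m, hf m, fun g => ?_, hψm⟩
  refine eq_of_sum_eq f.support _ hω (fun i => (tr B.lift g).left.appTop (f i)) (fun i => f i)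
    (fun i _ => hasWeight_tr B g (hf i).1) (fun i _ => (hf i).1) ?_ m hm
  have := hinv g
  exact (map_sum (tr B.lift g).left.appTop.hom _ _).symm.trans this

/-- An ample cover by sections of a common weight. -/
theorem exists_common_weight (hB : AmpleCover B) : ∃ (N : ℕ) (hN : N ≠ 0)
    (T : Finset Γ(B.V.left, ⊤)), (∀ f ∈ T, f ∈ goodSub B N hN) ∧
      ∀ x : X.left, ∃ f ∈ T, x ∈ GLinSh.nonvanishing B.π f := by
  classical
  obtain ⟨hcomp, hcov⟩ := hB
  choose nn ff h1 hwt hmem U hU hUaff using hcov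
  obtain ⟨t, ht⟩ := isCompact_univ.elim_finite_subcover (fun z : X.left => (U z : Set X.left))
    (fun z => (U z).isOpen) (fun z _ => Set.mem_iUnion.2 ⟨z, by rw [hU]; exact hmem z⟩)
  have hN : ∏ z ∈ t, nn z ≠ 0 := Finset.prod_ne_zero_iff.2 fun z _ => by have := h1 z; omega
  refine ⟨∏ z ∈ t, nn z, hN, t.image fun z => ff z ^ (∏ z' ∈ t.erase z, nn z'), ?_, ?_⟩
  · intro f hf
    obtain ⟨z, hz, rfl⟩ := Finset.mem_image.1 hf
    have hm : ∏ z' ∈ t.erase z, nn z' ≠ 0 :=
      Finset.prod_ne_zero_iff.2 fun z _ => by have := h1 z; omega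
    refine ⟨?_, U z, ?_, hUaff z⟩
    · have := weight_pow B (hwt z) (∏ z' ∈ t.erase z, nn z')
      rwa [Finset.mul_prod_erase t nn hz] at this
    · rw [nonvanishing_pow (hwt z) _ hm, hU]
  · intro x
    obtain ⟨z, hz, hxz⟩ := Set.mem_iUnion₂.1 (ht (Set.mem_univ x))
    rw [hU] at hxz
    refine ⟨_, Finset.mem_image.2 ⟨z, hz, rfl⟩, ?_⟩
    rw [nonvanishing_pow (hwt z)]
    · exact hxz
    · exact Finset.prod_ne_zero_iff.2 fun z _ => by have := h1 z; omega

end Comp

end K691.Grade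

end
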