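import Groth.Agent.GIT.K691.ClosedEx
import Groth.Agent.GIT.K687.HMCore
import Groth.Agent.PRed.K542.CartanRed
import Groth.Agent.AGF.K492.RedDict
import Groth.Agent.Curves.K329.ArcOver
import Groth.Prelude.Def_CoactBr

/-!
# The Hilbert-Mumford criterion for connected reductive groups in every characteristic

* `exists_arc`: a point of the closure of an orbit is the limit of a `k((t))`-point of the orbit;
* `vs`: the valuation ring `k⟦t⟧` of `k((t))`;
* `hm_red`: Hilbert-Mumford for reductive groups, with stable ideals;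
* `hm_closed`: Hilbert-Mumford for reductive groups and the closed orbit.
-/

set_option autoImplicit false
set_option linter.unusedSectionVars false

universe u v w

open TensorProduct HopfRep AlgebraicGeometry CategoryTheory IsLocalRing
open scoped LaurentPolynomial

namespace K691.HMRed

open K691.ClosedEx K701.Orbit K701.Orbit3 K329.ArcThrough

section Arc

variable {k : Type u} [Field k] [IsAlgClosed k] {A R : Type u} [CommRing A] [Algebra k A] [Algebra.FiniteType k A]
  [CommRing R] [Algebra k R] [Algebra.FiniteType k R]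

/-- Arcs through a point of the closure of the image. -/
theorem exists_arc (φ : R →ₐ[k] A) (z : R →ₐ[k] k) (hz : ∀ f ∈ RingHom.ker φ, z f = 0) :
    ∃ (τ : A →ₐ[k] LaurentSeries k) (h : R →ₐ[k] PowerSeries k),
      (toL k).comp h = τ.comp φ ∧ ∀ f, z f = 0 → h f ∈ maximalIdeal (PowerSeries k) := by
  let P : Scheme.{u} := Spec (CommRingCat.of R)
  let pP : P ⟶ Spec (CommRingCat.of k) := Spec.map (CommRingCat.ofHom (algebraMap k R))
  have hft : LocallyOfFiniteType pP := by
    rw [HasRingHomProperty.Spec_iff (P := @LocallyOfFiniteType)]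
    change (algebraMap k R).FiniteType
    exact (RingHom.finiteType_algebraMap).2 inferInstance
  let π : Spec (CommRingCat.of A) ⟶ P := Spec.map (CommRingCat.ofHom (φ : R →+* A))
  have hπ : π ≫ pP = Spec.map (CommRingCat.ofHom (algebraMap k A)) := by
    rw [← Spec.map_comp]
    congr 1
    ext c
    exact φ.commutes c
  let x : P := (⟨RingHom.ker z, RingHom.ker_isPrime z⟩ : PrimeSpectrum R)
  have hx : IsClosed ({x} : Set P) := by
    have h1 : (RingHom.ker z).IsMaximal :=
      RingHom.ker_isMaximal_of_surjective _ fun c => ⟨algebraMap k R c, by simp⟩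
    exact (PrimeSpectrum.isClosed_singleton_iff_isMaximal (x : PrimeSpectrum R)).2 h1
  have hxc : x ∈ closure (Set.range π) := by
    have h1 : closure (Set.range (PrimeSpectrum.comap (φ : R →+* A))) =
        PrimeSpectrum.zeroLocus (RingHom.ker (φ : R →+* A) : Set R) :=
      PrimeSpectrum.closure_range_comap _
    have h2 : (⟨RingHom.ker z, RingHom.ker_isPrime z⟩ : PrimeSpectrum R) ∈
        closure (Set.range (PrimeSpectrum.comap (φ : R →+* A))) := by
      rw [h1]
      exact fun f hf => hz f hf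
    exact h2
  obtain ⟨τ, β, hβ, hβx, hβτ⟩ := K329.ArcOver.exists_arc_over pP π hπ x hx hxc
  let h₀ : R →+* PowerSeries k := (Spec.preimage β).hom
  have hh₀ : β = Spec.map (CommRingCat.ofHom h₀) := by
    change β = Spec.map (Spec.preimage β)
    rw [Spec.map_preimage]
  have hc : h₀.comp (algebraMap k R) = algebraMap k (PowerSeries k) := by
    rw [hh₀, ← Spec.map_comp] at hβ
    have h1 := Spec.map_injective hβ
    exact congrArg CommRingCat.Hom.hom h1
  let h : R →ₐ[k] PowerSeries k := { h₀ with commutes' := fun c => RingHom.congr_fun hc c }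
  refine ⟨τ, h, ?_, ?_⟩
  · rw [hh₀, ← Spec.map_comp, ← Spec.map_comp] at hβτ
    have h1 := congrArg CommRingCat.Hom.hom (Spec.map_injective hβτ)
    apply AlgHom.ext
    intro f
    exact RingHom.congr_fun h1 f
  · intro f hf
    have h1 : β (closedPoint (PowerSeries k)) = x := hβx
    rw [hh₀] at h1
    have h2 : (maximalIdeal (PowerSeries k)).comap h₀ = RingHom.ker z :=
      congrArg PrimeSpectrum.asIdeal h1
    have h3 : f ∈ (maximalIdeal (PowerSeries k)).comap h₀ := by rw [h2]; exact hf
    exact h3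

end Arc

section Val

variable (k : Type u) [Field k]

/-- The valuation ring `k⟦t⟧` of `k((t))`. -/
noncomputable def vs : ValuationSubring (LaurentSeries k) where
  carrier := Set.range (toL k)
  mul_mem' := by rintro _ _ ⟨a, rfl⟩ ⟨b, rfl⟩; exact ⟨a * b, map_mul _ _ _⟩
  one_mem' := ⟨1, map_one _⟩
  add_mem' := by rintro _ _ ⟨a, rfl⟩ ⟨b, rfl⟩; exact ⟨a + b, map_add _ _ _⟩
  zero_mem' := ⟨0, map_zero _⟩
  neg_mem' := by rintro _ ⟨a, rfl⟩; exact ⟨-a, map_neg _ _⟩
  mem_or_inv_mem' := by
    intro x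
    rcases ValuationRing.isInteger_or_isInteger (PowerSeries k) x with ⟨a, ha⟩ | ⟨a, ha⟩
    · exact Or.inl ⟨a, ha⟩
    · exact Or.inr ⟨a, ha⟩

variable {k}

theorem mem_vs {x : LaurentSeries k} : x ∈ vs k ↔ ∃ a, toL k a = x := Iff.rfl

theorem algebraMap_mem_vs (c : k) : algebraMap k (LaurentSeries k) c ∈ vs k :=
  ⟨algebraMap k _ c, (toL k).commutes c⟩

/-- The uniformizer. -/
noncomputable def tt : (LaurentSeries k)ˣ :=
  Units.mk0 (toL k PowerSeries.X) (by
    rw [Ne, ← map_zero (toL k)]
    exact fun h => PowerSeries.X_ne_zero (toL_injective (k := k) h))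

theorem tt_val : ((tt : (LaurentSeries k)ˣ) : LaurentSeries k) = toL k PowerSeries.X := rfl

theorem exists_residue (z : LaurentSeries k) (hz : z ∈ vs k) :
    ∃ c : k, (vs k).valuation (z - algebraMap k (LaurentSeries k) c) < 1 := by
  obtain ⟨p, rfl⟩ := hz
  refine ⟨PowerSeries.constantCoeff p, ?_⟩
  rw [← (toL k).commutes, ← map_sub]
  rw [← not_le]
  intro hle
  obtain ⟨q, hq⟩ : (PowerSeries.X : PowerSeries k) ∣ p - algebraMap k (PowerSeries k) (PowerSeries.constantCoeff p) := by
    rw [PowerSeries.X_dvd_iff, map_sub, sub_eq_zero]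
    exact (PowerSeries.constantCoeff_C _).symm
  rw [hq] at hle
  have hne : toL k (PowerSeries.X * q) ≠ 0 := by
    intro h0
    rw [h0, map_zero] at hle
    exact absurd hle (by simp)
  have h1 : (vs k).valuation (toL k (PowerSeries.X * q))⁻¹ ≤ 1 := by
    rw [map_inv₀]
    exact inv_le_one_of_one_le₀ hle
  rw [ValuationSubring.valuation_le_one_iff] at h1
  obtain ⟨r, hr⟩ := h1
  have h2 : toL k (PowerSeries.X * q * r) = 1 := by
    rw [map_mul, hr, mul_inv_cancel₀ hne]
  have h3 : PowerSeries.X * q * r = 1 := toL_injective (k := k) (by rw [h2, map_one])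
  have h4 := congrArg PowerSeries.constantCoeff h3
  rw [map_mul, map_mul, PowerSeries.constantCoeff_X, zero_mul, zero_mul, map_one] at h4
  exact zero_ne_one h4

theorem mem_unitGroup_of_isUnit {z : (LaurentSeries k)ˣ} {a : PowerSeries k} (ha : IsUnit a)
    (h : toL k a = (z : LaurentSeries k)) : z ∈ (vs k).unitGroup := by
  rw [ValuationSubring.mem_unitGroup_iff]
  obtain ⟨u, rfl⟩ := ha
  apply le_antisymm
  · rw [ValuationSubring.valuation_le_one_iff]
    exact ⟨_, h⟩
  · have h1 : (vs k).valuation ((z : LaurentSeries k)⁻¹) ≤ 1 := by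
      rw [ValuationSubring.valuation_le_one_iff]
      refine ⟨((u⁻¹ : (PowerSeries k)ˣ) : PowerSeries k), ?_⟩
      apply eq_inv_of_mul_eq_one_left
      rw [← h, ← map_mul, Units.inv_mul, map_one]
    rw [map_inv₀] at h1
    rwa [inv_le_one₀ (by
      rw [zero_lt_iff, Ne, map_eq_zero]
      exact z.ne_zero)] at h1

theorem exists_ord (z : (LaurentSeries k)ˣ) : ∃ m : ℤ, z * tt ^ (-m) ∈ (vs k).unitGroup := by
  have key : ∀ (a : PowerSeries k) (y : (LaurentSeries k)ˣ), toL k a = (y : LaurentSeries k) →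
      ∃ m : ℤ, y * tt ^ (-m) ∈ (vs k).unitGroup := by
    intro a y hy
    have ha : a ≠ 0 := by
      rintro rfl
      rw [map_zero] at hy
      exact y.ne_zero hy.symm
    obtain ⟨n, u, hu⟩ := IsDiscreteValuationRing.eq_unit_mul_pow_irreducible ha PowerSeries.X_irreducible
    refine ⟨n, mem_unitGroup_of_isUnit u.isUnit ?_⟩
    rw [Units.val_mul, ← hy, hu, map_mul, map_pow, zpow_neg, zpow_natCast, Units.val_inv_eq_inv_val,
      Units.val_pow_eq_pow_val, tt_val, mul_assoc, mul_inv_cancel₀, mul_one]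
    exact pow_ne_zero _ (by rw [← tt_val]; exact tt.ne_zero)
  rcases (vs k).mem_or_inv_mem (z : LaurentSeries k) with ⟨a, ha⟩ | ⟨a, ha⟩
  · exact key a z ha
  · obtain ⟨m, hm⟩ := key a z⁻¹ (by rw [Units.val_inv_eq_inv_val]; exact ha)
    refine ⟨-m, ?_⟩
    have h1 := inv_mem hm
    rwa [_root_.mul_inv, inv_inv, ← zpow_neg] at h1

/-- Integral points lift to `k⟦t⟧`. -/
theorem exists_lift {A : Type v} [CommRing A] [Algebra k A] (a : A →ₐ[k] LaurentSeries k)
    (ha : ∀ f, a f ∈ vs k) : ∃ b : A →ₐ[k] PowerSeries k, (toL k).comp b = a := by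
  let e := AlgEquiv.ofInjective (toL k) (toL_injective (k := k))
  refine ⟨(e.symm : (toL k).range →ₐ[k] PowerSeries k).comp (a.codRestrict (toL k).range fun f => ha f), ?_⟩
  apply AlgHom.ext
  intro f
  have h1 : ∀ y : (toL k).range, toL k (e.symm y) = y := by
    intro y
    have := e.apply_symm_apply y
    exact congrArg Subtype.val this
  exact h1 _

end Val

section HM

variable {k : Type u} [Field k] [IsAlgClosed k] {A : Type u} [CommRing A] [HopfAlgebra k A]
  [Algebra.FiniteType k A] [IsDomain A] {R : Type u} [CommRing R] [Algebra k R] [Algebra.FiniteType k R]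
  [HopfRep.Comod k A R] [GLin.IsCoactAlg k A R]

open Groth.Agent.Sga3B.RG in
/-- Hilbert-Mumford for connected reductive groups in every characteristic: if the zero set of a stable ideal `I` meets
the orbit closure of `x` in a rational point, then some one-parameter subgroup moves `x` to a limit in the zero set. -/
theorem hm_red (hred : IsRedPt k A) (I : Ideal R) (hI : K687.IsStable (k := k) A I) (x z : R →ₐ[k] k)
    (hz : ∀ f ∈ RingHom.ker (GLin.orbitHom k A x), z f = 0) (hzI : ∀ f ∈ I, z f = 0) :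
    ∃ (lam : A →ₐc[k] k[T;T⁻¹]) (y : R →ₐ[k] k), GLin.IsLimit k A lam x y ∧ ∀ f ∈ I, y f = 0 := by
  obtain ⟨g, h, hgh, hh⟩ := exists_arc (GLin.orbitHom k A x) z hz
  obtain ⟨a, c, mu, ha, hc, e⟩ := K542.CartanRed.exists_cartan_red hred (vs k) algebraMap_mem_vs
    (exists_residue (k := k)) tt (exists_ord (k := k)) (WithConv.toConv g)
  obtain ⟨a', ha'⟩ := exists_lift a.ofConv ha
  obtain ⟨c', hc'⟩ := exists_lift c.ofConv hc
  obtain ⟨a₀, y, hy, hyI⟩ := K687.hm_core (A := A) (toL k) (toL_injective (k := k)) I hI x (K687.Pt.mk g) h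
    (by rw [hgh]; exact K687.comp_orbitHom x (K687.Pt.mk g)) (fun f hf => hh f (hzI f hf))
    (K687.Pt.mk a') (K687.Pt.mk c') mu PowerSeries.X
    (by
      rw [PowerSeries.maximalIdeal_eq_span_X]
      exact Ideal.mem_span_singleton_self _)
    tt tt_val (by
      apply K687.Pt.toWC_injective
      rw [K687.Pt.toWC_mul, K687.Pt.toWC_mul]
      have h1 : (K687.Pt.bc (toL k) (K687.Pt.mk a')).toWC = a := by
        apply WithConv.ofConv_injective
        exact ha'
      have h2 : (K687.Pt.bc (toL k) (K687.Pt.mk c')).toWC = c := by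
        apply WithConv.ofConv_injective
        exact hc'
      rw [h1, h2]
      exact e)
  exact ⟨_, y, hy, hyI⟩

open Groth.Agent.Sga3B.RG in
/-- Hilbert-Mumford for connected reductive groups in every characteristic, and the closed orbit. -/
theorem hm_closed (hred : IsRedPt k A) (x : R →ₐ[k] k) :
    ∃ (lam : A →ₐc[k] k[T;T⁻¹]) (y : R →ₐ[k] k), GLin.IsLimit k A lam x y ∧ GLin.IsClosedOrbit k A y := by
  obtain ⟨z, hz, hcl⟩ := exists_closedOrb (A := A) x
  obtain ⟨lam, y, hy, hyI⟩ := hm_red hred _ (isStable_ker z) x z hz (ker_orbitHom_le_ker z)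
  exact ⟨lam, y, hy, (K691.StablePt.isClosedOrbit_iff y).2 (closedOrb_of_mem hcl hyI)⟩

end HM

end K691.HMRed
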