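import Groth.Agent.GIT.K691.Arc
import Groth.Agent.Sga1.BiratExt
import Mathlib.RingTheory.PrincipalIdealDomain
import Mathlib.RingTheory.Valuation.ValuationRing
import Mathlib.RingTheory.DedekindDomain.Dvr

/-!
# Existence of limits under a one-parameter subgroup on a proper scheme
-/

set_option autoImplicit false

universe u

open CategoryTheory CategoryTheory.Limits MonoidalCategory CartesianMonoidalCategory MonObj
  AlgebraicGeometry Opposite

noncomputable section

namespace K691.LimExist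

open HMNum K951.Pts K951.Prd K691.Limit K691.Arc

section Alg

theorem isPrincipalIdealRing_loc {R : Type*} [CommRing R] [IsPrincipalIdealRing R]
    (M : Submonoid R) (T : Type*) [CommRing T] [Algebra R T] [IsLocalization M T] :
    IsPrincipalIdealRing T := by
  refine ⟨fun J => ?_⟩
  obtain ⟨x, hx⟩ := (IsPrincipalIdealRing.principal (J.under R)).principal
  refine ⟨algebraMap R T x, ?_⟩
  rw [← IsLocalization.map_under M T J, hx]
  change Ideal.map (algebraMap R T) (Ideal.span {x}) = _
  rw [Ideal.map_span, Set.image_singleton]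

theorem valuationRing_loc {R : Type*} [CommRing R] [IsDomain R] [IsPrincipalIdealRing R]
    (P : Ideal R) [P.IsPrime] (T : Type*) [CommRing T] [IsDomain T] [Algebra R T]
    [IsLocalization.AtPrime T P] : ValuationRing T := by
  have := isPrincipalIdealRing_loc P.primeCompl T
  have := IsLocalization.AtPrime.isLocalRing T P
  exact ValuationRing.iff_local_bezout_domain.2 ⟨this, inferInstance⟩

end Alg

/-- Extension of morphisms to a proper scheme from a dense open subscheme of the spectrum of a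
principal ideal domain. -/
theorem exists_ext {S Y : Scheme.{u}} (R : Type u) [CommRing R] [IsDomain R]
    [IsPrincipalIdealRing R] (f : Spec (CommRingCat.of R) ⟶ S) (g : Y ⟶ S) [IsProper g]
    (U : (Spec (CommRingCat.of R)).Opens) (hU : Dense (U : Set (Spec (CommRingCat.of R))))
    (h : (U : Scheme.{u}) ⟶ Y) (hh : h ≫ g = U.ι ≫ f) :
    ∃ h' : Spec (CommRingCat.of R) ⟶ Y, h' ≫ g = f ∧ U.ι ≫ h' = h := by
  obtain ⟨W, hUW, h', h1, h2, h3⟩ := Groth.Agent.Sga1.BiratExt.exists_extension f g U hU h hh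
  have hW : W = ⊤ := by
    rw [eq_top_iff]
    intro x _
    let _ : Algebra R ((Spec (CommRingCat.of R)).presheaf.stalk x) :=
      StructureSheaf.stalkAlgebra R (x : PrimeSpectrum R)
    have hl : IsLocalization.AtPrime ((Spec (CommRingCat.of R)).presheaf.stalk x)
      (x : PrimeSpectrum R).asIdeal :=
      StructureSheaf.IsLocalization.to_stalk R x
    have hd : IsDomain ((Spec (CommRingCat.of R)).presheaf.stalk x) :=
      IsLocalization.isDomain_of_le_nonZeroDivisors _
        (Ideal.primeCompl_le_nonZeroDivisors (x : PrimeSpectrum R).asIdeal)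
    have hv : ValuationRing ((Spec (CommRingCat.of R)).presheaf.stalk x) :=
      valuationRing_loc (x : PrimeSpectrum R).asIdeal _
    exact h3 x
  subst hW
  refine ⟨(Scheme.topIso _).inv ≫ h', ?_, ?_⟩
  · rw [Category.assoc, h1, ← Category.assoc]
    simp
  · rw [← h2, ← Category.assoc]
    congr 1
    rw [← cancel_mono (⊤ : (Spec (CommRingCat.of R)).Opens).ι]
    simp

section A1

variable {k : Type u} [Field k]

local notation "𝕊" => Spec (CommRingCat.of k)

/-- The generator of the monoid of non-negative integers. -/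
def one' : ↥plus := ⟨1, (mem_plus_iff 1).2 zero_le_one⟩

/-- The coordinate of a point of the affine line. -/
def co {S : Scheme.{u}} {W : Over S} (b : W ⟶ A1 S) : Fn W := chi b (Multiplicative.ofAdd one')

theorem co_a1 {S : Scheme.{u}} {W : Over S} (c : Fn W) : co (a1 c) = c := by
  rw [co, chi_a1]
  change c ^ (1 : ℤ).toNat = c
  simp

theorem a1_co {S : Scheme.{u}} {W : Over S} (b : W ⟶ A1 S) : a1 (co b) = b := by
  apply a1_ext
  intro n
  rw [chi_a1, co]
  have hn := (mem_plus_iff _).1 n.2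
  rw [← map_pow, ← ofAdd_nsmul]
  congr 2
  ext
  rw [AddSubmonoidClass.coe_nsmul]
  change _ • (1 : ℤ) = _
  rw [nsmul_eq_mul, _root_.mul_one, Int.toNat_of_nonneg hn]

theorem co_comp {S : Scheme.{u}} {W W' : Over S} (v : W' ⟶ W) (b : W ⟶ A1 S) :
    co (v ≫ b) = pb v (co b) := chi_comp _ _ _

theorem co_incl {S : Scheme.{u}} {W : Over S} (g : W ⟶ Red.Gm S) :
    co (g ≫ incl S) = Red.gmFn g := by
  rw [incl_eq, co_a1]

attribute [local instance] K951.Pts.algΓ

variable (k) in
/-- The affine line is the spectrum of the polynomial ring. -/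
def toP : A1 (Spec (CommRingCat.of k)) ⟶ CoactBr.sp k (Polynomial k) :=
  ofFn (Polynomial.aeval (co (𝟙 (A1 (Spec (CommRingCat.of k))))))

variable (k) in
/-- The affine line is the spectrum of the polynomial ring. -/
def ofP : CoactBr.sp k (Polynomial k) ⟶ A1 (Spec (CommRingCat.of k)) :=
  a1 (γ (k := k) (Polynomial k) Polynomial.X)

theorem pb_γ {W : Over 𝕊} {C : Type u} [CommRing C] [Algebra k C] (w : W ⟶ CoactBr.sp k C)
    (c : C) : pb w (γ (k := k) C c) = fn w c := rfl

theorem pb_toP_X : pb (toP k) (γ (k := k) (Polynomial k) Polynomial.X) =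
    co (𝟙 (A1 (Spec (CommRingCat.of k)))) := by
  rw [pb_γ, toP, fn_ofFn, Polynomial.aeval_X]

theorem toP_ofP : toP k ≫ ofP k = 𝟙 _ := by
  rw [ofP, comp_a1, pb_toP_X, a1_co]

theorem ofP_toP : ofP k ≫ toP k = 𝟙 _ := by
  apply fn_injective
  apply Polynomial.algHom_ext
  rw [fn_comp, ← pb_γ]
  change pb (ofP k) (pb (toP k) _) = _
  rw [pb_toP_X, ← co_comp, Category.comp_id, ofP, co_a1, ← pb_γ, pb_id]
  rfl

variable {X : Over (Spec (CommRingCat.of k))}

/-- A morphism from the multiplicative group to a proper scheme extends to the affine line. -/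
theorem exists_ext_A1 [IsProper X.hom] (o : Red.Gm 𝕊 ⟶ X) : ∃ F : A1 𝕊 ⟶ X, incl 𝕊 ≫ F = o := by
  let R := Polynomial k
  let P : Over 𝕊 := CoactBr.sp k R
  let s : Γ(P.left, ⊤) := γ (k := k) R Polynomial.X
  let U : P.left.Opens := P.left.basicOpen s
  let W : Over 𝕊 := Over.mk (U.ι ≫ P.hom)
  let i : W ⟶ P := Over.homMk U.ι rfl
  have hus : IsUnit (pb i s) := by
    have h1 : IsUnit (P.left.presheaf.map (homOfLE (P.left.basicOpen_le s)).op s) :=
      RingedSpace.isUnit_res_basicOpen _ s
    have h2 : pb i s = (U.ι.appLE U ⊤ (by simp)).hom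
        (P.left.presheaf.map (homOfLE (P.left.basicOpen_le s)).op s) := by
      have := Scheme.Hom.map_appLE U.ι (U := U) (V := ⊤) (by simp)
        (homOfLE (P.left.basicOpen_le s)).op
      have h3 := congrArg (fun r => (ConcreteCategory.hom r) s) this
      refine Eq.trans ?_ h3.symm
      change U.ι.appTop s = _
      rw [Scheme.Hom.appTop, Scheme.Hom.app_eq_appLE]
      rfl
    rw [h2]
    exact h1.map _
  let u : W ⟶ Red.Gm 𝕊 := GmPts.ptOfUnit hus.unit
  have hu : Red.gmFn u = pb i s := GmPts.gmFn_ptOfUnit _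
  -- density
  have hne : (U : Set P.left).Nonempty := by
    refine ⟨(⊥ : PrimeSpectrum R), ?_⟩
    have h1 : U = PrimeSpectrum.basicOpen (Polynomial.X : R) :=
      basicOpen_eq_of_affine' (R := CommRingCat.of R) s |>.trans (by
        congr 1
        exact (γ (k := k) R).symm_apply_apply _)
    have h2 : (⊥ : PrimeSpectrum R) ∈ PrimeSpectrum.basicOpen (Polynomial.X : R) := by
      rw [PrimeSpectrum.mem_basicOpen]
      exact fun h => Polynomial.X_ne_zero h
    rw [← h1] at h2
    exact h2
  have hirr : IrreducibleSpace P.left := inferInstanceAs (IrreducibleSpace (PrimeSpectrum R))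
  have hdense : Dense (U : Set P.left) := U.isOpen.dense hne
  obtain ⟨F', h1, h2⟩ := exists_ext R P.hom X.hom U hdense (u ≫ o).left (Over.w (u ≫ o))
  let F'' : P ⟶ X := Over.homMk F' h1
  have hF : i ≫ F'' = u ≫ o := by
    ext1
    exact h2
  -- the multiplicative group maps to `U`
  have hr : Set.range (incl 𝕊 ≫ toP k).left ⊆ Set.range U.ι := by
    rw [Scheme.Opens.range_ι]
    rintro _ ⟨z, rfl⟩
    change z ∈ (incl 𝕊 ≫ toP k).left ⁻¹ᵁ P.left.basicOpen s
    rw [Scheme.preimage_basicOpen_top]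
    have h3 : (incl 𝕊 ≫ toP k).left.appTop s = Red.gmFn (𝟙 (Red.Gm 𝕊)) := by
      change pb (incl 𝕊 ≫ toP k) s = _
      rw [pb_comp_apply, pb_toP_X, ← co_comp, Category.comp_id, ← co_incl, Category.id_comp]
    rw [h3, Scheme.basicOpen_of_isUnit _ (GmPts.isUnit_gmFn _)]
    trivial
  let j : Red.Gm 𝕊 ⟶ W := Over.homMk (IsOpenImmersion.lift U.ι (incl 𝕊 ≫ toP k).left hr) (by
    change _ ≫ U.ι ≫ P.hom = _
    rw [IsOpenImmersion.lift_fac_assoc]
    exact Over.w (incl 𝕊 ≫ toP k))
  have hj : j ≫ i = incl 𝕊 ≫ toP k := by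
    ext1
    exact IsOpenImmersion.lift_fac _ _ _
  have hju : j ≫ u = 𝟙 _ := by
    apply GmPts.gmFn_injective
    simp only
    rw [GmPts.gmFn_comp, hu]
    change pb j (pb i s) = _
    rw [← pb_comp_apply, hj, pb_comp_apply, pb_toP_X, ← co_comp, Category.comp_id, ← co_incl,
      Category.id_comp]
  refine ⟨toP k ≫ F'', ?_⟩
  rw [← Category.assoc, ← hj, Category.assoc, hF, ← Category.assoc, hju, Category.id_comp]

/-- Limits under one-parameter subgroups exist on a proper scheme. -/
theorem exists_isLimitPt {G : Over 𝕊} [GrpObj G] [IsProper X.hom] (a : AlgGrp.Action G X)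
    (l : Red.Gm 𝕊 ⟶ G) [IsMonHom l] (x : 𝟙_ (Over 𝕊) ⟶ X) :
    ∃ y : 𝟙_ (Over 𝕊) ⟶ X, IsLimitPt a l x y := by
  obtain ⟨F, hF⟩ := exists_ext_A1 (lift (𝟙 _) (toUnit _) ≫ orb a l x)
  refine ⟨_, (isLimitPt_iff a l x _).2 ⟨fst _ _ ≫ F, ?_, rfl⟩⟩
  rw [← Category.assoc, whiskerRight_fst, Category.assoc, hF, ← Category.assoc]
  have : fst (Red.Gm 𝕊) (𝟙_ (Over 𝕊)) ≫ lift (𝟙 _) (toUnit _) = 𝟙 _ := by
    ext1
    · simp
    · exact toUnit_unique _ _
  rw [this, Category.id_comp]

end A1

end K691.LimExist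

end
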