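import Groth.Agent.GIT.K691.FibPt

/-!
# The order of vanishing along the arc of a limit is the weight on the fibre

Let `y` be the limit of `l(u) · x`, `w` the weight of the multiplicative group on the fibre over `y`,
`ṽ` a nonzero point of the fibre over `x` and `f` a section of weight `n`.
Then `f(l(b) · ṽ) = b ^ (n w) D(b)` with `D ∈ k⟦b⟧`, and `D(0) ≠ 0` iff `y ∈ X_f`.
-/

set_option autoImplicit false

universe u

open CategoryTheory CategoryTheory.Limits MonoidalCategory CartesianMonoidalCategory MonObj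
  AlgebraicGeometry Opposite

noncomputable section

namespace K691.MuKey

open HMNum K951.Pts K951.Prd K691.Limit K691.FibreWt K691.FibPt K691.Arc K691.Fps

section General

variable {S : Scheme.{u}} {G X : Over S} [GrpObj G] {a : AlgGrp.Action G X}
  (B : GLinSh.LinBun G a)

/-- A point of the total space which is nonzero in its fibre. -/
def NZ {W : Over S} (v : W ⟶ B.V) : Prop :=
  ∃ (U : X.left.Opens) (yc : Γ(B.V.left, B.π.left ⁻¹ᵁ U)), yc ∈ B.atlas.chart U ∧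
    ∃ h : ⊤ ≤ v.left ⁻¹ᵁ (B.π.left ⁻¹ᵁ U), IsUnit (evalFn B.π yc v h)

theorem le_of_comp {W W' : Over S} {v : W ⟶ B.V} (t : W' ⟶ W) {U : X.left.Opens}
    (h : ⊤ ≤ v.left ⁻¹ᵁ (B.π.left ⁻¹ᵁ U)) : ⊤ ≤ (t ≫ v).left ⁻¹ᵁ (B.π.left ⁻¹ᵁ U) := by
  intro w _
  exact h (show t.left w ∈ (⊤ : W.left.Opens) from trivial)

variable {B} in
theorem NZ.comp {W W' : Over S} {v : W ⟶ B.V} (hv : NZ B v) (t : W' ⟶ W) : NZ B (t ≫ v) := by
  obtain ⟨U, yc, hyc, h, hu⟩ := hv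
  refine ⟨U, yc, hyc, le_of_comp B t h, ?_⟩
  rw [evalFn_comp B.π yc t v h]
  exact hu.map _

theorem evalFn_res {W : Over S} (v : W ⟶ B.V) {U U' : X.left.Opens} (hU : U' ≤ U)
    (yc : Γ(B.V.left, B.π.left ⁻¹ᵁ U)) (h' : ⊤ ≤ v.left ⁻¹ᵁ (B.π.left ⁻¹ᵁ U'))
    (h : ⊤ ≤ v.left ⁻¹ᵁ (B.π.left ⁻¹ᵁ U)) :
    evalFn B.π (GLinSh.res B.π hU yc) v h' = evalFn B.π yc v h := by
  rw [evalFn_eq_ev, evalFn_eq_ev]
  exact ev_map v.left (B.π.left.preimage_mono hU) h' h yc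

/-- Two charts differ at a point by a unit depending only on the image in the base. -/
theorem chart_change {U U' : X.left.Opens} {y : Γ(B.V.left, B.π.left ⁻¹ᵁ U)}
    {y' : Γ(B.V.left, B.π.left ⁻¹ᵁ U')} (hy : y ∈ B.atlas.chart U) (hy' : y' ∈ B.atlas.chart U')
    {W : Over S} (p : W ⟶ X) (hU : ⊤ ≤ p.left ⁻¹ᵁ U) (hU' : ⊤ ≤ p.left ⁻¹ᵁ U') :
    ∃ c : Γ(W.left, ⊤), IsUnit c ∧ ∀ (v : W ⟶ B.V) (_ : v ≫ B.π = p)
      (h : ⊤ ≤ v.left ⁻¹ᵁ (B.π.left ⁻¹ᵁ U)) (h' : ⊤ ≤ v.left ⁻¹ᵁ (B.π.left ⁻¹ᵁ U')),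
      evalFn B.π y' v h' = c * evalFn B.π y v h := by
  obtain ⟨c, hc, hcc⟩ := B.atlas.linear U U' y y' hy hy'
  have hp : ⊤ ≤ p.left ⁻¹ᵁ (U ⊓ U') := le_inf hU hU'
  refine ⟨ev p.left hp c, hc.map _, fun v hv h h' => ?_⟩
  have hi : ⊤ ≤ v.left ⁻¹ᵁ (B.π.left ⁻¹ᵁ (U ⊓ U')) := le_inf h h'
  have h1 := congrArg (ev v.left hi) hcc
  rw [ev_mul, ev_app v.left B.π.left hi hi] at h1
  have h2 : ev v.left hi (GLinSh.res B.π inf_le_right y') = evalFn B.π y' v h' :=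
    evalFn_res B v inf_le_right y' hi h'
  have h3 : ev v.left hi (GLinSh.res B.π inf_le_left y) = evalFn B.π y v h :=
    evalFn_res B v inf_le_left y hi h
  rw [h2, h3] at h1
  rw [h1]
  congr 1
  apply ev_congr
  rw [← hv]
  rfl

variable {B} in
/-- A nonzero point has an invertible coordinate in every chart in which it lands. -/
theorem NZ.isUnit {W : Over S} {v : W ⟶ B.V} (hv : NZ B v) {U : X.left.Opens}
    {yc : Γ(B.V.left, B.π.left ⁻¹ᵁ U)} (hyc : yc ∈ B.atlas.chart U)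
    (h : ⊤ ≤ v.left ⁻¹ᵁ (B.π.left ⁻¹ᵁ U)) : IsUnit (evalFn B.π yc v h) := by
  obtain ⟨U₁, y₁, hy₁, h₁, hu⟩ := hv
  obtain ⟨c, hc, hcc⟩ := chart_change B hy₁ hyc (v ≫ B.π) h₁ h
  rw [hcc v rfl h₁ h]
  exact hc.mul hu

/-- Landing of a pair. -/
theorem pair_le {W : Over S} (g : W ⟶ G) (p : W ⟶ X) {U U' : X.left.Opens}
    (hU : ⊤ ≤ p.left ⁻¹ᵁ U) (hU' : ⊤ ≤ (lift g p ≫ a.act).left ⁻¹ᵁ U') :
    ⊤ ≤ (lift g p).left ⁻¹ᵁ (a.act.left ⁻¹ᵁ U' ⊓ (snd G X).left ⁻¹ᵁ U) := by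
  have h0 : (lift g p).left ⁻¹ᵁ (a.act.left ⁻¹ᵁ U' ⊓ (snd G X).left ⁻¹ᵁ U) =
      (lift g p ≫ a.act).left ⁻¹ᵁ U' ⊓ (lift g p ≫ snd G X).left ⁻¹ᵁ U := rfl
  rw [h0, lift_snd]
  exact le_inf hU' hU

theorem act_le {W : Over S} (g : W ⟶ G) (v : W ⟶ B.V) {U' : X.left.Opens}
    (h : ⊤ ≤ (lift g (v ≫ B.π) ≫ a.act).left ⁻¹ᵁ U') :
    ⊤ ≤ (lift g v ≫ B.lift.act).left ⁻¹ᵁ (B.π.left ⁻¹ᵁ U') := by
  have h1 : (lift g v ≫ B.lift.act).left ⁻¹ᵁ (B.π.left ⁻¹ᵁ U') =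
    ((lift g v ≫ B.lift.act) ≫ B.π).left ⁻¹ᵁ U' := rfl
  rw [h1, act_comp_π]
  exact h

variable {B} in
/-- Translates of nonzero points have invertible coordinates. -/
theorem NZ.isUnit_act {W : Over S} {v : W ⟶ B.V} (hv : NZ B v) (g : W ⟶ G) {U : X.left.Opens}
    {yc : Γ(B.V.left, B.π.left ⁻¹ᵁ U)} (hyc : yc ∈ B.atlas.chart U)
    (h : ⊤ ≤ (lift g v ≫ B.lift.act).left ⁻¹ᵁ (B.π.left ⁻¹ᵁ U)) :
    IsUnit (evalFn B.π yc (lift g v ≫ B.lift.act) h) := by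
  obtain ⟨U₁, y₁, hy₁, h₁, hu⟩ := hv
  obtain ⟨c, hc⟩ := exists_coef B hyc hy₁
  have e1 : lift g⁻¹ (lift g v ≫ B.lift.act) ≫ B.lift.act = v := by
    rw [← lift_mul_act, inv_mul_cancel, lift_one_act]
  have hle : ⊤ ≤ (lift g⁻¹ (lift g v ≫ B.lift.act) ≫ B.lift.act).left ⁻¹ᵁ
      (B.π.left ⁻¹ᵁ U₁) := by
    rw [e1]; exact h₁
  have e2 : lift g⁻¹ ((lift g v ≫ B.lift.act) ≫ B.π) ≫ a.act = v ≫ B.π := by
    rw [act_comp_π, ← lift_mul_act, inv_mul_cancel, lift_one_act]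
  have h2 := hc g⁻¹ (lift g v ≫ B.lift.act) h hle (pair_le _ _ h (by rw [e2]; exact h₁))
  rw [evalFn_congr B.π y₁ e1 hle h₁] at h2
  rw [h2] at hu
  exact isUnit_of_mul_isUnit_right hu

variable {B} in
theorem NZ.act {W : Over S} {v : W ⟶ B.V} (hv : NZ B v) (g : W ⟶ G)
    (hch : ∃ (U : X.left.Opens) (yc : Γ(B.V.left, B.π.left ⁻¹ᵁ U)), yc ∈ B.atlas.chart U ∧
      ⊤ ≤ (lift g (v ≫ B.π) ≫ a.act).left ⁻¹ᵁ U) : NZ B (lift g v ≫ B.lift.act) := by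
  obtain ⟨U, yc, hyc, h⟩ := hch
  exact ⟨U, yc, hyc, act_le B g v h, hv.isUnit_act g hyc (act_le B g v h)⟩

/-- The weight on the fibre computed in an arbitrary chart. -/
theorem wt_chart {l : Red.Gm S ⟶ G} {T : Over S} {y : T ⟶ X} {w : ℤ}
    (hw : HasFibreWeight B l y w) {U : X.left.Opens} {yc : Γ(B.V.left, B.π.left ⁻¹ᵁ U)}
    (hyc : yc ∈ B.atlas.chart U) (hU : y.left ⁻¹ᵁ U = ⊤) {W : Over S} (t : W ⟶ T)
    (g : W ⟶ Red.Gm S) (v : W ⟶ B.V) (hv : v ≫ B.π = t ≫ y)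
    (hgv : (lift (g ≫ l) v ≫ B.lift.act) ≫ B.π = t ≫ y) :
    evalFn B.π yc (lift (g ≫ l) v ≫ B.lift.act) (top_le_preimage B.π hU hgv) =
      ((GmPts.unitOfPt g ^ w : (Γ(W.left, ⊤))ˣ) : Γ(W.left, ⊤)) *
        evalFn B.π yc v (top_le_preimage B.π hU hv) := by
  obtain ⟨-, U₁, y₁, hy₁, hU₁, hval⟩ := hw
  obtain ⟨c, -, hcc⟩ := chart_change B hy₁ hyc (t ≫ y)
    (by
      have e : (t ≫ y).left ⁻¹ᵁ U₁ = t.left ⁻¹ᵁ (y.left ⁻¹ᵁ U₁) := rfl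
      rw [e, hU₁]; exact le_rfl)
    (by
      have e : (t ≫ y).left ⁻¹ᵁ U = t.left ⁻¹ᵁ (y.left ⁻¹ᵁ U) := rfl
      rw [e, hU]; exact le_rfl)
  rw [hcc _ hgv (top_le_preimage B.π hU₁ hgv), hcc _ hv (top_le_preimage B.π hU₁ hv),
    hval W t g v hv hgv]
  ring

end General

section Field

variable {k : Type u} [Field k] {G X : Over (Spec (CommRingCat.of k))} [GrpObj G]
  {a : AlgGrp.Action G X} (B : GLinSh.LinBun G a)

local notation "𝕊" => Spec (CommRingCat.of k)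

/-- The point of `X` underlying a rational point. -/
abbrev pt0 {Y : Over (Spec (CommRingCat.of k))} (y : 𝟙_ (Over (Spec (CommRingCat.of k))) ⟶ Y) :
    Y.left := y.left (⊥ : PrimeSpectrum k)

theorem eq_bot_pt (s : ↥(𝟙_ (Over 𝕊)).left) : s = (⊥ : PrimeSpectrum k) :=
  @Subsingleton.elim _ (inferInstanceAs (Subsingleton (PrimeSpectrum k))) _ _

theorem preimage_eq_top_iff {Y : Over 𝕊} (y : 𝟙_ (Over 𝕊) ⟶ Y) (U : Y.left.Opens) :
    y.left ⁻¹ᵁ U = ⊤ ↔ pt0 y ∈ U := by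
  constructor
  · intro h
    have : (⊥ : PrimeSpectrum k) ∈ y.left ⁻¹ᵁ U := by rw [h]; trivial
    exact this
  · intro h
    rw [eq_top_iff]
    intro s _
    rw [eq_bot_pt s]
    exact h

/-- Scalars as functions on the base. -/
def κ (k : Type u) [Field k] : k ≃+* Γ((𝟙_ (Over (Spec (CommRingCat.of k)))).left, ⊤) :=
  (Scheme.ΓSpecIso (CommRingCat.of k)).symm.commRingCatIsoToRingEquiv

theorem pb_toUnit_κ {C : Type u} [CommRing C] [Algebra k C] (c : k) :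
    pb (toUnit (CoactBr.sp k C)) (κ k c) = γ (k := k) C (algebraMap k C c) := by
  rw [← fnS_sp]
  have h1 : (toUnit (CoactBr.sp k C)).left = (CoactBr.sp k C).hom := by
    have := Over.w (toUnit (CoactBr.sp k C))
    exact this
  change (toUnit (CoactBr.sp k C)).left.appTop.hom _ = _
  rw [h1]
  rfl

theorem κ_isUnit_iff (c : Γ((𝟙_ (Over 𝕊)).left, ⊤)) : IsUnit c ↔ c ≠ 0 := by
  obtain ⟨c, rfl⟩ := (κ k).surjective c
  rw [MulEquiv.isUnit_map (κ k), isUnit_iff_ne_zero, Ne, Ne, map_eq_zero_iff _ (κ k).injective]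

/-- Over every rational point of the base there is a point of the total space with coordinate `1`. -/
theorem exists_pt_one (y : 𝟙_ (Over 𝕊) ⟶ X) {U : X.left.Opens}
    {yc : Γ(B.V.left, B.π.left ⁻¹ᵁ U)} (hyc : yc ∈ B.atlas.chart U) (hU : y.left ⁻¹ᵁ U = ⊤) :
    ∃ v : 𝟙_ (Over 𝕊) ⟶ B.V, v ≫ B.π = y ∧ ∀ h, evalFn B.π yc v h = 1 := by
  have := B.atlas.affine
  obtain ⟨_, ⟨W, hW, rfl⟩, hyW, hWU⟩ := X.left.isBasis_affineOpens.exists_subset_of_mem_open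
    ((preimage_eq_top_iff y U).1 hU) U.isOpen
  have hyW' : ⊤ ≤ y.left ⁻¹ᵁ W := ((preimage_eq_top_iff y W).2 hyW).ge
  obtain ⟨v, hv, hc⟩ := exists_pt B.π hW (B.atlas.coord U yc hyc W hW hWU) y hyW' 1
  refine ⟨v, hv, fun h => ?_⟩
  have hvW : ⊤ ≤ v.left ⁻¹ᵁ (B.π.left ⁻¹ᵁ W) := by
    have e : v.left ⁻¹ᵁ (B.π.left ⁻¹ᵁ W) = (v ≫ B.π).left ⁻¹ᵁ W := rfl
    rw [e, hv]; exact hyW'
  rw [← evalFn_res B v hWU yc hvW h]
  exact hc hvW

theorem exists_nz (y : 𝟙_ (Over 𝕊) ⟶ X) : ∃ v : 𝟙_ (Over 𝕊) ⟶ B.V, v ≫ B.π = y ∧ NZ B v := by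
  obtain ⟨U, yc, hyc, hU⟩ := exists_chart_pt B y
  obtain ⟨v, hv, hc⟩ := exists_pt_one B y hyc hU
  have hvU : ⊤ ≤ v.left ⁻¹ᵁ (B.π.left ⁻¹ᵁ U) := by
    have e : v.left ⁻¹ᵁ (B.π.left ⁻¹ᵁ U) = (v ≫ B.π).left ⁻¹ᵁ U := rfl
    rw [e, hv]; exact hU.ge
  exact ⟨v, hv, U, yc, hyc, hvU, by rw [hc]; exact isUnit_one⟩

/-- Membership in `X_f` in terms of the coefficient in a chart. -/
theorem mem_nonvanishing_iff {f : Γ(B.V.left, ⊤)} {n : ℕ} {U : X.left.Opens}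
    {yc : Γ(B.V.left, B.π.left ⁻¹ᵁ U)} (hyc : yc ∈ B.atlas.chart U) {d : Γ(X.left, U)}
    (hd : GLinSh.resTop B.π U f = B.π.left.app U d * yc ^ n) (y : 𝟙_ (Over 𝕊) ⟶ X)
    (hU : y.left ⁻¹ᵁ U = ⊤) :
    pt0 y ∈ GLinSh.nonvanishing B.π f ↔ ev y.left hU.ge d ≠ 0 := by
  have hmem := (preimage_eq_top_iff y U).1 hU
  have hbo : pt0 y ∈ X.left.basicOpen d ↔ ev y.left hU.ge d ≠ 0 := by
    constructor
    · intro h h0
      have h1 : (𝟙_ (Over 𝕊)).left.basicOpen (ev y.left hU.ge d) = ⊤ := by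
        rw [ev, Scheme.basicOpen_appLE, (preimage_eq_top_iff y _).2 h, inf_top_eq]
      rw [h0, Scheme.basicOpen_zero] at h1
      have h2 : (⊥ : PrimeSpectrum k) ∈ (⊥ : (𝟙_ (Over 𝕊)).left.Opens) := by
        rw [h1]; trivial
      exact h2
    · intro h
      rw [← κ_isUnit_iff] at h
      have h1 := Scheme.basicOpen_of_isUnit _ h
      rw [ev, Scheme.basicOpen_appLE, top_inf_eq] at h1
      exact (preimage_eq_top_iff y _).1 h1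
  rw [← hbo]
  constructor
  · rintro ⟨z, hz, hzy⟩
    have hzU : z ∈ B.π.left ⁻¹ᵁ U := by
      change B.π.left z ∈ U
      have : B.π.left z = pt0 y := hzy
      rw [this]; exact hmem
    have h1 : z ∈ B.V.left.basicOpen (GLinSh.resTop B.π U f) := by
      rw [GLinSh.resTop, Scheme.basicOpen_res]
      exact ⟨hzU, hz⟩
    rw [hd, Scheme.basicOpen_mul] at h1
    have h2 := h1.1
    rw [← Scheme.preimage_basicOpen] at h2
    have h3 : B.π.left z ∈ X.left.basicOpen d := h2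
    have : B.π.left z = pt0 y := hzy
    rwa [this] at h3
  · intro h
    obtain ⟨v, hv, hc⟩ := exists_pt_one B y hyc hU
    have hvU : ⊤ ≤ v.left ⁻¹ᵁ (B.π.left ⁻¹ᵁ U) := by
      have e : v.left ⁻¹ᵁ (B.π.left ⁻¹ᵁ U) = (v ≫ B.π).left ⁻¹ᵁ U := rfl
      rw [e, hv]; exact hU.ge
    refine ⟨pt0 v, ?_, ?_⟩
    · have h1 : ev v.left hvU (GLinSh.resTop B.π U f) ≠ 0 := by
        rw [hd, ev_mul, ev_pow, ev_app v.left B.π.left hvU hvU]
        have h2 : ev v.left hvU yc = 1 := hc hvU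
        rw [h2, one_pow, _root_.mul_one]
        have h3 : ev (v.left ≫ B.π.left) hvU d = ev y.left hU.ge d := by
          apply ev_congr
          rw [← hv]; rfl
        rw [h3]
        exact hbo.1 h
      rw [← κ_isUnit_iff] at h1
      have h4 := Scheme.basicOpen_of_isUnit _ h1
      rw [ev, Scheme.basicOpen_appLE, top_inf_eq, GLinSh.resTop, Scheme.basicOpen_res] at h4
      exact ((preimage_eq_top_iff v _).1 h4).2
    · change B.π.left (v.left _) = _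
      rw [← hv]; rfl

end Field

end K691.MuKey

end
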