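import Groth.Agent.GIT.K691.MuTorus
import Groth.Agent.Sga3B.TorusAlgClosed

/-!
# Subadditivity of the numerical function on the one-parameter subgroups of a torus
-/

set_option autoImplicit false

universe u

open CategoryTheory CategoryTheory.Limits MonoidalCategory CartesianMonoidalCategory MonObj
  AlgebraicGeometry Opposite

noncomputable section

namespace K691.MuTorus

open HMNum K951.Pts K951.Prd Magnet

variable {k : Type u} [Field k] {M : Type} [AddCommGroup M]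

local notation "𝕊" => Spec (CommRingCat.of k)

theorem isMonHom_of_pts {C : Type*} [Category C] [CartesianMonoidalCategory C] {A N : C} [MonObj A]
    [MonObj N] (f : A ⟶ N) (h1 : (1 : 𝟙_ C ⟶ A) ≫ f = 1)
    (h : ∀ (W : C) (x y : W ⟶ A), (x * y) ≫ f = (x ≫ f) * (y ≫ f)) : IsMonHom f where
  one_hom := by
    rw [MonObj.one_eq_one, MonObj.one_eq_one]
    exact h1
  mul_hom := by
    have h2 := h (A ⊗ A) (fst A A) (snd A A)
    have h3 : fst A A * snd A A = μ[A] := by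
      rw [Hom.mul_def, lift_fst_snd, Category.id_comp]
    rw [h3, Hom.mul_def] at h2
    rw [h2]
    congr 1
    ext1 <;> simp

theorem isMonHom_mul {l l' : Red.Gm 𝕊 ⟶ AMonS 𝕊 M} [IsMonHom l] [IsMonHom l'] :
    IsMonHom (l * l') := by
  apply isMonHom_of_pts
  · rw [MonObj.comp_mul, MonObj.one_comp, MonObj.one_comp, _root_.mul_one]
  · intro W x y
    rw [MonObj.comp_mul, MonObj.comp_mul, MonObj.comp_mul, MonObj.mul_comp, MonObj.mul_comp]
    rw [_root_.mul_assoc, _root_.mul_assoc]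
    congr 1
    rw [← _root_.mul_assoc, comm_pts (y ≫ l) (x ≫ l'), _root_.mul_assoc]

/-- A split form of a torus over an algebraically closed field. -/
theorem exists_split {K : Type u} [Field K] [IsAlgClosed K] {T : Over (Spec (CommRingCat.of K))}
    [GrpObj T] (h : Red.IsTorus T) :
    ∃ (r : ℕ) (f : T ⟶ AMonS (Spec (CommRingCat.of K)) (Fin r → ℤ))
      (f' : AMonS (Spec (CommRingCat.of K)) (Fin r → ℤ) ⟶ T), IsMonHom f ∧ IsMonHom f' ∧
      f ≫ f' = 𝟙 T ∧ f' ≫ f = 𝟙 _ := by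
  obtain ⟨r, ⟨e⟩⟩ := Groth.Agent.Sga3B.TorusAlgClosed.exists_isSplitTorusWith h
  exact ⟨r, e.hom.hom.hom, e.inv.hom.hom, inferInstanceAs (IsMonHom e.hom.hom.hom),
    inferInstanceAs (IsMonHom e.inv.hom.hom), congrArg (fun u => u.hom.hom) e.hom_inv_id,
    congrArg (fun u => u.hom.hom) e.inv_hom_id⟩

/-- Products of one-parameter subgroups of a torus. -/
theorem isMonHom_mul_torus {K : Type u} [Field K] [IsAlgClosed K]
    {T : Over (Spec (CommRingCat.of K))} [GrpObj T] (h : Red.IsTorus T)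
    (l l' : Red.Gm (Spec (CommRingCat.of K)) ⟶ T) [IsMonHom l] [IsMonHom l'] :
    IsMonHom (l * l') := by
  obtain ⟨r, f, f', hf, hf', hff', -⟩ := exists_split h
  have h1 : l * l' = ((l ≫ f) * (l' ≫ f)) ≫ f' := by
    rw [← MonObj.mul_comp, Category.assoc, hff', Category.comp_id]
  rw [h1]
  have : IsMonHom ((l ≫ f) * (l' ≫ f)) := isMonHom_mul
  infer_instance

variable {G X : Over (Spec (CommRingCat.of k))} [GrpObj G] {a : AlgGrp.Action G X}
  (B : GLinSh.LinBun G a)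

/-- Subadditivity of the numerical function. -/
theorem mu_mul_le [Infinite k] (hsep : Fps.Sep k M) [IsProper X.hom] (hB : AmpleCover B)
    (j : AMonS 𝕊 M ⟶ G) [IsMonHom j] (x : 𝟙_ (Over 𝕊) ⟶ X)
    (l₁ l₂ : Red.Gm 𝕊 ⟶ AMonS 𝕊 M) [IsMonHom l₁] [IsMonHom l₂] [IsMonHom (l₁ * l₂)]
    {m₁ m₂ m : ℤ} (h₁ : IsMu B (l₁ ≫ j) x m₁) (h₂ : IsMu B (l₂ ≫ j) x m₂)
    (h : IsMu B ((l₁ * l₂) ≫ j) x m) : m ≤ m₁ + m₂ := by
  obtain ⟨J, -, hJ⟩ := exists_linear B hsep hB j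
  obtain ⟨I, -, hI⟩ := hJ x
  obtain ⟨p₁, hp₁, e₁, hm₁⟩ := (hI l₁ m₁).1 h₁
  obtain ⟨p₂, hp₂, e₂, hm₂⟩ := (hI l₂ m₂).1 h₂
  obtain ⟨p, hp, e, -⟩ := (hI (l₁ * l₂) m).1 h
  have h3 := hm₁ p hp
  have h4 := hm₂ p hp
  rw [← e₁] at h3
  rw [← e₂] at h4
  rw [pairing_mul] at e
  have h5 : (m : ℚ) ≤ m₁ + m₂ := by
    rw [e]
    have h6 : -((pairing l₁ p.2 + pairing l₂ p.2 : ℤ) : ℚ) / (p.1 : ℚ) =
        -(pairing l₁ p.2 : ℚ) / p.1 + -(pairing l₂ p.2 : ℚ) / p.1 := by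
      push_cast
      ring
    rw [h6]
    linarith
  exact_mod_cast h5

end K691.MuTorus

end
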