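import Groth.Agent.GIT.K691.CharGm

/-!
# Existence and uniqueness of the weight on the fibre over a fixed point
-/

set_option autoImplicit false

universe u

open CategoryTheory CategoryTheory.Limits MonoidalCategory CartesianMonoidalCategory MonObj
  AlgebraicGeometry Opposite

noncomputable section

namespace K691.WtExist

open HMNum K951.Pts K951.Prd K691.Limit K691.Arc K691.MuKey K691.CharGm K691.FibreWt Magnet

variable {k : Type u} [Field k] {G X : Over (Spec (CommRingCat.of k))} [GrpObj G]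
  {a : AlgGrp.Action G X} (B : GLinSh.LinBun G a)

local notation "𝕊" => Spec (CommRingCat.of k)

/-- The weight on the fibre over a fixed rational point exists. -/
theorem exists_weight (l : Red.Gm 𝕊 ⟶ G) [IsMonHom l] (y : 𝟙_ (Over 𝕊) ⟶ X)
    (hy : IsFixedBy a l y) : ∃ w : ℤ, HasFibreWeight B l y w := by
  obtain ⟨U, yc, hyc, hU⟩ := exists_chart_pt B y
  obtain ⟨c, hc⟩ := exists_coef B hyc hyc
  obtain ⟨v₀, hv₀, hv1⟩ := exists_pt_one B y hyc hU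
  have hyW : ∀ {W : Over 𝕊}, ⊤ ≤ (toUnit W ≫ y).left ⁻¹ᵁ U := by
    intro W
    have e : (toUnit W ≫ y).left ⁻¹ᵁ U = (toUnit W).left ⁻¹ᵁ (y.left ⁻¹ᵁ U) := rfl
    rw [e, hU]; exact le_rfl
  have hfix : ∀ {W : Over 𝕊} (g : W ⟶ Red.Gm 𝕊), lift (g ≫ l) (toUnit W ≫ y) ≫ a.act =
      toUnit W ≫ y := fun {W} g => hy W (toUnit W) g
  have hpair : ∀ {W : Over 𝕊} (g : W ⟶ Red.Gm 𝕊), ⊤ ≤ (lift (g ≫ l) (toUnit W ≫ y)).left ⁻¹ᵁ
      (a.act.left ⁻¹ᵁ U ⊓ (snd G X).left ⁻¹ᵁ U) := fun g =>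
    pair_le _ _ hyW (by rw [hfix]; exact hyW)
  let F : Fn (Red.Gm 𝕊) := ev (lift (𝟙 _ ≫ l) (toUnit (Red.Gm 𝕊) ≫ y)).left (hpair (𝟙 _)) c
  have hF : ∀ {W : Over 𝕊} (g : W ⟶ Red.Gm 𝕊),
      pb g F = ev (lift (g ≫ l) (toUnit W ≫ y)).left (hpair g) c := by
    intro W g
    have e1 : g ≫ lift (𝟙 _ ≫ l) (toUnit (Red.Gm 𝕊) ≫ y) = lift (g ≫ l) (toUnit W ≫ y) := by
      rw [comp_lift, Category.id_comp, ← Category.assoc g,
        toUnit_unique (g ≫ toUnit _) (toUnit W)]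
    have hle : ⊤ ≤ (g ≫ lift (𝟙 _ ≫ l) (toUnit (Red.Gm 𝕊) ≫ y)).left ⁻¹ᵁ
        (a.act.left ⁻¹ᵁ U ⊓ (snd G X).left ⁻¹ᵁ U) := by rw [e1]; exact hpair g
    have h1 : pb g F = ev (g ≫ lift (𝟙 _ ≫ l) (toUnit (Red.Gm 𝕊) ≫ y)).left hle c :=
      (ev_comp g.left _ (hpair (𝟙 _)) hle c).symm
    rw [h1]
    apply ev_congr
    rw [e1]
  -- the value of the coordinate of a translate
  have hval : ∀ {W : Over 𝕊} (g : W ⟶ Red.Gm 𝕊) (v : W ⟶ B.V) (hv : v ≫ B.π = toUnit W ≫ y)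
      (h1 : ⊤ ≤ v.left ⁻¹ᵁ (B.π.left ⁻¹ᵁ U))
      (h2 : ⊤ ≤ (lift (g ≫ l) v ≫ B.lift.act).left ⁻¹ᵁ (B.π.left ⁻¹ᵁ U)),
      evalFn B.π yc (lift (g ≫ l) v ≫ B.lift.act) h2 = pb g F * evalFn B.π yc v h1 := by
    intro W g v hv h1 h2
    have h3 : ⊤ ≤ (lift (g ≫ l) (v ≫ B.π)).left ⁻¹ᵁ
        (a.act.left ⁻¹ᵁ U ⊓ (snd G X).left ⁻¹ᵁ U) := by rw [hv]; exact hpair g
    rw [hc (g ≫ l) v h1 h2 h3, hF]
    congr 1
    apply ev_congr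
    rw [hv]
  have hland : ∀ {W : Over 𝕊} (v : W ⟶ B.V), v ≫ B.π = toUnit W ≫ y →
      ⊤ ≤ v.left ⁻¹ᵁ (B.π.left ⁻¹ᵁ U) := by
    intro W v hv
    have e : v.left ⁻¹ᵁ (B.π.left ⁻¹ᵁ U) = (v ≫ B.π).left ⁻¹ᵁ U := rfl
    rw [e, hv]; exact hyW
  have hactπ : ∀ {W : Over 𝕊} (g : W ⟶ Red.Gm 𝕊) (v : W ⟶ B.V), v ≫ B.π = toUnit W ≫ y →
      (lift (g ≫ l) v ≫ B.lift.act) ≫ B.π = toUnit W ≫ y := by
    intro W g v hv
    rw [act_comp_π, hv, hfix]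
  have hone : ∀ {W : Over 𝕊} (h : ⊤ ≤ (toUnit W ≫ v₀).left ⁻¹ᵁ (B.π.left ⁻¹ᵁ U)),
      evalFn B.π yc (toUnit W ≫ v₀) h = 1 := by
    intro W h
    have h0 : ⊤ ≤ v₀.left ⁻¹ᵁ (B.π.left ⁻¹ᵁ U) := by
      have e : v₀.left ⁻¹ᵁ (B.π.left ⁻¹ᵁ U) = (v₀ ≫ B.π).left ⁻¹ᵁ U := rfl
      rw [e, hv₀]; exact hU.ge
    rw [evalFn_comp B.π yc (toUnit W) v₀ h0, hv1, map_one]
  have hv0π : ∀ {W : Over 𝕊}, (toUnit W ≫ v₀) ≫ B.π = toUnit W ≫ y := by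
    intro W
    rw [Category.assoc, hv₀]
  have hFval : ∀ {W : Over 𝕊} (g : W ⟶ Red.Gm 𝕊)
      (h : ⊤ ≤ (lift (g ≫ l) (toUnit W ≫ v₀) ≫ B.lift.act).left ⁻¹ᵁ (B.π.left ⁻¹ᵁ U)),
      evalFn B.π yc (lift (g ≫ l) (toUnit W ≫ v₀) ≫ B.lift.act) h = pb g F := by
    intro W g h
    rw [hval g _ hv0π (hland _ hv0π) h, hone, _root_.mul_one]
  have hmul : ∀ {W : Over 𝕊} (g h : W ⟶ Red.Gm 𝕊), pb (g * h) F = pb g F * pb h F := by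
    intro W g h
    have hh := hactπ h _ (hv0π (W := W))
    have e1 : lift ((g * h) ≫ l) (toUnit W ≫ v₀) ≫ B.lift.act =
        lift (g ≫ l) (lift (h ≫ l) (toUnit W ≫ v₀) ≫ B.lift.act) ≫ B.lift.act := by
      rw [MonObj.mul_comp, lift_mul_act]
    rw [← hFval (g * h) (hland _ (hactπ _ _ hv0π)),
      evalFn_congr B.π yc e1 _ (hland _ (hactπ g _ hh)),
      hval g _ hh (hland _ hh), hFval h]
  obtain ⟨w, hw⟩ := exists_char (M := ℤ) F (by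
      intro h0
      have h1 := hFval (1 : 𝟙_ (Over 𝕊) ⟶ Red.Gm 𝕊) (hland _ (hactπ _ _ hv0π))
      have e1 : lift ((1 : 𝟙_ (Over 𝕊) ⟶ Red.Gm 𝕊) ≫ l) (toUnit _ ≫ v₀) ≫ B.lift.act =
        toUnit _ ≫ v₀ := by rw [MonObj.one_comp, lift_one_act]
      rw [h0, map_zero, evalFn_congr B.π yc e1 _ (hland _ hv0π), hone] at h1
      exact (κ_isUnit_iff (k := k) _).1 isUnit_one h1) hmul
  refine ⟨w, hy, U, yc, hyc, hU, ?_⟩
  intro T' t g v hv hgv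
  have et : t = toUnit T' := toUnit_unique _ _
  subst et
  rw [hval g v hv (top_le_preimage B.π hU hv) (top_le_preimage B.π hU hgv), hw g, chi_gm]

/-- The weight on the fibre over a fixed rational point is unique. -/
theorem weight_unique {l : Red.Gm 𝕊 ⟶ G} {y : 𝟙_ (Over 𝕊) ⟶ X} {w w' : ℤ}
    (hw : HasFibreWeight B l y w) (hw' : HasFibreWeight B l y w') : w = w' := by
  obtain ⟨U, yc, hyc, hU⟩ := exists_chart_pt B y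
  obtain ⟨v₀, hv₀, hv1⟩ := exists_pt_one B y hyc hU
  refine eq_of_chi_gm (k := k) fun {W} g => ?_
  have hv0π : (toUnit W ≫ v₀) ≫ B.π = toUnit W ≫ y := by rw [Category.assoc, hv₀]
  have hgv : (lift (g ≫ l) (toUnit W ≫ v₀) ≫ B.lift.act) ≫ B.π = toUnit W ≫ y := by
    rw [act_comp_π, hv0π]
    exact hw.1 W (toUnit W) g
  have h1 := wt_chart B hw hyc hU (toUnit W) g (toUnit W ≫ v₀) hv0π hgv
  have h2 := wt_chart B hw' hyc hU (toUnit W) g (toUnit W ≫ v₀) hv0π hgv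
  have hone : evalFn B.π yc (toUnit W ≫ v₀) (top_le_preimage B.π hU hv0π) = 1 := by
    have h0 : ⊤ ≤ v₀.left ⁻¹ᵁ (B.π.left ⁻¹ᵁ U) := by
      have e : v₀.left ⁻¹ᵁ (B.π.left ⁻¹ᵁ U) = (v₀ ≫ B.π).left ⁻¹ᵁ U := rfl
      rw [e, hv₀]; exact hU.ge
    rw [evalFn_comp B.π yc (toUnit W) v₀ h0, hv1, map_one]
  rw [chi_gm, chi_gm]
  rw [h1, hone, _root_.mul_one, _root_.mul_one] at h2
  exact h2

end K691.WtExist

end
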