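import Groth.Agent.GIT.K691.MuOrd
import Groth.Agent.GIT.K691.WtExist
import Groth.Agent.GIT.K691.LimExist
import Groth.Agent.GIT.K691.Expand

/-!
# The numerical function on the one-parameter subgroups of a torus is a maximum of linear functions
-/

set_option autoImplicit false

universe u

open CategoryTheory CategoryTheory.Limits MonoidalCategory CartesianMonoidalCategory MonObj
  AlgebraicGeometry Opposite

noncomputable section

namespace K691.MuTorus

open HMNum K951.Pts K951.Prd K691.Limit K691.FibreWt K691.FibPt K691.Arc K691.Fps K691.MuKey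
  K691.CharGm Magnet

variable {k : Type u} [Field k] {G X : Over (Spec (CommRingCat.of k))} [GrpObj G]
  {a : AlgGrp.Action G X} (B : GLinSh.LinBun G a) {M : Type} [AddCommGroup M]

local notation "𝕊" => Spec (CommRingCat.of k)

theorem comm_pts {S : Scheme.{u}} {W : Over S} (g h : W ⟶ AMonS S M) : g * h = h * g := by
  apply chi_injective
  rw [chi_mul, chi_mul, mul_comm]

/-- `h` is the pairing with the one-parameter subgroup `l` of `A(M)`. -/
def IsPairing (l : Red.Gm (Spec (CommRingCat.of k)) ⟶ AMonS (Spec (CommRingCat.of k)) M) (m : M)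
    (n : ℤ) : Prop :=
  ∀ (W : Over (Spec (CommRingCat.of k))) (g : W ⟶ Red.Gm (Spec (CommRingCat.of k))),
    chi (g ≫ l) (Multiplicative.ofAdd m) = chi (M := ℤ) g (Multiplicative.ofAdd n)

theorem IsPairing.unique {l : Red.Gm (Spec (CommRingCat.of k)) ⟶ AMonS (Spec (CommRingCat.of k)) M}
    {m : M} {n n' : ℤ} (h : IsPairing l m n) (h' : IsPairing l m n') : n = n' :=
  eq_of_chi_gm (k := k) fun {W} g => (h W g).symm.trans (h' W g)

theorem IsPairing.mul
    {l l' : Red.Gm (Spec (CommRingCat.of k)) ⟶ AMonS (Spec (CommRingCat.of k)) M}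
    {m : M} {n n' : ℤ} (h : IsPairing l m n) (h' : IsPairing l' m n') :
    IsPairing (l * l') m (n + n') := by
  intro W g
  rw [MonObj.comp_mul, chi_mul, MonoidHom.mul_apply, h W g, h' W g, ofAdd_add, map_mul]

open Classical in
/-- The pairing (0 if it does not exist). -/
def pairing (l : Red.Gm (Spec (CommRingCat.of k)) ⟶ AMonS (Spec (CommRingCat.of k)) M) (m : M) : ℤ :=
  if h : ∃ n, IsPairing l m n then h.choose else 0

theorem IsPairing.eq {l : Red.Gm (Spec (CommRingCat.of k)) ⟶ AMonS (Spec (CommRingCat.of k)) M}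
    {m : M} {n : ℤ} (h : IsPairing l m n) : pairing l m = n := by
  have h' : ∃ n, IsPairing l m n := ⟨n, h⟩
  rw [pairing, dif_pos h']
  exact h'.choose_spec.unique h

theorem isPairing_pairing (l : Red.Gm 𝕊 ⟶ AMonS 𝕊 M) [IsMonHom l] (m : M) :
    IsPairing l m (pairing l m) := by
  obtain ⟨h, hh⟩ := exists_pairing l
  have h1 : IsPairing l m (h m) := fun W g => hh g m
  rw [h1.eq]
  exact h1

theorem pairing_mul (l l' : Red.Gm 𝕊 ⟶ AMonS 𝕊 M) [IsMonHom l] [IsMonHom l'] (m : M) :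
    pairing (l * l') m = pairing l m + pairing l' m :=
  ((isPairing_pairing l m).mul (isPairing_pairing l' m)).eq

variable {B}

/-- The key estimate for the numerical function on the one-parameter subgroups of a diagonalizable
group. -/
theorem torus_key [Infinite k] (hsep : Fps.Sep k M) (j : AMonS 𝕊 M ⟶ G) [IsMonHom j]
    (l : Red.Gm 𝕊 ⟶ AMonS 𝕊 M) [IsMonHom l] {x y : 𝟙_ (Over 𝕊) ⟶ X}
    (hxy : IsLimitPt a (l ≫ j) x y) {w : ℤ} (hw : HasFibreWeight B (l ≫ j) y w)
    {v₀ : 𝟙_ (Over 𝕊) ⟶ B.V} (hv : v₀ ≫ B.π = x) (hnz : NZ B v₀) {f : Γ(B.V.left, ⊤)} {n : ℕ}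
    (hf : GLinSh.HasWeight B.atlas.chart n f) (s : Finset M) (c : M → k)
    (hc : ∀ {W : Over 𝕊} (t : W ⟶ AMonS 𝕊 M),
      pb (lift t (toUnit W ≫ v₀) ≫ (j ▷ B.V) ≫ B.lift.act) f =
        ∑ m ∈ s, pb (toUnit W) (κ k (c m)) * chi t (Multiplicative.ofAdd m)) :
    (∀ m ∈ s, c m ≠ 0 → (n : ℤ) * w ≤ pairing l m) ∧
      (pt0 y ∈ GLinSh.nonvanishing B.π f → ∃ m ∈ s, c m ≠ 0 ∧ pairing l m = (n : ℤ) * w) := by
  have hpair := isPairing_pairing l
  -- values along the arc of a translate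
  have hval : ∀ (t : Multiplicative M →* k) (t₀ : 𝟙_ (Over 𝕊) ⟶ AMonS 𝕊 M)
      (_ : ∀ m, chi t₀ m = κ k (t m)),
      (γ (k := k) (L k)).symm (pb (vL B (l ≫ j) (lift (t₀ ≫ j) v₀ ≫ B.lift.act)) f) =
        ∑ m ∈ s, algebraMap k (L k) (c m * t (Multiplicative.ofAdd m)) * bL k ^ pairing l m := by
    intro t t₀ ht₀
    have e1 : vL B (l ≫ j) (lift (t₀ ≫ j) v₀ ≫ B.lift.act) =
        lift ((bG k ≫ l) * (toUnit _ ≫ t₀)) (toUnit _ ≫ v₀) ≫ (j ▷ B.V) ≫ B.lift.act := by
      rw [vL, ← Category.assoc (lift _ _) (j ▷ B.V), lift_whiskerRight, MonObj.mul_comp,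
        lift_mul_act, Category.assoc, ← Category.assoc (toUnit _), comp_lift, Category.assoc]
    rw [e1, hc, map_sum]
    refine Finset.sum_congr rfl fun m _ => ?_
    rw [chi_mul, MonoidHom.mul_apply, chi_comp (toUnit _) t₀, ht₀, hpair m _ (bG k), chi_gm,
      unitOfPt_bG]
    have h2 : (toUnit (CoactBr.sp k (L k))).left.appTop.hom (κ k (t (Multiplicative.ofAdd m))) =
      γ (k := k) (L k) (algebraMap k (L k) (t (Multiplicative.ofAdd m))) := pb_toUnit_κ _
    have h3 : pb (toUnit (CoactBr.sp k (L k))) (κ k (c m)) =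
      γ (k := k) (L k) (algebraMap k (L k) (c m)) := pb_toUnit_κ _
    have h4 : ((Units.map (γ (k := k) (L k) : L k →* Fn (CoactBr.sp k (L k))) (bu k) ^ pairing l m :
          (Fn (CoactBr.sp k (L k)))ˣ) : Fn (CoactBr.sp k (L k))) =
        γ (k := k) (L k) (bL k ^ pairing l m) := by
      rw [← map_zpow, ← val_bu, ← Units.val_zpow_eq_zpow_val]
      rfl
    rw [h2, h3, h4, ← map_mul, ← map_mul, RingEquiv.symm_apply_apply, map_mul]
    ring
  have hconj : ∀ t₀ : 𝟙_ (Over 𝕊) ⟶ AMonS 𝕊 M, l ≫ j = conj (t₀ ≫ j) (l ≫ j) := by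
    intro t₀
    rw [conj]
    have e1 : (toUnit (Red.Gm 𝕊) ≫ t₀ ≫ j) * (l ≫ j) = (l ≫ j) * (toUnit (Red.Gm 𝕊) ≫ t₀ ≫ j) := by
      rw [← Category.assoc, ← MonObj.mul_comp, ← MonObj.mul_comp, comm_pts]
    rw [e1, mul_inv_cancel_right]
  constructor
  · refine le_of_regular hsep s c (pairing l) ((n : ℤ) * w) fun t ht => ?_
    let t₀ : 𝟙_ (Over 𝕊) ⟶ AMonS 𝕊 M := ofChi (((κ k : k →* _)).comp t)
    have ht₀ : ∀ m, chi t₀ m = κ k (t m) := fun m => by
      rw [chi_ofChi]; rfl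
    -- the translated data
    have h1 := isLimitPt_translate (t₀ ≫ j) (hconj t₀) hxy
    rw [toUnit_unique (toUnit (𝟙_ (Over 𝕊))) (𝟙 _), Category.id_comp] at h1
    have h2 := hasFibreWeight_translate_iff B (t₀ ≫ j) hw
    rw [← hconj t₀] at h2
    obtain ⟨F, hF⟩ := exists_isArc h1
    have hv' : (lift (t₀ ≫ j) v₀ ≫ B.lift.act) ≫ B.π = lift (t₀ ≫ j) x ≫ a.act := by
      rw [act_comp_π, hv]
    have hnz' : NZ B (lift (t₀ ≫ j) v₀ ≫ B.lift.act) := by
      obtain ⟨U, yc, hyc, hU⟩ := exists_chart_pt B (lift (t₀ ≫ j) x ≫ a.act)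
      exact hnz.act _ ⟨U, yc, hyc, by rw [hv]; exact hU.ge⟩
    obtain ⟨D, hD, -⟩ := ord_section hF h2 hv' hnz' hf
    refine ⟨D, ?_⟩
    rw [← hval t t₀ ht₀, hD]
  · intro hy
    obtain ⟨F, hF⟩ := exists_isArc hxy
    obtain ⟨D, hD, hD0⟩ := ord_section hF hw hv hnz hf
    have h1 := hval 1 1 (fun m => by rw [chi_one]; simp)
    have e1 : lift ((1 : 𝟙_ (Over 𝕊) ⟶ AMonS 𝕊 M) ≫ j) v₀ ≫ B.lift.act = v₀ := by
      rw [MonObj.one_comp, lift_one_act]
    rw [e1, hD] at h1
    refine exists_eq_of_unit s c (pairing l) ((n : ℤ) * w) D ?_ (hD0.2 hy)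
    rw [h1]
    refine Finset.sum_congr rfl fun m _ => ?_
    rw [MonoidHom.one_apply, _root_.mul_one]

variable (B) in
/-- The numerical function on the one-parameter subgroups of a diagonalizable group is the maximum
of finitely many linear functions, from a finite family which does not depend on the point. -/
theorem exists_linear [Infinite k] (hsep : Fps.Sep k M) [IsProper X.hom] (hB : AmpleCover B)
    (j : AMonS 𝕊 M ⟶ G) [IsMonHom j] :
    ∃ J : Finset (ℕ × M), (∀ p ∈ J, 1 ≤ p.1) ∧ ∀ x : 𝟙_ (Over 𝕊) ⟶ X, ∃ I ⊆ J,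
      ∀ (l : Red.Gm 𝕊 ⟶ AMonS 𝕊 M) [IsMonHom l] (ν : ℤ), IsMu B (l ≫ j) x ν ↔
        ∃ p ∈ I, (ν : ℚ) = -(pairing l p.2 : ℚ) / p.1 ∧
          ∀ q ∈ I, -(pairing l q.2 : ℚ) / q.1 ≤ -(pairing l p.2 : ℚ) / p.1 := by
  classical
  obtain ⟨hcomp, hcov⟩ := hB
  have haff := B.atlas.affine
  have hVc : CompactSpace B.V.left := by
    have : QuasiCompact B.π.left := inferInstance
    exact QuasiCompact.compactSpace_of_compactSpace B.π.left
  choose nn ff h1 hwt hmem U hU hUaff using hcov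
  obtain ⟨t, ht⟩ := isCompact_univ.elim_finite_subcover (fun z : X.left => (U z : Set X.left))
    (fun z => (U z).isOpen) (fun z _ => Set.mem_iUnion.2 ⟨z, by rw [hU]; exact hmem z⟩)
  choose s hs using fun z : X.left =>
    Expand.exists_expansion (M := M) ((j ▷ B.V) ≫ B.lift.act) (ff z)
  refine ⟨t.biUnion fun z => (s z).image fun m => (nn z, m), ?_, fun x => ?_⟩
  · intro p hp
    obtain ⟨z, -, hz⟩ := Finset.mem_biUnion.1 hp
    obtain ⟨m, -, rfl⟩ := Finset.mem_image.1 hz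
    exact h1 z
  · obtain ⟨v₀, hv, hnz⟩ := exists_nz B x
    choose c hc using fun z => hs z v₀
    refine ⟨t.biUnion fun z => ((s z).filter fun m => c z m ≠ 0).image fun m => (nn z, m), ?_, ?_⟩
    · intro p hp
      obtain ⟨z, hz, hp⟩ := Finset.mem_biUnion.1 hp
      obtain ⟨m, hm, rfl⟩ := Finset.mem_image.1 hp
      exact Finset.mem_biUnion.2 ⟨z, hz, Finset.mem_image.2 ⟨m, (Finset.mem_filter.1 hm).1, rfl⟩⟩
    · intro l hl ν
      -- the formula for an actual value
      have key : ∀ ν : ℤ, IsMu B (l ≫ j) x ν → ∃ p ∈ (t.biUnion fun z =>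
          ((s z).filter fun m => c z m ≠ 0).image fun m => (nn z, m)),
          (ν : ℚ) = -(pairing l p.2 : ℚ) / p.1 ∧ ∀ q ∈ (t.biUnion fun z =>
            ((s z).filter fun m => c z m ≠ 0).image fun m => (nn z, m)),
            -(pairing l q.2 : ℚ) / q.1 ≤ -(pairing l p.2 : ℚ) / p.1 := by
        rintro ν ⟨y, hxy, hw⟩
        obtain ⟨z, hz, hyz⟩ := Set.mem_iUnion₂.1 (ht (Set.mem_univ (pt0 y)))
        rw [hU] at hyz
        obtain ⟨m, hm, hcm, hpm⟩ := (torus_key hsep j l hxy hw hv hnz (hwt z) (s z) (c z)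
          (hc z)).2 hyz
        have hval : (ν : ℚ) = -(pairing l m : ℚ) / (nn z : ℚ) := by
          have hn : (nn z : ℚ) ≠ 0 := by
            have := h1 z
            positivity
          rw [hpm]
          push_cast
          field_simp
        refine ⟨(nn z, m), Finset.mem_biUnion.2 ⟨z, hz, Finset.mem_image.2
          ⟨m, Finset.mem_filter.2 ⟨hm, hcm⟩, rfl⟩⟩, hval, fun q hq => ?_⟩
        obtain ⟨z', hz', hq⟩ := Finset.mem_biUnion.1 hq
        obtain ⟨m', hm', rfl⟩ := Finset.mem_image.1 hq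
        have hm' := Finset.mem_filter.1 hm'
        have h2 := (torus_key hsep j l hxy hw hv hnz (hwt z') (s z') (c z') (hc z')).1 m' hm'.1
          hm'.2
        rw [← hval]
        have hn : (0 : ℚ) < (nn z' : ℚ) := by
          have := h1 z'
          positivity
        rw [div_le_iff₀ hn]
        have h3 : ((nn z' : ℤ) * (-ν) : ℤ) ≤ pairing l m' := h2
        have h4 : (((nn z' : ℤ) * (-ν) : ℤ) : ℚ) ≤ (pairing l m' : ℚ) := by exact_mod_cast h3
        push_cast at h4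
        linarith
      refine ⟨key ν, ?_⟩
      rintro ⟨p, hp, hνp, hmax⟩
      obtain ⟨y, hxy⟩ := LimExist.exists_isLimitPt a (l ≫ j) x
      obtain ⟨w, hw⟩ := WtExist.exists_weight B (l ≫ j) y (isFixedBy_of_isLimitPt hxy)
      have hν' : IsMu B (l ≫ j) x (-w) := ⟨y, hxy, by rw [neg_neg]; exact hw⟩
      obtain ⟨p', hp', hνp', hmax'⟩ := key (-w) hν'
      have : ν = -w := by
        have h2 := hmax p' hp'
        have h3 := hmax' p hp
        rw [← hνp, ← hνp'] at h2 h3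
        have h4 : (ν : ℚ) = ((-w : ℤ) : ℚ) := le_antisymm h3 h2
        exact_mod_cast h4
      rw [this]
      exact hν'

end K691.MuTorus

end
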