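import Mathlib

/-!
# Positive definite rational forms on a lattice bound linear functions
-/

set_option autoImplicit false

noncomputable section

namespace K691.QForm

open Module

/-- On a lattice with a positive definite rational form every linear function is bounded by a multiple
of the norm. -/
theorem exists_bound {r : ℕ} (b : (Fin r → ℤ) → (Fin r → ℤ) → ℚ)
    (hadd : ∀ v w z, b (v + w) z = b v z + b w z) (hsymm : ∀ v w, b v w = b w v)
    (hpos : ∀ v, v ≠ 0 → 0 < b v v) (p : Fin r → ℤ) :
    ∃ C : ℚ, 0 ≤ C ∧ ∀ v : Fin r → ℤ, ((∑ i, v i * p i : ℤ) : ℚ) ^ 2 ≤ C * b v v := by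
  classical
  let A : Matrix (Fin r) (Fin r) ℚ := Matrix.of fun i j => b (Pi.single i 1) (Pi.single j 1)
  let B : LinearMap.BilinForm ℚ (Fin r → ℚ) := Matrix.toBilin' A
  have hadd' : ∀ v w z, b z (v + w) = b z v + b z w := fun v w z => by
    rw [hsymm, hadd, hsymm v, hsymm w]
  have h0 : ∀ w, b 0 w = 0 := fun w => by
    have := hadd 0 0 w
    rw [add_zero] at this
    linarith
  have hsum : ∀ (s : Finset (Fin r)) (f : Fin r → (Fin r → ℤ)) (w : Fin r → ℤ),
      b (∑ i ∈ s, f i) w = ∑ i ∈ s, b (f i) w := by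
    intro s f w
    let F : (Fin r → ℤ) →+ ℚ := ⟨⟨fun v => b v w, h0 w⟩, fun v v' => hadd v v' w⟩
    exact map_sum F f s
  have hsmul : ∀ (n : ℤ) (v w : Fin r → ℤ), b (n • v) w = n * b v w := by
    intro n v w
    let F : (Fin r → ℤ) →+ ℚ := ⟨⟨fun v => b v w, h0 w⟩, fun v v' => hadd v v' w⟩
    have := map_zsmul F n v
    rw [zsmul_eq_mul] at this
    exact this
  have hexp : ∀ v : Fin r → ℤ, v = ∑ i, v i • (Pi.single i 1 : Fin r → ℤ) := by
    intro v
    ext j
    simp [Finset.sum_apply, Pi.single_apply]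
  have hb1 : ∀ v w : Fin r → ℤ, b v w = ∑ i, v i * b (Pi.single i 1) w := by
    intro v w
    conv_lhs => rw [hexp v]
    rw [hsum]
    exact Finset.sum_congr rfl fun i _ => hsmul _ _ _
  have h1 : ∀ v w : Fin r → ℤ, b v w = B (fun i => (v i : ℚ)) (fun i => (w i : ℚ)) := by
    intro v w
    rw [hb1, Matrix.toBilin'_apply]
    refine Finset.sum_congr rfl fun i _ => ?_
    rw [hsymm, hb1, Finset.mul_sum]
    refine Finset.sum_congr rfl fun j _ => ?_
    rw [hsymm]
    change _ = (v i : ℚ) * b (Pi.single i 1) (Pi.single j 1) * (w j : ℚ)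
    ring
  have h2 : ∀ x : Fin r → ℚ, x ≠ 0 → 0 < B x x := by
    intro x hx
    obtain ⟨N, hN⟩ := IsLocalization.exist_integer_multiples_of_finite (nonZeroDivisors ℤ) x
    choose v hv using hN
    have hNz : ((N : ℤ) : ℚ) ≠ 0 := by
      have := nonZeroDivisors.coe_ne_zero N
      exact_mod_cast this
    have hv' : (fun i => (v i : ℚ)) = ((N : ℤ) : ℚ) • x := by
      funext i
      have := hv i
      simpa [zsmul_eq_mul, Submonoid.smul_def] using this
    have hvne : v ≠ 0 := by
      rintro rfl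
      apply hx
      have h3 : ((N : ℤ) : ℚ) • x = 0 := by
        rw [← hv']
        funext i
        simp
      exact (smul_eq_zero.1 h3).resolve_left hNz
    have h4 := hpos v hvne
    rw [h1, hv', LinearMap.BilinForm.smul_left, LinearMap.BilinForm.smul_right,
      ← mul_assoc] at h4
    exact (pos_iff_pos_of_mul_pos h4).1 (mul_self_pos.2 hNz)
  have h2' : ∀ x : Fin r → ℚ, 0 ≤ B x x := by
    intro x
    by_cases hx : x = 0
    · rw [hx, map_zero]
    · exact (h2 x hx).le
  have hBs : LinearMap.IsSymm B := by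
    refine ⟨fun x y => ?_⟩
    simp only [B, Matrix.toBilin'_apply, RingHom.id_apply]
    rw [Finset.sum_comm]
    refine Finset.sum_congr rfl fun i _ => Finset.sum_congr rfl fun j _ => ?_
    change x j * b _ _ * y i = y i * b _ _ * x j
    rw [hsymm]
    ring
  have hinj : Function.Injective B := by
    rw [injective_iff_map_eq_zero]
    intro x hx
    by_contra hne
    have := h2 x hne
    rw [hx, LinearMap.zero_apply] at this
    exact lt_irrefl _ this
  have hsurj : Function.Surjective B :=
    (LinearMap.injective_iff_surjective_of_finrank_eq_finrank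
      (Subspace.dual_finrank_eq (K := ℚ) (V := Fin r → ℚ)).symm).1 hinj
  let φ : Module.Dual ℚ (Fin r → ℚ) := ∑ i, (p i : ℚ) • LinearMap.proj i
  obtain ⟨w, hw⟩ := hsurj φ
  refine ⟨B w w, h2' w, fun v => ?_⟩
  have h5 : ((∑ i, v i * p i : ℤ) : ℚ) = B w (fun i => (v i : ℚ)) := by
    rw [hw]
    simp [φ, LinearMap.sum_apply, mul_comm]
  rw [h5, h1]
  exact B.apply_sq_le_of_symm h2' hBs _ _

end K691.QForm

end
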