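import Groth.Agent.GIT.K691.Cochar
import Groth.Agent.GIT.K691.QForm
import Groth.Agent.GIT.K691.MuSub
import Groth.Agent.GIT.K691.MuTranslate
import Groth.Agent.RedSub.H606.TorConj

/-!
# The normalised numerical function is bounded
-/

set_option autoImplicit false

universe u

open CategoryTheory CategoryTheory.Limits MonoidalCategory CartesianMonoidalCategory MonObj
  AlgebraicGeometry Opposite

noncomputable section

namespace K691.NormBound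

open HMNum K951.Pts K951.Prd Magnet K691.MuTorus K691.Cochar K691.MuTranslate K691.Limit

variable {k : Type u} [Field k] [IsAlgClosed k] {G X T : Over (Spec (CommRingCat.of k))}
  [GrpObj G] [GrpObj T] {a : AlgGrp.Action G X} (B : GLinSh.LinBun G a)

local notation "𝕊" => Spec (CommRingCat.of k)

omit [IsAlgClosed k] in
theorem isMu_congr {l l' : Red.Gm 𝕊 ⟶ G} [IsMonHom l] [IsMonHom l'] (hl : l = l')
    {x : 𝟙_ (Over 𝕊) ⟶ X} {m : ℤ} (h : IsMu B l x m) : IsMu B l' x m := by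
  subst hl
  exact h

theorem main [IsAffine G.left] [LocallyOfFiniteType G.hom] {i : T ⟶ G} [IsMonHom i]
    (hi : Red.IsMaximalTorus i) [IsProper X.hom] (hB : AmpleCover B)
    (b : (Red.Gm 𝕊 ⟶ T) → (Red.Gm 𝕊 ⟶ T) → ℚ)
    (hb_add : ∀ (l₁ l₂ l₃ : Red.Gm 𝕊 ⟶ T) [IsMonHom l₁] [IsMonHom l₂] [IsMonHom l₃],
      b (l₁ * l₂) l₃ = b l₁ l₃ + b l₂ l₃)
    (hb_symm : ∀ (l₁ l₂ : Red.Gm 𝕊 ⟶ T) [IsMonHom l₁] [IsMonHom l₂], b l₁ l₂ = b l₂ l₁)
    (hb_pos : ∀ (l : Red.Gm 𝕊 ⟶ T) [IsMonHom l], l ≠ 1 → 0 < b l l)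
    (nrm : (Red.Gm 𝕊 ⟶ G) → ℝ)
    (hnrm : ∀ (l : Red.Gm 𝕊 ⟶ T) [IsMonHom l] (g : 𝟙_ (Over 𝕊) ⟶ G),
      0 ≤ nrm ((toUnit _ ≫ g) * (l ≫ i) * (toUnit _ ≫ g)⁻¹) ∧
        nrm ((toUnit _ ≫ g) * (l ≫ i) * (toUnit _ ≫ g)⁻¹) ^ 2 = ((b l l : ℚ) : ℝ)) :
    ∃ K : ℝ, ∀ (x : 𝟙_ (Over 𝕊) ⟶ X) (l : Red.Gm 𝕊 ⟶ G) [IsMonHom l] (m : ℤ),
      IsMu B l x m → |(m : ℝ)| ≤ K * nrm l := by
  classical
  obtain ⟨r, f, f', hf, hf', hff', hf'f⟩ := exists_split hi.2.2.1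
  obtain ⟨J, hJ1, hJ⟩ := exists_linear B (Fps.sep_pi r) hB (f' ≫ i)
  -- the form on the lattice
  let b' : (Fin r → ℤ) → (Fin r → ℤ) → ℚ := fun v w => b (cps k v ≫ f') (cps k w ≫ f')
  have hb1 : ∀ v w z, b' (v + w) z = b' v z + b' w z := by
    intro v w z
    change b (cps k (v + w) ≫ f') _ = _
    rw [cps_add, MonObj.mul_comp]
    exact hb_add _ _ _
  have hb2 : ∀ v w, b' v w = b' w v := fun v w => hb_symm _ _
  have hb3 : ∀ v, v ≠ 0 → 0 < b' v v := by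
    intro v hv
    refine hb_pos _ fun h => hv ?_
    have h1 : cps k v = 1 := by
      rw [← Category.comp_id (cps k v), ← hf'f, ← Category.assoc, h, MonObj.one_comp]
    exact cps_injective (h1.trans cps_zero.symm)
  choose C hC0 hC using fun p : Fin r → ℤ => QForm.exists_bound b' hb1 hb2 hb3 p
  refine ⟨Real.sqrt (((∑ p ∈ J, C p.2 : ℚ)) : ℝ), fun x l _ m hm => ?_⟩
  -- conjugate into the torus
  obtain ⟨c, g, g', hg, -⟩ := Groth.Agent.RedSub.H606.TorConj.exists_conj_two G i hi l l (by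
    intro Z s t
    rw [← MonObj.mul_comp, ← MonObj.mul_comp, comm_pts (M := ℤ) s t])
  have hmono : Mono i := hi.2.1
  have hgc : g ≫ i = conj c l := by
    rw [hg]; rfl
  have hgi : IsMonHom (g ≫ i) := by
    rw [hgc]
    exact isMonHom_conj c l
  have hgm : IsMonHom g := by
    constructor
    · rw [← cancel_mono i, Category.assoc, IsMonHom.one_hom (g ≫ i), IsMonHom.one_hom i]
    · rw [← cancel_mono i, Category.assoc, IsMonHom.mul_hom (g ≫ i), Category.assoc,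
        IsMonHom.mul_hom i, ← Category.assoc, tensorHom_comp_tensorHom]
  -- the norm
  have hl : l = (toUnit _ ≫ c⁻¹) * (g ≫ i) * (toUnit _ ≫ c⁻¹)⁻¹ := by
    rw [hgc, conj]
    simp only [GrpObj.comp_inv, inv_inv]
    group
  have hn := hnrm g c⁻¹
  rw [← hl] at hn
  -- the numerical function
  have h1 : IsMu B (g ≫ i) (lift c x ≫ a.act) m := isMu_translate B c hgc hm
  have h2 : (g ≫ f) ≫ (f' ≫ i) = g ≫ i := by
    rw [Category.assoc, ← Category.assoc f f' i, hff', Category.id_comp]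
  have h3 : IsMu B ((g ≫ f) ≫ (f' ≫ i)) (lift c x ≫ a.act) m := isMu_congr B h2.symm h1
  obtain ⟨I, hI, hI'⟩ := hJ (lift c x ≫ a.act)
  obtain ⟨p, hp, e, -⟩ := (hI' _ m).1 h3
  obtain ⟨v, hv⟩ := exists_cps (g ≫ f)
  have h4 : pairing (g ≫ f) p.2 = dot v p.2 := by
    rw [hv]
    exact (isPairing_cps v p.2).eq
  have h5 : g = cps k v ≫ f' := by
    rw [← hv, Category.assoc, hff', Category.comp_id]
  have h6 : b g g = b' v v := by rw [h5]
  have h7 := hC p.2 v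
  rw [← dot_apply, ← h4] at h7
  have h8 : ((m : ℚ)) ^ 2 ≤ C p.2 * b' v v := by
    refine le_trans ?_ h7
    have hp1 : (1 : ℚ) ≤ p.1 := by exact_mod_cast hJ1 p (hI hp)
    rw [e, div_pow, neg_sq]
    exact div_le_self (sq_nonneg _) (one_le_pow₀ hp1)
  have hb0 : 0 ≤ b' v v := by
    by_cases h0 : v = 0
    · subst h0
      have := hb1 0 0 0
      rw [add_zero] at this
      linarith
    · exact (hb3 v h0).le
  have h9 : C p.2 ≤ ∑ q ∈ J, C q.2 :=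
    Finset.single_le_sum (f := fun q : ℕ × (Fin r → ℤ) => C q.2) (fun q _ => hC0 q.2) (hI hp)
  have h10 : ((m : ℚ)) ^ 2 ≤ (∑ q ∈ J, C q.2) * b' v v :=
    h8.trans (mul_le_mul_of_nonneg_right h9 hb0)
  have h11 : ((m : ℝ)) ^ 2 ≤ ((∑ q ∈ J, C q.2 : ℚ) : ℝ) * nrm l ^ 2 := by
    rw [hn.2, h6]
    exact_mod_cast h10
  have h12 : 0 ≤ ((∑ q ∈ J, C q.2 : ℚ) : ℝ) := by
    exact_mod_cast Finset.sum_nonneg (f := fun q : ℕ × (Fin r → ℤ) => C q.2) fun q _ => hC0 q.2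
  rw [← Real.sqrt_sq (abs_nonneg (m : ℝ)), sq_abs]
  refine (Real.sqrt_le_sqrt h11).trans ?_
  rw [Real.sqrt_mul h12, Real.sqrt_sq hn.1]

end K691.NormBound

end
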