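import Groth.Agent.GIT.K691.PsPt
import Groth.Agent.GIT.K686.RedQuot
import Groth.Agent.GIT.K686.Orbit
import Groth.Agent.Agf.H623.SchSurj
import Groth.Agent.InvQ.K701.Orbit3

/-!
# An action on an affine scheme with finite stabilisers has closed orbits
-/

set_option autoImplicit false

universe u

open CategoryTheory CategoryTheory.Limits MonoidalCategory CartesianMonoidalCategory MonObj
  AlgebraicGeometry Opposite TopologicalSpace
open scoped TensorProduct

noncomputable section

namespace K691.PsClosed

open K951.Pts K951.Prd K691.GCoact K691.LamPS K691.TrWt K691.GoodSub HMNum K691.Limit K691.Arc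
  K691.MuKey K691.SsMain K691.LimExist K691.PsPt

attribute [local instance] K951.Pts.algΓ

variable {k : Type u} [Field k]

local notation "𝕊" => Spec (CommRingCat.of k)

variable {G V : Over (Spec (CommRingCat.of k))} [GrpObj G] (Φ : AlgGrp.Action G V)

theorem finiteType_Γ [IsAffine V.left] [LocallyOfFiniteType V.hom] :
    Algebra.FiniteType k Γ(V.left, ⊤) := by
  have h1 : V.hom.appTop.hom.FiniteType :=
    (HasRingHomProperty.iff_of_isAffine (P := @LocallyOfFiniteType)).1 inferInstance
  have h2 : (algebraMap k Γ(V.left, ⊤)).FiniteType := by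
    have e : algebraMap k Γ(V.left, ⊤) =
      V.hom.appTop.hom.comp (Scheme.ΓSpecIso (CommRingCat.of k)).inv.hom := rfl
    rw [e]
    refine RingHom.FiniteType.comp h1 ?_
    refine RingHom.FiniteType.of_surjective _ ?_
    exact (ConcreteCategory.bijective_of_isIso (Scheme.ΓSpecIso (CommRingCat.of k)).inv).2
  exact (RingHom.finiteType_algebraMap).1 h2

/-- If all rational points of an affine scheme have finite stabilisers, the action is closed. -/
theorem isClosedAction_of_finite [IsAlgClosed k] (hLR : K686.RedQuot.RedLR k)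
    (hG : Red.IsReductive G) {C : Type u} [CommRing C] [HopfAlgebra k C] [Algebra.FiniteType k C]
    [_root_.IsReduced C] (hlr : HopfRep.IsLinearlyReductive k C) (e : CoactBr.sp k C ≅ G)
    [IsMonHom e.hom] [IsAffine V.left] [LocallyOfFiniteType V.hom]
    (hfin : ∀ x : 𝟙_ (Over (Spec (CommRingCat.of k))) ⟶ V, Finite (K850.StabFin.Fix Φ x)) :
    GIT.IsClosedAction Φ := by
  obtain ⟨Y, φ, hYaff, hinj, hrange, hq, -, -, hlft⟩ := K686.RedQuot.exists_univCatQuot hLR hG Φ
  have hYft : LocallyOfFiniteType Y.hom := hlft inferInstance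
  have hi : GIT.IsInvariant Φ φ := hq.1.1
  refine K686.Orbit.isClosedAction_of_orbit hi ?_
  have hGaff : IsAffine G.left := by
    have hh : IsIso e.hom.left := inferInstance
    have : IsAffine (CoactBr.sp k C).left := inferInstanceAs (IsAffine (Spec (CommRingCat.of C)))
    exact IsAffine.of_isIso (inv e.hom.left)
  have hGft : LocallyOfFiniteType G.hom := by
    have : Smooth G.hom := hG.2.1
    infer_instance
  have hft : Algebra.FiniteType k Γ(V.left, ⊤) := finiteType_Γ
  -- the fibre product
  let P : Over 𝕊 := Over.mk (Limits.pullback.fst φ.left φ.left ≫ V.hom)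
  have hφft : LocallyOfFiniteType φ.left := by
    have h1 : LocallyOfFiniteType (φ.left ≫ Y.hom) := by rw [Over.w]; infer_instance
    exact locallyOfFiniteType_of_comp φ.left Y.hom
  have hPft : LocallyOfFiniteType P.hom :=
    inferInstanceAs (LocallyOfFiniteType (Limits.pullback.fst φ.left φ.left ≫ V.hom))
  have hPaff : IsAffine P.left :=
    inferInstanceAs (IsAffine (Limits.pullback φ.left φ.left))
  have hGV : IsAffine (G ⊗ V).left :=
    inferInstanceAs (IsAffine (Limits.pullback G.hom V.hom))
  have hGVft : LocallyOfFiniteType (G ⊗ V).hom := by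
    rw [← Over.w (snd G V)]
    have : LocallyOfFiniteType (snd G V).left :=
      inferInstanceAs (LocallyOfFiniteType (Limits.pullback.snd G.hom V.hom))
    infer_instance
  let q : G ⊗ V ⟶ P := Over.homMk (GIT.PsiY Φ φ hi) (by
    change GIT.PsiY Φ φ hi ≫ Limits.pullback.fst φ.left φ.left ≫ V.hom = _
    rw [← Category.assoc, GIT.PsiY, Limits.pullback.lift_fst, Over.w])
  have hqs : Surjective q.left := by
    refine Groth.Agent.Agf.H623.SchSurj.surjective_of_forall_pt q fun t => ?_
    let u : 𝟙_ (Over 𝕊) ⟶ V := Over.homMk (t.left ≫ Limits.pullback.fst φ.left φ.left) (by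
      rw [Category.assoc]; exact Over.w t)
    let v : 𝟙_ (Over 𝕊) ⟶ V := Over.homMk (t.left ≫ Limits.pullback.snd φ.left φ.left) (by
      have e1 : Limits.pullback.snd φ.left φ.left ≫ V.hom =
          Limits.pullback.fst φ.left φ.left ≫ V.hom := by
        rw [← Over.w φ, ← Category.assoc, ← Category.assoc, Limits.pullback.condition]
      rw [Category.assoc, e1]; exact Over.w t)
    have huv : u ≫ φ = v ≫ φ := by
      ext1
      change (t.left ≫ Limits.pullback.fst φ.left φ.left) ≫ φ.left =
        (t.left ≫ Limits.pullback.snd φ.left φ.left) ≫ φ.left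
      rw [Category.assoc, Limits.pullback.condition, Category.assoc]
    let := comod Φ e
    have := isCoactAlg Φ e
    have hval : ∀ f ∈ HopfRep.fixedPts k C Γ(V.left, ⊤), ptA v f = ptA u f := by
      intro f hf
      have h1 : rho Φ e f = f ⊗ₜ[k] (1 : C) := hf
      rw [rho_eq_iff] at h1
      have h2 : f ∈ Set.range φ.left.appTop := by rw [hrange]; exact h1
      obtain ⟨s, rfl⟩ := h2
      have h3 : pb v (pb φ s) = pb u (pb φ s) := by
        rw [← pb_comp_apply, ← pb_comp_apply, huv]
      rw [ptA_apply, ptA_apply]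
      exact congrArg _ h3
    have hstable : K701.Orbit3.ClosedOrb C (ptA v) ∧
        {g : C →ₐ[k] k | GLin.actPt k g (ptA v) = ptA v}.Finite := by
      rw [K701.Orbit3.stable_iff hlr]
      intro z _
      obtain ⟨z', rfl⟩ := exists_ptA z
      exact (finite_stab_iff Φ e z').2 (hfin z')
    obtain ⟨g, hg⟩ := K701.Orbit3.exists_actPt_eq_of_stable hlr (ptA v) (ptA u) hstable.1
      hstable.2 hval
    rw [actPt_ptA] at hg
    have hu := ptA_injective hg
    refine ⟨lift (gpt g ≫ e.hom)⁻¹ v, ?_⟩
    ext1
    apply Limits.pullback.hom_ext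
    · rw [Over.comp_left, Category.assoc]
      change _ ≫ GIT.PsiY Φ φ hi ≫ Limits.pullback.fst φ.left φ.left = _
      rw [GIT.PsiY, Limits.pullback.lift_fst]
      exact (congrArg Over.Hom.left hu).symm
    · rw [Over.comp_left, Category.assoc]
      change _ ≫ GIT.PsiY Φ φ hi ≫ Limits.pullback.snd φ.left φ.left = _
      rw [GIT.PsiY, Limits.pullback.lift_snd, ← Over.comp_left, lift_snd]
      rfl
  exact hqs.surj

end K691.PsClosed

end
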