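import Groth.Agent.GIT.K691.LamPS
import Groth.Agent.GIT.K689.LinBunBasic

/-!
# The weight at a limit of a semistable point

`weight_le`: if an invariant section of weight `n` does not vanish at `x`, the weight `w` on the fibre over
`lim l(u) x` satisfies `n w ≤ 0`, with equality if and only if the section does not vanish at the limit.
-/

set_option autoImplicit false

universe u

open CategoryTheory CategoryTheory.Limits MonoidalCategory CartesianMonoidalCategory MonObj
  AlgebraicGeometry Opposite TopologicalSpace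
open scoped TensorProduct

noncomputable section

namespace K691.SsNec

open K951.Pts K951.Prd K691.GCoact K691.LamPS HMNum K691.Limit K691.Arc K691.MuKey K691.Fps
  K691.FibreWt

attribute [local instance] K951.Pts.algΓ

variable {k : Type u} [Field k] {G X : Over (Spec (CommRingCat.of k))} [GrpObj G]
  {a : AlgGrp.Action G X} (B : GLinSh.LinBun G a)

local notation "𝕊" => Spec (CommRingCat.of k)

variable {B}

/-- Nonvanishing of a section at a rational point in terms of its value at a nonzero vector. -/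
theorem ptA_ne_zero_iff {v : 𝟙_ (Over 𝕊) ⟶ B.V} (hnz : NZ B v) {n : ℕ} {f : Γ(B.V.left, ⊤)}
    (hf : GLinSh.HasWeight B.atlas.chart n f) {x : 𝟙_ (Over 𝕊) ⟶ X} (hv : v ≫ B.π = x) :
    ptA v f ≠ 0 ↔ pt0 x ∈ GLinSh.nonvanishing B.π f := by
  obtain ⟨U, yc, hyc, hU⟩ := exists_chart_pt B x
  obtain ⟨d, hd⟩ := hf U yc hyc
  rw [mem_nonvanishing_iff B hyc hd x hU]
  have hle : ⊤ ≤ v.left ⁻¹ᵁ (B.π.left ⁻¹ᵁ U) := by
    have e : v.left ⁻¹ᵁ (B.π.left ⁻¹ᵁ U) = (v ≫ B.π).left ⁻¹ᵁ U := rfl
    rw [e, hv]; exact hU.ge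
  have h1 : pb v f = ev v.left hle (GLinSh.resTop B.π U f) := by
    rw [GLinSh.resTop, ev_map v.left le_top hle le_top, ev_top]
  have hle2 : ⊤ ≤ (v ≫ B.π).left ⁻¹ᵁ U := hle
  have h2 : ev v.left hle (B.π.left.app U d) = ev x.left hU.ge d := by
    rw [ev_app v.left B.π.left hle hle2]
    apply ev_congr
    rw [← hv]
    rfl
  have h3 : IsUnit (ev v.left hle yc) := hnz.isUnit hyc hle
  have h4 : pb v f = ev x.left hU.ge d * ev v.left hle yc ^ n := by
    rw [h1, hd, ev_mul, ev_pow, h2]
  have h5 : ptA v f ≠ 0 ↔ pb v f ≠ 0 := by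
    rw [ptA_apply, Ne, Ne, map_eq_zero_iff _ (κ k).symm.injective]
  rw [h5, ← κ_isUnit_iff, ← κ_isUnit_iff, h4]
  constructor
  · intro h'; exact isUnit_of_mul_isUnit_left h'
  · intro h'; exact h'.mul (h3.pow n)

/-- The weight at the limit when an invariant section does not vanish. -/
theorem weight_le [Infinite k] {l : Red.Gm (Spec (CommRingCat.of k)) ⟶ G} [IsMonHom l]
    {x y : 𝟙_ (Over 𝕊) ⟶ X} (hxy : IsLimitPt a l x y) {w : ℤ} (hw : HasFibreWeight B l y w)
    {f : Γ(B.V.left, ⊤)} {n : ℕ} (hf : B.IsInvSection n f)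
    (hx : pt0 x ∈ GLinSh.nonvanishing B.π f) :
    (n : ℤ) * w ≤ 0 ∧ ((n : ℤ) * w = 0 ↔ pt0 y ∈ GLinSh.nonvanishing B.π f) := by
  obtain ⟨v, hv, hnz⟩ := exists_nz B x
  obtain ⟨F, hF⟩ := exists_isArc hxy
  obtain ⟨D, hD, hD0⟩ := ord_section hF hw hv hnz hf.1
  have hc := (ptA_ne_zero_iff hnz hf.1 hv).2 hx
  have h1 : pb (vL B l v) f = pb (toUnit _ ≫ v) f := by
    have h2 : pb B.lift.act f = pb (snd G B.V) f := hf.2
    rw [vL, pb_comp_apply, h2, ← pb_comp_apply, lift_snd]
  rw [h1, pb_toUnit_comp] at hD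
  have h2 : (γ (k := k) (L k)).symm (algebraMap k _ (ptA v f)) =
      algebraMap (PowerSeries k) (L k) (PowerSeries.C (ptA v f)) := by
    rw [RingEquiv.symm_apply_eq, algebraMap_algΓ]
    exact fnS_sp (L k) _
  rw [h2] at hD
  constructor
  · by_contra hcon
    push Not at hcon
    obtain ⟨m, hm⟩ : ∃ m : ℕ, (n : ℤ) * w = (m : ℤ) + 1 := ⟨((n : ℤ) * w - 1).toNat, by omega⟩
    have h3 : algebraMap (PowerSeries k) (L k) (PowerSeries.C (ptA v f)) =
        algebraMap (PowerSeries k) (L k) (PowerSeries.X ^ (m + 1) * D) := by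
      rw [hD, hm, map_mul, map_pow]
      congr 1
    have h4 := IsFractionRing.injective (PowerSeries k) (L k) h3
    apply hc
    have h5 := congrArg PowerSeries.constantCoeff h4
    rw [PowerSeries.constantCoeff_C, map_mul, map_pow, PowerSeries.constantCoeff_X,
      zero_pow (Nat.succ_ne_zero m), zero_mul] at h5
    exact h5
  · constructor
    · intro h0
      rw [h0, zpow_zero, _root_.one_mul] at hD
      have h4 := IsFractionRing.injective (PowerSeries k) (L k) hD
      apply hD0.1
      rw [← h4, PowerSeries.constantCoeff_C]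
      exact hc
    · intro hy
      have h5 := nonneg_of_eq hD (hD0.2 hy)
      have h6 : ¬ 0 < (n : ℤ) * w := by
        intro hcon
        obtain ⟨m, hm⟩ : ∃ m : ℕ, (n : ℤ) * w = (m : ℤ) + 1 :=
          ⟨((n : ℤ) * w - 1).toNat, by omega⟩
        have h3 : algebraMap (PowerSeries k) (L k) (PowerSeries.C (ptA v f)) =
            algebraMap (PowerSeries k) (L k) (PowerSeries.X ^ (m + 1) * D) := by
          rw [hD, hm, map_mul, map_pow]
          congr 1
        have h4 := IsFractionRing.injective (PowerSeries k) (L k) h3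
        apply hc
        have h5 := congrArg PowerSeries.constantCoeff h4
        rw [PowerSeries.constantCoeff_C, map_mul, map_pow, PowerSeries.constantCoeff_X,
          zero_pow (Nat.succ_ne_zero m), zero_mul] at h5
        exact h5
      omega

end K691.SsNec

end
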