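import Groth.Agent.GIT.K691.PsPt
import Groth.Agent.GIT.K691.SsNec
import Groth.Agent.GIT.K687.HM
import Groth.Agent.Books.AlgPts

/-!
# Limits of properly stable points

`weight_pos_of_properlyStable`: at a properly stable point the numerical function is positive.
-/

set_option autoImplicit false

universe u

open CategoryTheory CategoryTheory.Limits MonoidalCategory CartesianMonoidalCategory MonObj
  AlgebraicGeometry Opposite TopologicalSpace
open scoped TensorProduct LaurentPolynomial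

noncomputable section

namespace K691.PsNec

open K951.Pts K951.Prd K691.GCoact K691.LamPS K691.TrWt K691.GoodSub HMNum K691.Limit K691.Arc
  K691.MuKey K691.SsMain K691.LimExist K691.PsPt K850.StabFin

attribute [local instance] K951.Pts.algΓ

variable {k : Type u} [Field k]

local notation "𝕊" => Spec (CommRingCat.of k)

section Gm

/-- The rational point of the multiplicative group attached to a unit. -/
def ptG (u : kˣ) : 𝟙_ (Over (Spec (CommRingCat.of k))) ⟶ Red.Gm (Spec (CommRingCat.of k)) :=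
  ofChi (M := ℤ)
    { toFun := fun n => κ k ((u ^ (Multiplicative.toAdd n) : kˣ) : k)
      map_one' := by
        change κ k ((u ^ (0 : ℤ) : kˣ) : k) = 1
        rw [zpow_zero, Units.val_one, map_one]
      map_mul' := fun m n => by
        rw [toAdd_mul, zpow_add, Units.val_mul, map_mul] }

theorem chi_ptG (u : kˣ) (n : ℤ) : chi (M := ℤ) (ptG u) (Multiplicative.ofAdd n) =
    κ k ((u ^ n : kˣ) : k) := by
  rw [ptG, chi_ofChi]
  rfl

theorem ptG_mul (u v : kˣ) : ptG (u * v) = ptG u * ptG v := by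
  apply chi_injective (M := ℤ)
  apply MonoidHom.ext
  intro n
  change chi (M := ℤ) (ptG (u * v)) (Multiplicative.ofAdd _) =
    chi (M := ℤ) (ptG u * ptG v) (Multiplicative.ofAdd _)
  rw [chi_mul, MonoidHom.mul_apply, chi_ptG, chi_ptG, chi_ptG, ← map_mul, mul_zpow,
    Units.val_mul]

theorem evG_ptG (u : kˣ) (p : k[T;T⁻¹]) : evG (ptG u) p = κ k (K687.evU k u p) := by
  let κA' : k →ₐ[k] Γ((𝟙_ (Over 𝕊)).left, ⊤) :=
    { (κ k).toRingHom with
      commutes' := fun c => (algebraMap_unit c).symm }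
  have h : evG (ptG u) = κA'.comp (K687.evU k u) := by
    apply laurent_hom_ext
    intro n
    rw [evG_T, chi_ptG, AlgHom.comp_apply, K687.evU_T]
    rfl
  exact congr($h p)

/-- The inverse of the universal point. -/
theorem fn_surj (α : Γ((Red.Gm 𝕊).left, ⊤)) : ∃ p : k[T;T⁻¹], evG (𝟙 (Red.Gm 𝕊)) p = α := by
  let i : Red.Gm 𝕊 ⟶ CoactBr.sp k k[T;T⁻¹] := ofFn (evG (𝟙 (Red.Gm 𝕊)))
  have h1 : i ≫ unG k = 𝟙 _ := by
    apply chi_injective (M := ℤ)
    apply MonoidHom.ext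
    intro n
    change chi (M := ℤ) (i ≫ unG k) (Multiplicative.ofAdd (Multiplicative.toAdd n)) =
      chi (M := ℤ) (𝟙 (Red.Gm 𝕊)) (Multiplicative.ofAdd (Multiplicative.toAdd n))
    rw [chi_comp, ← evG_T, ← evG_T, evG_unG]
    change pb i (γ (k := k) k[T;T⁻¹] _) = _
    rw [pb_γ, fn_ofFn]
  refine ⟨(γ (k := k) k[T;T⁻¹]).symm (pb (unG k) α), ?_⟩
  have h2 : evG (𝟙 (Red.Gm 𝕊)) ((γ (k := k) k[T;T⁻¹]).symm (pb (unG k) α)) =
      pb i (γ (k := k) k[T;T⁻¹] ((γ (k := k) k[T;T⁻¹]).symm (pb (unG k) α))) := by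
    rw [pb_γ, fn_ofFn]
  rw [h2, RingEquiv.apply_symm_apply, ← pb_comp_apply, h1, pb_id]
  rfl

variable {G : Over (Spec (CommRingCat.of k))} [GrpObj G]
  {C : Type u} [CommRing C] [HopfAlgebra k C] (e : CoactBr.sp k C ≅ G) [IsMonHom e.hom]

include e in
/-- One-parameter subgroups are determined by their rational points. -/
theorem eq_one_of_ptG [Infinite k] (l : Red.Gm 𝕊 ⟶ G)
    (h : ∀ u : kˣ, ptG u ≫ l = 1) : l = 1 := by
  have h0 : l ≫ e.inv = (1 : Red.Gm 𝕊 ⟶ CoactBr.sp k C) := by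
    apply fn_injective
    apply AlgHom.ext
    intro c
    obtain ⟨p, hp⟩ := fn_surj (fn (l ≫ e.inv) c)
    have h1 : p - algebraMap k _ (CoalgebraStruct.counit (R := k) c) = 0 := by
      apply K687.eq_zero_of_evU
      intro u
      apply (κ k).injective
      rw [← evG_ptG, map_sub, map_zero, sub_eq_zero, AlgHom.commutes, algebraMap_unit]
      have h2 : evG (ptG u) p = pb (ptG u) (evG (𝟙 _) p) := by
        have := evG_comp (ptG u) (𝟙 (Red.Gm 𝕊))
        rw [Category.comp_id] at this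
        rw [this]
        rfl
      rw [h2, hp]
      have h3 : pb (ptG u) (fn (l ≫ e.inv) c) = fn (ptG u ≫ l ≫ e.inv) c := (fn_comp _ _ _).symm
      have h4 : ptG u ≫ l ≫ e.inv = (1 : 𝟙_ (Over 𝕊) ⟶ CoactBr.sp k C) := by
        rw [← Category.assoc, h u, MonObj.one_comp]
      rw [h3, h4, fn_one]
      exact algebraMap_unit _
    rw [← hp, sub_eq_zero.1 h1, AlgHom.commutes, fn_one]
    rfl
  have h5 := congrArg (fun q => q ≫ e.hom) h0
  change (l ≫ e.inv) ≫ e.hom = (1 : Red.Gm 𝕊 ⟶ CoactBr.sp k C) ≫ e.hom at h5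
  rw [Category.assoc, Iso.inv_hom_id, Category.comp_id, MonObj.one_comp] at h5
  exact h5

variable {X : Over (Spec (CommRingCat.of k))} {a : AlgGrp.Action G X}

include e in
/-- A one-parameter subgroup fixing a point with finite stabiliser is trivial. -/
theorem eq_one_of_finite_fix [IsAlgClosed k] (l : Red.Gm 𝕊 ⟶ G) [IsMonHom l]
    {y : 𝟙_ (Over 𝕊) ⟶ X} (hy : IsFixedBy a l y) (hfin : Finite (Fix a y)) : l = 1 := by
  refine eq_one_of_ptG e l ?_
  let ψ : kˣ →* (𝟙_ (Over 𝕊) ⟶ G) := MonoidHom.mk' (fun u => ptG u ≫ l) (by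
    intro u v
    rw [ptG_mul, MonObj.mul_comp])
  have hmem : ∀ u, lift (ψ u) y ≫ a.act = y := by
    intro u
    have := hy (𝟙_ (Over 𝕊)) (𝟙 _) (ptG u)
    rwa [Category.id_comp] at this
  have hfr : Finite ψ.range := by
    let f : ψ.range → Fix a y := fun g => ⟨g.1, by
      obtain ⟨u, hu⟩ := g.2
      rw [← hu]; exact hmem u⟩
    refine Finite.of_injective f fun g g' h => ?_
    exact Subtype.ext (congrArg (fun z : Fix a y => z.1) h)
  intro u
  have hN : 0 < Nat.card ψ.range := Nat.card_pos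
  obtain ⟨v, hv⟩ := IsAlgClosed.exists_pow_nat_eq (u : k) hN
  have hv0 : v ≠ 0 := by
    rintro rfl
    rw [zero_pow hN.ne'] at hv
    exact u.ne_zero hv.symm
  have hu : u = (Units.mk0 v hv0) ^ Nat.card ψ.range := by
    ext
    rw [Units.val_pow_eq_pow_val, Units.val_mk0, hv]
  have h1 : ψ u = 1 := by
    rw [hu, map_pow]
    have h2 : (⟨ψ (Units.mk0 v hv0), ⟨_, rfl⟩⟩ : ψ.range) ^ Nat.card ψ.range = 1 :=
      pow_card_eq_one'
    exact congrArg Subtype.val h2
  exact h1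

end Gm

section Orbit

variable [IsAlgClosed k] {G X : Over (Spec (CommRingCat.of k))} [GrpObj G]
  {a : AlgGrp.Action G X}

/-- The limit of a point in the open where the orbits are closed is in the orbit. -/
theorem exists_translate [LocallyOfFiniteType G.hom] [LocallyOfFiniteType X.hom]
    {l : Red.Gm 𝕊 ⟶ G} [IsMonHom l] {x y : 𝟙_ (Over 𝕊) ⟶ X}
    (hxy : IsLimitPt a l x y) (U : X.left.Opens) (hcl : GLinSh.ClosedOrbitsOn a U)
    (hx : pt0 x ∈ U) (hy : pt0 y ∈ U) : ∃ g : 𝟙_ (Over 𝕊) ⟶ G, lift g x ≫ a.act = y := by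
  obtain ⟨F, hF⟩ := exists_isArc hxy
  have hrx : Set.range x.left.base ⊆ (U : Set X.left) := by
    rintro _ ⟨s, rfl⟩
    have : s = (⊥ : PrimeSpectrum k) := eq_bot_pt s
    rw [this]; exact hx
  have h1 := hcl k (𝟙_ (Over 𝕊)) (Iso.refl _) x hrx
  let F' : A1 𝕊 ⟶ X ⊗ 𝟙_ (Over 𝕊) := lift F (toUnit _)
  let W : (A1 𝕊).left.Opens := F.left ⁻¹ᵁ U
  have hWfst : ∀ z ∈ W, F'.left z ∈ (fst X (𝟙_ (Over 𝕊))).left ⁻¹ᵁ U := by
    intro z hz
    change (fst X (𝟙_ (Over 𝕊))).left (F'.left z) ∈ U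
    rw [← Scheme.Hom.comp_apply, ← Over.comp_left, lift_fst]
    exact hz
  let m : W → (fst X (𝟙_ (Over 𝕊))).left ⁻¹ᵁ U := fun z => ⟨F'.left z.1, hWfst z.1 z.2⟩
  have hm : Continuous m := (F'.left.continuous.comp continuous_subtype_val).subtype_mk _
  have h2 : IsClosed (m ⁻¹' ((fun p : (fst X (𝟙_ (Over 𝕊))).left ⁻¹ᵁ U =>
    (p : (X ⊗ 𝟙_ (Over 𝕊)).left)) ⁻¹' Set.range (GIT.psi a x).left.base)) := h1.preimage hm
  obtain ⟨Z, hZ, hZW⟩ := isClosed_induced_iff.1 h2
  have hZmem : ∀ z (hz : z ∈ W), z ∈ Z ↔ F'.left z ∈ Set.range (GIT.psi a x).left := by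
    intro z hz
    have h3 : (⟨z, hz⟩ : W) ∈ Subtype.val ⁻¹' Z ↔ F'.left z ∈ Set.range (GIT.psi a x).left := by
      rw [hZW]; rfl
    exact h3
  have hdom : IsSchemeTheoreticallyDominant (incl 𝕊).left := Dense.incl_dominant k
  have hdense : DenseRange (incl 𝕊).left := (inferInstance : IsDominant (incl 𝕊).left).1
  have hGmW : Set.range (incl 𝕊).left ∩ (W : Set (A1 𝕊).left) ⊆ Z := by
    rintro _ ⟨⟨g, rfl⟩, hg⟩
    rw [hZmem _ hg]
    refine ⟨(lift l (toUnit (Red.Gm 𝕊))).left g, ?_⟩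
    have h3 := hF.orb (𝟙 (Red.Gm 𝕊))
    rw [Category.id_comp, Category.id_comp] at h3
    have key : lift l (toUnit (Red.Gm 𝕊)) ≫ GIT.psi a x = incl 𝕊 ≫ F' := by
      apply CartesianMonoidalCategory.hom_ext
      · rw [Category.assoc, GIT.psi, lift_fst, ← Category.assoc, lift_whiskerLeft, Category.assoc,
          lift_fst, h3]
      · exact toUnit_unique _ _
    rw [← Scheme.Hom.comp_apply, ← Scheme.Hom.comp_apply, ← Over.comp_left, ← Over.comp_left, key]
  have hsub : (W : Set (A1 𝕊).left) ⊆ Z := by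
    refine (hdense.open_subset_closure_inter W.isOpen).trans ?_
    rw [Set.inter_comm]
    exact closure_minimal hGmW hZ
  have h0W : pt0 (origin 𝕊) ∈ W := by
    change F.left ((origin 𝕊).left _) ∈ U
    rw [← Scheme.Hom.comp_apply, ← Over.comp_left, hF.lim]
    exact hy
  have h4 := (hZmem _ h0W).1 (hsub h0W)
  have h5 : F'.left (pt0 (origin 𝕊)) = (lift y (𝟙 (𝟙_ (Over 𝕊)))).left (⊥ : PrimeSpectrum k) := by
    change F'.left ((origin 𝕊).left _) = _
    have key : origin 𝕊 ≫ F' = lift y (𝟙 (𝟙_ (Over 𝕊))) := by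
      apply CartesianMonoidalCategory.hom_ext
      · rw [Category.assoc, lift_fst, lift_fst, hF.lim]
      · exact toUnit_unique _ _
    rw [← Scheme.Hom.comp_apply, ← Over.comp_left, key]
  rw [h5] at h4
  have hX1 : LocallyOfFiniteType (X ⊗ 𝟙_ (Over 𝕊)).hom := by
    rw [← Over.w (fst X (𝟙_ (Over 𝕊)))]
    have : IsIso (fst X (𝟙_ (Over 𝕊))).left :=
      inferInstanceAs (IsIso ((Over.forget _).map (ρ_ X).hom))
    infer_instance
  have hG1 : LocallyOfFiniteType (G ⊗ 𝟙_ (Over 𝕊)).hom := by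
    rw [← Over.w (fst G (𝟙_ (Over 𝕊)))]
    have : IsIso (fst G (𝟙_ (Over 𝕊))).left :=
      inferInstanceAs (IsIso ((Over.forget _).map (ρ_ G).hom))
    infer_instance
  obtain ⟨c, hc⟩ := Groth.Agent.Books.AlgPts.exists_comp_eq_of_pt_mem_range (GIT.psi a x)
    (lift y (𝟙 _)) (by
      have e1 : Groth.Agent.Books.AlgPts.pt (lift y (𝟙 (𝟙_ (Over 𝕊)))) =
        (lift y (𝟙 (𝟙_ (Over 𝕊)))).left (⊥ : PrimeSpectrum k) := congrArg _ (eq_bot_pt _)
      rw [e1]
      exact h4)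
  refine ⟨c ≫ fst _ _, ?_⟩
  have h6 := congrArg (fun q => q ≫ fst X (𝟙_ (Over 𝕊))) hc
  change (c ≫ GIT.psi a x) ≫ fst _ _ = lift y (𝟙 _) ≫ fst _ _ at h6
  rw [lift_fst, Category.assoc, GIT.psi, lift_fst] at h6
  have h7 : c = lift (c ≫ fst _ _) (𝟙 _) := by
    ext1
    · simp
    · exact toUnit_unique _ _
  rw [h7, ← Category.assoc, lift_whiskerLeft, Category.id_comp] at h6
  exact h6

omit [IsAlgClosed k] in
/-- Stabilisers of translates. -/
theorem finite_fix_translate {x y : 𝟙_ (Over 𝕊) ⟶ X} {g : 𝟙_ (Over 𝕊) ⟶ G}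
    (hg : lift g x ≫ a.act = y) (hfin : Finite (Fix a x)) : Finite (Fix a y) := by
  let f : Fix a y → Fix a x := fun h => ⟨g⁻¹ * h.1 * g, by
    have h1 := h.2
    rw [_root_.mul_assoc, lift_mul_act, lift_mul_act, hg, h1, ← hg, ← lift_mul_act,
      inv_mul_cancel, lift_one_act]⟩
  refine Finite.of_injective f ?_
  · intro h h' hh
    have h1 : g⁻¹ * h.1 * g = g⁻¹ * h'.1 * g := congrArg Subtype.val hh
    apply Subtype.ext
    simpa using h1

variable (B : GLinSh.LinBun G a)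

/-- At a properly stable point the numerical function is positive. -/
theorem pos_of_isProperlyStablePt {C : Type u} [CommRing C] [HopfAlgebra k C]
    (e : CoactBr.sp k C ≅ G) [IsMonHom e.hom] [LocallyOfFiniteType G.hom] [QuasiCompact G.hom]
    [LocallyOfFiniteType X.hom] [IsSeparated X.hom]
    {x : 𝟙_ (Over 𝕊) ⟶ X} (hx : B.IsProperlyStablePt (pt0 x)) (l : Red.Gm 𝕊 ⟶ G) [IsMonHom l]
    (hl : l ≠ 1) (m : ℤ) (hm : IsMu B l x m) : 0 < m := by
  obtain ⟨⟨n, F, hn, hF, hxF, U, hU, hUa, hcl⟩, hstab⟩ := hx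
  obtain ⟨y, hxy, hw⟩ := hm
  obtain ⟨h1, h2⟩ := SsNec.weight_le hxy hw hF hxF
  by_contra hcon
  push Not at hcon
  have hn' : (0 : ℤ) < n := by exact_mod_cast hn
  have hm0 : m = 0 := by
    have h3 : 0 ≤ (n : ℤ) * -m := mul_nonneg hn'.le (by omega)
    have h4 : (n : ℤ) * -m = 0 := le_antisymm h1 h3
    rcases mul_eq_zero.1 h4 with h5 | h5 <;> omega
  subst hm0
  have hyF := h2.1 (by simp)
  rw [← hU] at hxF hyF
  obtain ⟨g, hg⟩ := exists_translate hxy U hcl hxF hyF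
  have hrange : Set.range x.left.base = {pt0 x} := by
    apply Set.eq_singleton_iff_unique_mem.2
    refine ⟨⟨_, rfl⟩, ?_⟩
    rintro _ ⟨s, rfl⟩
    have : s = (⊥ : PrimeSpectrum k) := eq_bot_pt s
    rw [this]
  have hfin := hstab k (𝟙_ (Over 𝕊)) (Iso.refl _) x hrange
  rw [isFinite_stabTo_iff a x (Ω := k) (Iso.refl _)] at hfin
  exact hl (eq_one_of_finite_fix e l (isFixedBy_of_isLimitPt hxy) (finite_fix_translate hg hfin))

end Orbit

end K691.PsNec

end
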