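import Groth.Agent.GIT.K691.PsClosed
import Groth.Agent.GIT.K691.PsNec
import Groth.Agent.GIT.K691.Ext
import Groth.Agent.GIT.K687.Stable
import Groth.Agent.GIT.K688.ActRes
import Groth.Agent.GIT.K689.Quot714

/-!
# Properly stable points: the numerical criterion
-/

set_option autoImplicit false

universe u

open CategoryTheory CategoryTheory.Limits MonoidalCategory CartesianMonoidalCategory MonObj
  AlgebraicGeometry Opposite TopologicalSpace
open scoped TensorProduct

noncomputable section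

namespace K691.PsMain

open K951.Pts K951.Prd K691.GCoact K691.LamPS K691.TrWt K691.GoodSub HMNum K691.Limit K691.Arc
  K691.MuKey K691.SsMain K691.LimExist K691.PsPt K850.StabFin K688.ActRes K689.SchGlue
  K689.PullBun K691.FibreWt

attribute [local instance] K951.Pts.algΓ

variable {k : Type u} [Field k]

local notation "𝕊" => Spec (CommRingCat.of k)

section Gen

variable {S : Scheme.{u}} {G X V : Over S} [GrpObj G] {a : AlgGrp.Action G X}
  {Φ : AlgGrp.Action G V}

theorem exists_lift_open (j : V ⟶ X) [IsOpenImmersion j.left] {T : Over S} (x : T ⟶ X)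
    (h : Set.range x.left ⊆ Set.range j.left) : ∃ x' : T ⟶ V, x' ≫ j = x := by
  refine ⟨Over.homMk (IsOpenImmersion.lift j.left x.left h) ?_, ?_⟩
  · rw [← Over.w j, ← Category.assoc, IsOpenImmersion.lift_fac, Over.w]
  · ext1
    exact IsOpenImmersion.lift_fac _ _ _

/-- Stabilisers and equivariant monomorphisms. -/
theorem finite_fix_mono_iff (j : V ⟶ X) [Mono j] (hj : Φ.act ≫ j = (G ◁ j) ≫ a.act) {T : Over S}
    (x : T ⟶ V) : Finite (Fix Φ x) ↔ Finite (Fix a (x ≫ j)) := by
  have key : ∀ g : T ⟶ G, lift g x ≫ Φ.act = x ↔ lift g (x ≫ j) ≫ a.act = x ≫ j := by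
    intro g
    rw [← cancel_mono j, Category.assoc, hj, ← Category.assoc, lift_whiskerLeft]
  let E : Fix Φ x ≃ Fix a (x ≫ j) :=
    { toFun := fun g => ⟨g.1, (key _).1 g.2⟩
      invFun := fun g => ⟨g.1, (key _).2 g.2⟩
      left_inv := fun g => rfl
      right_inv := fun g => rfl }
  exact E.finite_iff

end Gen

section Pt

variable {V : Over (Spec (CommRingCat.of k))}

theorem pt0_mem_basicOpen_iff (v : 𝟙_ (Over (Spec (CommRingCat.of k))) ⟶ V) (f : Γ(V.left, ⊤)) :
    pt0 v ∈ V.left.basicOpen f ↔ ptA v f ≠ 0 := by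
  constructor
  · intro h h0
    have h4 := (preimage_eq_top_iff v _).2 h
    rw [Scheme.preimage_basicOpen_top] at h4
    have h5 : v.left.appTop f = 0 := by
      change pb v f = 0
      rw [ptA_apply] at h0
      exact (map_eq_zero_iff _ (κ k).symm.injective).1 h0
    rw [h5, Scheme.basicOpen_zero] at h4
    have h7 : (⊥ : PrimeSpectrum k) ∈ (⊥ : (𝟙_ (Over 𝕊)).left.Opens) := by
      rw [h4]; trivial
    exact h7.elim
  · exact pt0_mem_basicOpen v f

end Pt

section Mu

variable {G X : Over (Spec (CommRingCat.of k))} [GrpObj G] {a : AlgGrp.Action G X}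
  (B : GLinSh.LinBun G a)

/-- The numerical function at the trivial one-parameter subgroup. -/
theorem eq_zero_of_isMu_one (l : Red.Gm 𝕊 ⟶ G) [IsMonHom l] (hl : l = 1) {x : 𝟙_ (Over 𝕊) ⟶ X}
    {m : ℤ} (h : IsMu B l x m) : m = 0 := by
  obtain ⟨y, -, hw⟩ := h
  have h0 : HasFibreWeight B l y 0 := by
    obtain ⟨hfix, U, yc, hyc, hU, -⟩ := hw
    refine ⟨hfix, U, yc, hyc, hU, ?_⟩
    intro T' t g v hv hgv
    rw [zpow_zero, Units.val_one, _root_.one_mul]
    apply evalFn_congr
    rw [hl, MonObj.comp_one, lift_one_act]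
  have := WtExist.weight_unique B hw h0
  omega

end Mu

section Inv

variable {S : Scheme.{u}} {G X : Over S} [GrpObj G] {a : AlgGrp.Action G X} {U : X.left.Opens}
  {Φ : AlgGrp.Action G (op X U)}

/-- Invariant functions on an invariant open subscheme. -/
theorem appLE_of_invariant (hΦ : Φ.act ≫ inc X U = (G ◁ inc X U) ≫ a.act)
    (φ : Γ((op X U).left, ⊤)) (φ' : Γ(X.left, U))
    (hφφ' : (inc X U).left.appLE U ⊤ (by simp) φ' = φ)
    (hφ : Φ.act.left.appTop φ = (snd G (op X U)).left.appTop φ)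
    (W : (G ⊗ X).left.Opens) (h1 : W ≤ a.act.left ⁻¹ᵁ U) (h2 : W ≤ (snd G X).left ⁻¹ᵁ U) :
    a.act.left.appLE U W h1 φ' = (snd G X).left.appLE U W h2 φ' := by
  let j := inc X U
  have hop : IsOpenImmersion (G ◁ j).left :=
    MorphismProperty.of_isPullback (K689.ActBasic.isPullback_snd_left (G := G) j)
      (inferInstance : IsOpenImmersion j.left)
  have hjU : ∀ z : (op X U).left, j.left z ∈ U := fun z => z.2
  have hrange : (W : Set (G ⊗ X).left) ⊆ Set.range (G ◁ j).left := by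
    intro z hz
    have h3 : (snd G X).left z ∈ U := h2 hz
    have hpb := K689.ActBasic.isPullback_snd_left (G := G) j
    obtain ⟨w, -, hw⟩ := K689.ActBasic.exists_point hpb (⟨_, h3⟩ : (op X U).left) z rfl
    exact ⟨w, hw⟩
  apply (K689.LocGeom.app_bijective (G ◁ j).left hrange).1
  have e1 : (G ◁ j).left ⁻¹ᵁ W ≤ ((G ◁ j).left ≫ a.act.left) ⁻¹ᵁ U := fun z hz => h1 hz
  have e2 : (G ◁ j).left ⁻¹ᵁ W ≤ ((G ◁ j).left ≫ (snd G X).left) ⁻¹ᵁ U := fun z hz => h2 hz
  have c1 : (G ◁ j).left ≫ a.act.left = Φ.act.left ≫ j.left :=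
    (congrArg Over.Hom.left hΦ).symm
  have c2 : (G ◁ j).left ≫ (snd G X).left = (snd G (op X U)).left ≫ j.left := by
    rw [← Over.comp_left, ← Over.comp_left, whiskerLeft_snd]
  have hjle : (⊤ : (op X U).left.Opens) ≤ j.left ⁻¹ᵁ U := fun z _ => hjU z
  have e3 : (G ◁ j).left ⁻¹ᵁ W ≤ (Φ.act.left ≫ j.left) ⁻¹ᵁ U := by rw [← c1]; exact e1
  have e4 : (G ◁ j).left ⁻¹ᵁ W ≤ ((snd G (op X U)).left ≫ j.left) ⁻¹ᵁ U := by
    rw [← c2]; exact e2
  have f1 : (G ◁ j).left.app W (a.act.left.appLE U W h1 φ') =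
      Φ.act.left.appLE ⊤ _ le_top (j.left.appLE U ⊤ hjle φ') := by
    rw [appLE_appLE Φ.act.left j.left hjle le_top e3, ← appLE_hom_congr c1 e1 e3,
      ← appLE_appLE (G ◁ j).left a.act.left h1 le_rfl e1, appLE_self_app]
  have f2 : (G ◁ j).left.app W ((snd G X).left.appLE U W h2 φ') =
      (snd G (op X U)).left.appLE ⊤ _ le_top (j.left.appLE U ⊤ hjle φ') := by
    rw [appLE_appLE (snd G (op X U)).left j.left hjle le_top e4, ← appLE_hom_congr c2 e2 e4,
      ← appLE_appLE (G ◁ j).left (snd G X).left h2 le_rfl e2, appLE_self_app]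
  rw [f1, f2]
  have f3 : j.left.appLE U ⊤ hjle φ' = φ := hφφ'
  rw [f3]
  have f4 : ∀ (q : (G ⊗ op X U).left ⟶ (op X U).left),
      q.appLE ⊤ ((G ◁ j).left ⁻¹ᵁ W) le_top φ = rsec le_top (q.appTop φ) := by
    intro q
    rw [Ext.appTop_eq q φ, rsec_appLE]
  rw [f4, f4, hφ]

end Inv

section Main

variable [IsAlgClosed k] [CharZero k] {G X : Over (Spec (CommRingCat.of k))} [GrpObj G]
  {a : AlgGrp.Action G X} (B : GLinSh.LinBun G a)
  {C : Type u} [CommRing C] [HopfAlgebra k C] [Algebra.FiniteType k C] [_root_.IsReduced C]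
  (e : CoactBr.sp k C ≅ G) [IsMonHom e.hom]

omit [_root_.IsReduced C] in
/-- In an affine invariant open `X_F` the point is stable. -/
theorem stable_in_chart [IsProper X.hom] (hlr : HopfRep.IsLinearlyReductive k C)
    {x : 𝟙_ (Over 𝕊) ⟶ X}
    (H : ∀ (l : Red.Gm 𝕊 ⟶ G) [IsMonHom l], l ≠ 1 → ∀ m : ℤ, IsMu B l x m → 0 < m)
    {n : ℕ} (hn : 1 ≤ n) {F : Γ(B.V.left, ⊤)} (hF : B.IsInvSection n F)
    (hxF : pt0 x ∈ GLinSh.nonvanishing B.π F) (U : X.left.Opens)
    (hU : (U : Set X.left) = GLinSh.nonvanishing B.π F)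
    [IsAffine (op X U).left] [LocallyOfFiniteType (op X U).hom] (Φ : AlgGrp.Action G (op X U))
    (hΦ : Φ.act ≫ inc X U = (G ◁ inc X U) ≫ a.act) (xU : 𝟙_ (Over 𝕊) ⟶ op X U)
    (hxU : xU ≫ inc X U = x) :
    letI := comod Φ e
    haveI := isCoactAlg Φ e
    GLin.IsStablePt k C (ptA xU) := by
  let := comod Φ e
  have := isCoactAlg Φ e
  have hft : Algebra.FiniteType k Γ((op X U).left, ⊤) := PsClosed.finiteType_Γ
  refine K687.isStablePt_of_dvr (ptA xU) ?_
  intro O _ _ _ _ g h hgh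
  obtain ⟨lam, y, hy, -, htriv⟩ := K687.hm_dvr (O := O) (K := FractionRing O) hlr ⊥
    (isStable_of_isSubcomod ⊥ (by
      rw [Submodule.restrictScalars_bot]
      exact Groth.Agent.Books.ComodBasic.isSubcomod_bot)) (ptA xU) g h hgh (by
      intro f hf
      rw [Ideal.mem_bot.1 hf, map_zero]
      exact zero_mem _)
  refine htriv ?_
  obtain ⟨yU, rfl⟩ := exists_ptA y
  have hsepU : IsSeparated (op X U).hom := inferInstance
  have hlim := isLimitPt_map (inc X U) hΦ (isLimitPt_of_isLimit Φ e lam xU yU hy)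
  rw [hxU] at hlim
  obtain ⟨w, hw⟩ := WtExist.exists_weight B (lamS e lam) _ (isFixedBy_of_isLimitPt hlim)
  have hyF : pt0 (yU ≫ inc X U) ∈ GLinSh.nonvanishing B.π F := by
    rw [← hU]
    exact (yU.left (⊥ : PrimeSpectrum k)).2
  have h1 := (SsNec.weight_le hlim hw hF hxF).2.2 hyF
  have hw0 : w = 0 := by
    rcases mul_eq_zero.1 h1 with h2 | h2
    · omega
    · exact h2
  rw [← lamS_eq_one_iff e lam]
  by_contra hne
  have h2 := H (lamS e lam) hne (-w) ⟨_, hlim, by rw [neg_neg]; exact hw⟩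
  omega

include e in
/-- The numerical criterion for proper stability: construction of a section. -/
theorem isProperlyStablePt_of_forall [IsProper X.hom] (hB : AmpleCover B)
    (hLR : K686.RedQuot.RedLR k) (hG : Red.IsReductive G)
    (hlr : HopfRep.IsLinearlyReductive k C) (x : 𝟙_ (Over 𝕊) ⟶ X)
    (H : ∀ (l : Red.Gm 𝕊 ⟶ G) [IsMonHom l], l ≠ 1 → ∀ m : ℤ, IsMu B l x m → 0 < m) :
    B.IsProperlyStablePt (pt0 x) := by
  classical
  have hXc : CompactSpace X.left := QuasiCompact.compactSpace_of_compactSpace X.hom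
  have hXs : QuasiSeparatedSpace X.left := quasiSeparatedSpace_of_quasiSeparated X.hom
  have hVc := compactSpace_V B
  have hVq := quasiSeparatedSpace_V B
  have hGaff : IsAffine G.left := by
    have hh : IsIso e.hom.left := inferInstance
    have : IsAffine (CoactBr.sp k C).left := inferInstanceAs (IsAffine (Spec (CommRingCat.of C)))
    exact IsAffine.of_isIso (inv e.hom.left)
  have hGft : LocallyOfFiniteType G.hom := by
    have : Smooth G.hom := hG.2.1
    infer_instance
  have hGqc : QuasiCompact G.hom := inferInstance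
  have hGVc : CompactSpace (G ⊗ B.V).left := by
    have : QuasiCompact (snd G B.V).left :=
      inferInstanceAs (QuasiCompact (Limits.pullback.snd G.hom B.V.hom))
    exact QuasiCompact.compactSpace_of_compactSpace (snd G B.V).left
  -- semistability
  obtain ⟨n, F, hn, hF, hxF, U, hU, hUa⟩ := isSemistablePt_of_forall B e hB hlr x
    (fun l _ m hm => by
      by_cases hl : l = 1
      · exact (eq_zero_of_isMu_one B l hl hm).ge
      · exact (H l hl m hm).le)
  have hinvF := K689.LinBunBasic.nonvanishing_invariant hF.2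
  -- the action on the affine open `U`
  have hrU : ∀ (W : X.left.Opens), Set.range (inc X W).left = (W : Set X.left) := fun W =>
    Scheme.Opens.range_ι _
  have hUaff : IsAffine (op X U).left := hUa
  have hUft : LocallyOfFiniteType (op X U).hom :=
    inferInstanceAs (LocallyOfFiniteType (U.ι ≫ X.hom))
  obtain ⟨Φ, hΦ⟩ := exists_restrict a (inc X U) (by
    intro z hz
    rw [hrU, hU] at hz ⊢
    exact (hinvF z).2 hz)
  have hxrange : ∀ (W : X.left.Opens), pt0 x ∈ (W : Set X.left) →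
      Set.range x.left ⊆ Set.range (inc X W).left := by
    intro W hW
    rw [hrU]
    rintro _ ⟨s, rfl⟩
    have : s = (⊥ : PrimeSpectrum k) := eq_bot_pt s
    rw [this]; exact hW
  obtain ⟨xU, hxU⟩ := exists_lift_open (inc X U) x (hxrange U (by rw [hU]; exact hxF))
  let := comod Φ e
  have := isCoactAlg Φ e
  have hft : Algebra.FiniteType k Γ((op X U).left, ⊤) := PsClosed.finiteType_Γ
  have hst := stable_in_chart B e hlr H hn hF hxF U hU Φ hΦ xU hxU
  rw [StablePt.isStablePt_iff] at hst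
  obtain ⟨Ss, hSs, hSs'⟩ := K701.Stab.exists_fixed_iff_stable (k := k) (A := C)
    (R := Γ((op X U).left, ⊤)) hlr
  obtain ⟨φ, hφS, hφx⟩ := (hSs' (ptA xU)).1 hst
  have hφfin : ∀ z : 𝟙_ (Over 𝕊) ⟶ op X U, ptA z φ ≠ 0 → Finite (Fix Φ z) := by
    intro z hz
    exact (finite_stab_iff Φ e z).1 ((hSs' (ptA z)).2 ⟨φ, hφS, hz⟩).2
  have hφinv : Φ.act.left.appTop φ = (snd G (op X U)).left.appTop φ := by
    have h1 : rho Φ e φ = φ ⊗ₜ[k] (1 : C) := hSs hφS
    rwa [rho_eq_iff] at h1
  -- the function on `U`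
  have hjle : (⊤ : (op X U).left.Opens) ≤ (inc X U).left ⁻¹ᵁ U := fun z _ => z.2
  let φ' : Γ(X.left, U) := U.topIso.hom φ
  have hφφ' : (inc X U).left.appLE U ⊤ hjle φ' = φ := by
    have h1 : U.ι.appLE U ⊤ hjle = U.topIso.inv := K689.CoordUP.ι_appLE_top U _
    have h2 : (inc X U).left.appLE U ⊤ hjle φ' = U.topIso.inv φ' :=
      congrArg (fun q => q.hom φ') h1
    rw [h2]
    exact congrArg (fun q => q.hom φ) U.topIso.hom_inv_id
  obtain ⟨m, F', hm, hF', hnv⟩ := Ext.exists_invariant_ext B hn hF hU φ'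
    (appLE_of_invariant hΦ φ φ' hφφ' hφinv)
  let U' : X.left.Opens := X.left.basicOpen φ'
  have hU'U : U' ≤ U := X.left.basicOpen_le φ'
  have hU'a : IsAffineOpen U' := hUa.basicOpen φ'
  have hbo : ∀ z : (op X U).left, (inc X U).left z ∈ U' ↔ z ∈ (op X U).left.basicOpen φ := by
    intro z
    have h1 := Scheme.basicOpen_appLE (inc X U).left ⊤ U hjle φ'
    rw [hφφ', top_inf_eq] at h1
    rw [h1]
    rfl
  have hxU' : pt0 x ∈ U' := by
    have h1 := (hbo (pt0 xU)).2 ((pt0_mem_basicOpen_iff xU φ).2 hφx)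
    have h2 : (inc X U).left (pt0 xU) = pt0 x := by
      rw [← hxU]; rfl
    rwa [h2] at h1
  have hinvF' := K689.LinBunBasic.nonvanishing_invariant hF'.2
  obtain ⟨Φ', hΦ'⟩ := exists_restrict a (inc X U') (by
    intro z hz
    rw [hrU, ← hnv] at hz ⊢
    exact (hinvF' z).2 hz)
  have hU'aff : IsAffine (op X U').left := hU'a
  have hU'ft : LocallyOfFiniteType (op X U').hom :=
    inferInstanceAs (LocallyOfFiniteType (U'.ι ≫ X.hom))
  have hfin' : ∀ z : 𝟙_ (Over 𝕊) ⟶ op X U', Finite (Fix Φ' z) := by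
    intro z
    rw [finite_fix_mono_iff (inc X U') hΦ' z]
    obtain ⟨zU, hzU⟩ := exists_lift_open (inc X U) (z ≫ inc X U') (by
      rw [hrU]
      rintro _ ⟨s, rfl⟩
      exact hU'U (z.left s).2)
    rw [← hzU, ← finite_fix_mono_iff (inc X U) hΦ zU]
    apply hφfin
    rw [← pt0_mem_basicOpen_iff, ← hbo]
    have h2 : (inc X U).left (pt0 zU) = (z ≫ inc X U').left (⊥ : PrimeSpectrum k) := by
      rw [← hzU]; rfl
    rw [h2]
    exact (z.left (⊥ : PrimeSpectrum k)).2
  have hclosed := PsClosed.isClosedAction_of_finite Φ' hLR hG hlr e hfin'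
  have hco := K689.Quot714.closedOrbitsOn_of_isClosedAction (inc X U') hΦ' U' (hrU U').ge hclosed
  refine ⟨⟨m, F', hm, hF', by rw [hnv]; exact hxU', U', hnv.symm, hU'a, hco⟩, ?_⟩
  -- finiteness of the stabilisers
  intro Ω _ _ T eT f hf
  rw [isFinite_stabTo_iff a f eT]
  have hxfin : Finite (Fix Φ xU) := hφfin xU hφx
  have hrf : ∀ t, f.left t = pt0 x := fun t => by
    have : f.left t ∈ ({pt0 x} : Set X.left) := hf ▸ ⟨t, rfl⟩
    exact this
  obtain ⟨fU, hfU⟩ := exists_lift_open (inc X U) f (by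
    rw [hrU, hU]
    rintro _ ⟨t, rfl⟩
    rw [hrf t]; exact hxF)
  have hdom : IsDomain Γ(T.left, ⊤) := by
    let E : Γ(T.left, ⊤) ≃+* Ω :=
      (((Scheme.Γ.mapIso eT.symm.op).trans
        (Scheme.ΓSpecIso (CommRingCat.of Ω))).commRingCatIsoToRingEquiv)
    exact E.toMulEquiv.isDomain Ω
  have hfU' : fU = toUnit T ≫ xU := by
    refine eq_of_range eT fU xU fun t => ?_
    apply (inc X U).left.isOpenEmbedding.injective
    have h1 : (inc X U).left (fU.left t) = f.left t := by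
      rw [← hfU]; rfl
    have h2 : (inc X U).left (pt0 xU) = pt0 x := by
      rw [← hxU]; rfl
    rw [h1, h2, hrf]
  rw [← hfU, ← finite_fix_mono_iff (inc X U) hΦ fU, hfU']
  exact finite_fix_of_finite Φ e xU hxfin T

end Main

end K691.PsMain

end
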