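import Groth.Agent.GIT.K691.Grade
import Groth.Agent.GIT.K691.LimExist
import Groth.Agent.GIT.K691.WtExist
import Groth.Agent.GLin.K765.Basic
import Groth.Agent.InvQ.K701.Basic
import Groth.Agent.GIT.K687.HM

/-!
# Semistable points: a section from the numerical criterion
-/

set_option autoImplicit false

universe u

open CategoryTheory CategoryTheory.Limits MonoidalCategory CartesianMonoidalCategory MonObj
  AlgebraicGeometry Opposite TopologicalSpace
open scoped TensorProduct

noncomputable section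

namespace K691.SsMain

open K951.Pts K951.Prd K691.GCoact K691.LamPS K691.TrWt K689.LinBunBasic K689.Weight K689.Avoid
  K689.Coord K689.SchGlue K691.GoodSub K691.Grade HMNum K691.Limit K691.Arc K691.MuKey
  K691.Fps

attribute [local instance] K951.Pts.algΓ

variable {k : Type u} [Field k]

local notation "𝕊" => Spec (CommRingCat.of k)

section Pt

variable {V : Over (Spec (CommRingCat.of k))}

theorem pt0_mem_basicOpen (v : 𝟙_ (Over (Spec (CommRingCat.of k))) ⟶ V) (f : Γ(V.left, ⊤))
    (h : ptA v f ≠ 0) : pt0 v ∈ V.left.basicOpen f := by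
  have h1 : IsUnit (pb v f) := by
    rw [κ_isUnit_iff]
    intro h0
    apply h
    rw [ptA_apply, h0, map_zero]
  have h2 : v.left ⁻¹ᵁ V.left.basicOpen f = ⊤ := by
    rw [Scheme.preimage_basicOpen_top]
    exact Scheme.basicOpen_of_isUnit _ h1
  exact (preimage_eq_top_iff v _).1 h2

theorem exists_gpt {C : Type u} [CommRing C] [HopfAlgebra k C]
    (p : 𝟙_ (Over (Spec (CommRingCat.of k))) ⟶ CoactBr.sp k C) : ∃ g : C →ₐ[k] k, gpt g = p := by
  refine ⟨κA.comp (fn p), ?_⟩
  apply fn_injective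
  rw [gpt, fn_ofFn]
  apply AlgHom.ext
  intro c
  rw [AlgHom.comp_apply, AlgHom.comp_apply, κA_apply]
  change algebraMap k Γ((𝟙_ (Over 𝕊)).left, ⊤) _ = _
  rw [algebraMap_unit, RingEquiv.apply_symm_apply]

variable {G : Over (Spec (CommRingCat.of k))} [GrpObj G] (Φ : AlgGrp.Action G V)
  {C : Type u} [CommRing C] [HopfAlgebra k C] (e : CoactBr.sp k C ≅ G) [IsMonHom e.hom]
  [CompactSpace V.left] [QuasiSeparatedSpace V.left]

/-- Translation of functions by points of the group and by points of the Hopf algebra. -/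
theorem tr_alg_eq (g : C →ₐ[k] k) (f : Γ(V.left, ⊤)) :
    letI := comod Φ e
    haveI := isCoactAlg Φ e
    K765.Tr.tr (A := C) Γ(V.left, ⊤) g f = (tr Φ (gpt g ≫ e.hom)⁻¹).left.appTop f := by
  let := comod Φ e
  have := isCoactAlg Φ e
  rw [K765.Tr.tr_apply]
  exact act_eq Φ e g f

theorem tr_fix_iff (f : Γ(V.left, ⊤)) :
    letI := comod Φ e
    haveI := isCoactAlg Φ e
    (∀ g : C →ₐ[k] k, K765.Tr.tr (A := C) Γ(V.left, ⊤) g f = f) ↔
      ∀ g : 𝟙_ (Over 𝕊) ⟶ G, (tr Φ g).left.appTop f = f := by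
  constructor
  · intro h g
    obtain ⟨g', hg'⟩ := exists_gpt (g⁻¹ ≫ e.inv)
    have h1 := h g'
    rw [tr_alg_eq, hg', Category.assoc, Iso.inv_hom_id, Category.comp_id, inv_inv] at h1
    exact h1
  · intro h g
    rw [tr_alg_eq]
    exact h _

include e in
theorem isInvFn_of_tr [IsAlgClosed k] [Algebra.FiniteType k C] [_root_.IsReduced C]
    (f : Γ(V.left, ⊤)) (h : ∀ g : 𝟙_ (Over 𝕊) ⟶ G, (tr Φ g).left.appTop f = f) :
    Φ.act.left.appTop f = (snd G V).left.appTop f := by
  let := comod Φ e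
  have := isCoactAlg Φ e
  rw [← rho_eq_iff Φ e]
  have h1 := K765.Tr.mem_invariants_of_tr (A := C) ((tr_fix_iff Φ e f).2 h)
  exact (GLin.mem_invariants_iff k C Γ(V.left, ⊤) f).1 h1

end Pt

section Top

variable {G X : Over (Spec (CommRingCat.of k))} [GrpObj G] {a : AlgGrp.Action G X}
  (B : GLinSh.LinBun G a)

include B in
theorem compactSpace_V [CompactSpace X.left] : CompactSpace B.V.left := by
  have haff := B.atlas.affine
  have : QuasiCompact B.π.left := inferInstance
  exact QuasiCompact.compactSpace_of_compactSpace B.π.left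

include B in
theorem quasiSeparatedSpace_V [QuasiSeparatedSpace X.left] : QuasiSeparatedSpace B.V.left := by
  have haff := B.atlas.affine
  have : QuasiSeparated B.π.left := inferInstance
  exact quasiSeparatedSpace_of_quasiSeparated B.π.left

end Top

section Main

variable [IsAlgClosed k] [CharZero k] {G X : Over (Spec (CommRingCat.of k))} [GrpObj G]
  {a : AlgGrp.Action G X} (B : GLinSh.LinBun G a)
  {C : Type u} [CommRing C] [HopfAlgebra k C] [Algebra.FiniteType k C] [_root_.IsReduced C]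
  (e : CoactBr.sp k C ≅ G) [IsMonHom e.hom]

omit [IsAlgClosed k] [CharZero k] [Algebra.FiniteType k C] [_root_.IsReduced C] in
theorem isStable_of_isSubcomod {R : Type u} [CommRing R] [Algebra k R] [HopfRep.Comod k C R]
    [GLin.IsCoactAlg k C R] (I : Ideal R)
    (hI : HopfRep.IsSubcomod (k := k) (A := C) (I.restrictScalars k)) :
    K687.IsStable (k := k) C I := by
  intro f hf
  obtain ⟨z, hz⟩ := hI f hf
  rw [← hz]
  clear hz
  induction z with
  | zero => rw [map_zero]; exact zero_mem _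
  | add s t hs ht => rw [map_add]; exact add_mem hs ht
  | tmul r c =>
    have h1 : (LinearMap.rTensor C (Submodule.subtype (I.restrictScalars k))) (r ⊗ₜ[k] c) =
        (1 ⊗ₜ[k] c : R ⊗[k] C) *
          (Algebra.TensorProduct.includeLeft : R →ₐ[k] R ⊗[k] C) (r : R) := by
      rw [LinearMap.rTensor_tmul, Algebra.TensorProduct.includeLeft_apply,
        Algebra.TensorProduct.tmul_mul_tmul, _root_.one_mul, _root_.mul_one]
      rfl
    rw [h1]
    exact Ideal.mul_mem_left _ _ (Ideal.mem_map_of_mem _ r.2)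

omit [CharZero k] [Algebra.FiniteType k C] [_root_.IsReduced C] in
/-- The weight along a one-parameter subgroup whose limit is in the null cone is positive. -/
theorem weight_pos [IsProper X.hom] [CompactSpace B.V.left] [QuasiSeparatedSpace B.V.left]
    (x : 𝟙_ (Over 𝕊) ⟶ X) {N : ℕ} (hN : N ≠ 0) {f : Γ(B.V.left, ⊤)}
    (hf : GLinSh.HasWeight B.atlas.chart N f) {v : 𝟙_ (Over 𝕊) ⟶ B.V} (hv : v ≫ B.π = x)
    (hnz : NZ B v) (lam : C →ₐc[k] LaurentPolynomial k) {y : 𝟙_ (Over 𝕊) ⟶ X}
    (hy : IsLimitPt a (lamS e lam) x y) {w : ℤ} (hw : HasFibreWeight B (lamS e lam) y w)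
    (hmem : pt0 y ∈ GLinSh.nonvanishing B.π f) (P : Polynomial k) :
    letI := comod B.lift e
    haveI := isCoactAlg B.lift e
    GLin.lamOrbit k C lam (ptA v) f = Polynomial.toLaurent P → P.eval 0 = 0 → 0 < w := by
  let := comod B.lift e
  have := isCoactAlg B.lift e
  intro hP hP0
  obtain ⟨F, hF⟩ := exists_isArc hy
  obtain ⟨D, hD, hD0⟩ := ord_section hF hw hv hnz hf
  have h1 := pb_lamS_act e lam B.lift (bG k) v f
  rw [hP, evG_bG] at h1
  have h2 : (γ (k := k) (L k)).symm (pb (vL B (lamS e lam) v) f) =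
      algebraMap (PowerSeries k) (L k) (P : PowerSeries k) := by
    rw [RingEquiv.symm_apply_eq]
    exact h1
  rw [h2] at hD
  have h3 : PowerSeries.constantCoeff (P : PowerSeries k) = 0 := by
    rw [← hP0, Polynomial.constantCoeff_coe, Polynomial.coeff_zero_eq_eval_zero]
  have h4 := pos_of_eq hD (hD0.2 hmem) h3
  have h5 : (0 : ℤ) < N := by exact_mod_cast Nat.pos_of_ne_zero hN
  exact pos_of_mul_pos_right h4 h5.le |> fun h => h

include e in
/-- The numerical criterion for semistability: construction of a section. -/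
theorem isSemistablePt_of_forall [IsProper X.hom] (hB : AmpleCover B)
    (hC : HopfRep.IsLinearlyReductive k C) (x : 𝟙_ (Over 𝕊) ⟶ X)
    (H : ∀ (l : Red.Gm 𝕊 ⟶ G) [IsMonHom l] (m : ℤ), IsMu B l x m → 0 ≤ m) :
    B.IsSemistablePt (pt0 x) := by
  have hXc : CompactSpace X.left := QuasiCompact.compactSpace_of_compactSpace X.hom
  have hXs : QuasiSeparatedSpace X.left := quasiSeparatedSpace_of_quasiSeparated X.hom
  have hVc := compactSpace_V B
  have hVq := quasiSeparatedSpace_V B
  let := comod B.lift e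
  have := isCoactAlg B.lift e
  obtain ⟨N, hN, T, hT, hcov⟩ := exists_common_weight hB
  obtain ⟨E, hEle, hEsub, hEfin, hTE⟩ := K765.Gens.exists_finite_subcomod_le (k := k) (A := C) T
    (goodSub B N hN) (isSubcomod_goodSub e N hN) hT
  let Rs : Subalgebra k Γ(B.V.left, ⊤) := Algebra.adjoin k (E : Set Γ(B.V.left, ⊤))
  have hErs : ∀ f ∈ E, f ∈ Rs := fun f hf => Algebra.subset_adjoin hf
  have hinj : Function.Injective Rs.val := Subtype.val_injective
  have hRs : HopfRep.IsSubcomod (k := k) (A := C) (LinearMap.range Rs.val.toLinearMap) := by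
    have h1 : LinearMap.range Rs.val.toLinearMap = Subalgebra.toSubmodule Rs := by
      ext f
      constructor
      · rintro ⟨r, rfl⟩
        exact r.2
      · intro hf
        exact ⟨⟨f, hf⟩, rfl⟩
    rw [h1]
    exact K765.SubAlg.isSubcomod_adjoin hEsub
  let := K765.SubAlg.comodInj Rs.val hinj hRs
  have := K765.SubAlg.isCoactAlg_inj Rs.val hinj hRs
  have hequiv : K765.Basic.IsEquiv C Rs.val := K765.SubAlg.isEquiv_inj Rs.val hinj hRs
  have hft : Algebra.FiniteType k Rs := by
    obtain ⟨s, hs⟩ := Module.Finite.iff_fg.1 hEfin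
    refine (Subalgebra.fg_iff_finiteType _).1 ⟨s, ?_⟩
    apply le_antisymm
    · refine Algebra.adjoin_le fun f hf => hErs f ?_
      rw [← hs]; exact Submodule.subset_span hf
    · refine Algebra.adjoin_le fun f hf => ?_
      have h1 : f ∈ Submodule.span k (s : Set Γ(B.V.left, ⊤)) := by rw [hs]; exact hf
      exact (Submodule.span_le (p := Subalgebra.toSubmodule
        (Algebra.adjoin k (s : Set Γ(B.V.left, ⊤))))).2 Algebra.subset_adjoin h1
  obtain ⟨v, hvx, hnz⟩ := exists_nz B x
  let x' : Rs →ₐ[k] k := (ptA v).comp Rs.val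
  let J : Ideal Rs := Ideal.span {r : Rs | (r : Γ(B.V.left, ⊤)) ∈ E}
  have hJ : HopfRep.IsSubcomod (k := k) (A := C) (J.restrictScalars k) := by
    refine K765.Tr.isSubcomod_ideal_of_tr J fun g f hf => ?_
    have h1 : J ≤ J.comap (K765.Tr.tr (A := C) Rs g) := by
      refine Ideal.span_le.2 fun r hr => ?_
      refine Ideal.subset_span ?_
      change Rs.val (K765.Tr.tr Rs g r) ∈ E
      rw [K765.Tr.map_tr hequiv]
      exact K765.Tr.tr_mem_of_isSubcomod hEsub g hr
    exact h1 hf
  by_cases htop : J ⊔ RingHom.ker (GLin.orbitHom k C x') = ⊤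
  · obtain ⟨f, hfix, hfJ, hf1⟩ := K701.Basic.exists_fixed_mem_of_sup_eq_top hC
      GLin.IsCoactAlg.coact_one J (RingHom.ker (GLin.orbitHom k C x')) hJ
      (K701.Orbit.isSubcomod_ker_orbitHom x') htop
    have hfx : x' f = 1 := by
      have h1 : x' (f - 1) = 0 := K701.Orbit.ker_orbitHom_le_ker x' hf1
      rw [map_sub, map_one, sub_eq_zero] at h1
      exact h1
    have hplus : (f : Γ(B.V.left, ⊤)) ∈ plusSub B N hN := by
      have h1 : ∀ r ∈ J, (r : Γ(B.V.left, ⊤)) ∈ plusSub B N hN := by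
        intro r hr
        refine Submodule.span_induction (p := fun (r : Rs) _ => (r : Γ(B.V.left, ⊤)) ∈ plusSub B N hN)
          ?_ ?_ ?_ ?_ hr
        · intro r hr
          exact goodSub_le_plusSub (hEle hr)
        · exact zero_mem _
        · intro r s _ _ hr hs
          exact add_mem hr hs
        · intro r s _ hs
          exact mul_mem_plusSub (fun f hf => hEle hf) r.2 hs
      exact h1 f hfJ
    have hinv : ∀ g : C →ₐ[k] k, K765.Tr.tr (A := C) Rs g f = f := by
      intro g
      exact K765.Tr.tr_of_mem_invariants hfix g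
    have hinv2 : ∀ g : 𝟙_ (Over 𝕊) ⟶ G, (tr B.lift g).left.appTop (f : Γ(B.V.left, ⊤)) = f := by
      refine (tr_fix_iff B.lift e _).1 fun g => ?_
      have h1 := K765.Tr.map_tr hequiv g f
      rw [hinv g] at h1
      exact h1.symm
    obtain ⟨n, hn, F', hF', hF'inv, hF'x⟩ := exists_component hplus hinv2 (ptA v)
      (by
        have : ptA v (f : Γ(B.V.left, ⊤)) = 1 := hfx
        rw [this]; exact one_ne_zero)
    obtain ⟨hwt, U, hU, hUa⟩ := hF'
    refine ⟨n, F', Nat.one_le_iff_ne_zero.2 hn, ⟨hwt, ?_⟩, ?_, U, hU, hUa⟩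
    · exact isInvFn_of_tr B.lift e F' hF'inv
    · refine ⟨pt0 v, pt0_mem_basicOpen v F' hF'x, ?_⟩
      rw [← hvx]
      rfl
  · obtain ⟨z, hz⟩ := K701.Basic.exists_point_of_ne_top k Rs _ htop
    obtain ⟨lam, y, ⟨h, hh, hy⟩, hyJ⟩ := K687.hm hC J (isStable_of_isSubcomod J hJ) x' z
      (fun f hf => hz f (Ideal.mem_sup_right hf)) (fun f hf => hz f (Ideal.mem_sup_left hf))
    obtain ⟨y₀, hy₀⟩ := LimExist.exists_isLimitPt a (lamS e lam) x
    obtain ⟨w, hw⟩ := WtExist.exists_weight B (lamS e lam) y₀ (isFixedBy_of_isLimitPt hy₀)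
    have hm : 0 ≤ -w := H (lamS e lam) (-w) ⟨y₀, hy₀, by rw [neg_neg]; exact hw⟩
    obtain ⟨f, hfT, hfy⟩ := hcov (pt0 y₀)
    have hfE := hTE f hfT
    let r : Rs := ⟨f, hErs f hfE⟩
    have hr : y r = 0 := hyJ r (Ideal.subset_span hfE)
    have h1 : (h r).eval 0 = 0 := by
      rw [← hy] at hr
      rw [AlgHom.comp_apply, Polynomial.aeval_def, Polynomial.eval₂_eq_eval_map] at hr
      simpa using hr
    have h2 : GLin.lamOrbit k C lam (ptA v) f = Polynomial.toLaurent (h r) := by
      have h3 := congr($hh r)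
      rw [AlgHom.comp_apply, Polynomial.toLaurentAlg_apply] at h3
      rw [h3]
      change lam (GLin.orbitHom k C (ptA v) f) = lam (GLin.orbitHom k C x' r)
      have h4 : GLin.orbitHom k C x' = (GLin.orbitHom k C (ptA v)).comp Rs.val :=
        K765.Basic.orbitHom_comp hequiv (ptA v)
      rw [h4]
      rfl
    have h5 := weight_pos B e x hN (hEle hfE).1 hvx hnz lam hy₀ hw hfy (h r) h2 h1
    omega

end Main

end K691.SsMain

end
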