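import Groth.Agent.InvQ.K701.Stab
import Mathlib.RingTheory.QuasiFinite.Basic
import Mathlib.Topology.JacobsonSpace
import Mathlib.RingTheory.Spectrum.Prime.Jacobson

/-!
# The scheme-theoretic and the pointwise conditions of stability agree

* `hasFiniteStab_iff`: the stabiliser ideal has finite colength iff the stabiliser has finitely many
  points;
* `isClosedOrbit_iff`: the image of the orbit morphism is closed iff every rational point of the
  orbit closure is in the orbit;
* `isStablePt_iff`.
-/

set_option autoImplicit false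

universe u v w

open TensorProduct HopfRep

namespace K691.StablePt

open GLin K701.Basic K701.Orbit K701.Orbit2 K701.Orbit3 K701.Dim

section

variable {k : Type u} [Field k] [IsAlgClosed k]

/-- An algebra of finite type over an algebraically closed field with finitely many points is
finite. -/
theorem finite_of_points {F : Type v} [CommRing F] [Algebra k F] [Algebra.FiniteType k F]
    (h : (Set.univ : Set (F →ₐ[k] k)).Finite) : Module.Finite k F := by
  classical
  have hpt : ∀ p : PrimeSpectrum F, ∃ g : F →ₐ[k] k, p.asIdeal = RingHom.ker g := by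
    intro p
    by_contra hcon
    push Not at hcon
    have h1 : ∀ g : F →ₐ[k] k, ∃ f : F, g f = 0 ∧ f ∉ p.asIdeal := by
      intro g
      by_contra h2
      push Not at h2
      exact hcon g ((isMaximal_ker g).eq_of_le p.2.ne_top h2).symm
    choose f hf0 hf1 using h1
    have h3 : ∏ g ∈ h.toFinset, f g ∈ p.asIdeal.radical := by
      refine mem_radical_of_forall_point (k := k) _ _ fun x _ => ?_
      rw [map_prod]
      exact Finset.prod_eq_zero (h.mem_toFinset.2 (Set.mem_univ x)) (hf0 x)
    rw [p.2.radical] at h3
    obtain ⟨g, -, hg⟩ := (Ideal.IsPrime.prod_mem_iff (hp := p.2)).1 h3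
    exact hf1 g hg
  have hfin : Finite (PrimeSpectrum F) := by
    have : Finite (F →ₐ[k] k) := Set.finite_univ_iff.1 h
    refine Finite.of_surjective (fun g : F →ₐ[k] k =>
      (⟨RingHom.ker g, inferInstance⟩ : PrimeSpectrum F)) fun p => ?_
    obtain ⟨g, hg⟩ := hpt p
    exact ⟨g, PrimeSpectrum.ext hg.symm⟩
  have : Algebra.QuasiFinite k F :=
    Algebra.QuasiFinite.iff_finite_comap_preimage_singleton.2 fun _ => Set.toFinite _
  exact Module.Finite.of_quasiFinite

omit [IsAlgClosed k] in
theorem finite_points_of_finite {F : Type v} [CommRing F] [Algebra k F] [Module.Finite k F] :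
    (Set.univ : Set (F →ₐ[k] k)).Finite := by
  have hA : IsArtinianRing F := isArtinian_of_tower k inferInstance
  have : Finite (F →ₐ[k] k) := by
    refine Finite.of_injective (fun g : F →ₐ[k] k =>
      (⟨RingHom.ker g, inferInstance⟩ : PrimeSpectrum F)) fun g g' hgg => ?_
    exact eq_of_ker_le (le_of_eq (congrArg PrimeSpectrum.asIdeal hgg))
  exact Set.toFinite _

variable {A : Type v} [CommRing A] [HopfAlgebra k A] [Algebra.FiniteType k A]
variable {R : Type w} [CommRing R] [Algebra k R] [Comod k A R] [IsCoactAlg k A R]

omit [IsAlgClosed k] [Algebra.FiniteType k A] in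
lemma stabIdeal_le_ker_iff (x : R →ₐ[k] k) (g : A →ₐ[k] k) :
    stabIdeal k A x ≤ RingHom.ker g ↔ actPt k g x = x := by
  rw [stabIdeal, Ideal.map_le_iff_le_comap]
  constructor
  · intro h
    refine (eq_of_ker_le ?_).symm
    intro f hf
    exact h hf
  · intro h f hf
    rw [Ideal.mem_comap]
    change actPt k g x f = 0
    rw [h]
    exact hf

/-- The stabiliser ideal has finite colength iff the stabiliser has finitely many points. -/
theorem hasFiniteStab_iff (x : R →ₐ[k] k) :
    HasFiniteStab k A x ↔ {g : A →ₐ[k] k | actPt k g x = x}.Finite := by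
  have hft : Algebra.FiniteType k (A ⧸ stabIdeal k A x) := inferInstance
  constructor
  · intro h
    have : Module.Finite k (A ⧸ stabIdeal k A x) := h
    have h1 := finite_points_of_finite (k := k) (F := A ⧸ stabIdeal k A x)
    refine (h1.image fun g => g.comp (Ideal.Quotient.mkₐ k (stabIdeal k A x))).subset ?_
    intro g hg
    have h2 := (stabIdeal_le_ker_iff x g).2 hg
    refine ⟨Ideal.Quotient.liftₐ _ g (fun a ha => h2 ha), Set.mem_univ _, ?_⟩
    ext a
    rfl
  · intro h
    refine finite_of_points ?_
    refine Set.Finite.of_injOn (f := fun g => g.comp (Ideal.Quotient.mkₐ k (stabIdeal k A x)))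
      ?_ ?_ h
    · intro g _
      refine (stabIdeal_le_ker_iff x _).1 ?_
      intro a ha
      have h3 : Ideal.Quotient.mkₐ k (stabIdeal k A x) a = 0 := Ideal.Quotient.eq_zero_iff_mem.2 ha
      rw [RingHom.mem_ker, AlgHom.comp_apply, h3, map_zero]
    · intro g _ g' _ hgg
      ext a
      obtain ⟨a, rfl⟩ := Ideal.Quotient.mk_surjective a
      exact congrArg (fun φ => φ a) hgg

variable [Algebra.FiniteType k R]

/-- The image of the orbit morphism is closed iff every rational point of the orbit closure is in
the orbit. -/
theorem isClosedOrbit_iff (x : R →ₐ[k] k) :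
    IsClosedOrbit k A x ↔ ClosedOrb A x := by
  have hNA : IsNoetherianRing A := Algebra.FiniteType.isNoetherianRing k A
  have hNR : IsNoetherianRing R := Algebra.FiniteType.isNoetherianRing k R
  have hcl : closure (Set.range (PrimeSpectrum.comap (orbitHom k A x).toRingHom)) =
      PrimeSpectrum.zeroLocus (RingHom.ker (orbitHom k A x).toRingHom : Set R) :=
    PrimeSpectrum.closure_range_comap _
  constructor
  · intro h z hz
    rw [IsClosedOrbit, ← closure_eq_iff_isClosed, hcl] at h
    have h1 : (⟨RingHom.ker z, inferInstance⟩ : PrimeSpectrum R) ∈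
        Set.range (PrimeSpectrum.comap (orbitHom k A x).toRingHom) := by
      rw [← h]
      exact fun f hf => hz f hf
    obtain ⟨q, hq⟩ := h1
    obtain ⟨g, hg⟩ := exists_point_of_ne_top k A q.asIdeal q.2.ne_top
    refine ⟨g, eq_of_ker_le fun f hf => ?_⟩
    refine hg _ ?_
    have h2 : f ∈ (PrimeSpectrum.comap (orbitHom k A x).toRingHom q).asIdeal := by
      rw [hq]
      exact hf
    exact h2
  · intro h
    rw [IsClosedOrbit, ← closure_eq_iff_isClosed]
    refine Set.Subset.antisymm ?_ subset_closure
    have hft : (orbitHom k A x).toRingHom.FiniteType := by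
      have h1 : ((orbitHom k A x).toRingHom.comp (algebraMap k R)).FiniteType := by
        have h2 : (orbitHom k A x).toRingHom.comp (algebraMap k R) = algebraMap k A :=
          (orbitHom k A x).comp_algebraMap
        rw [h2]
        exact (RingHom.finiteType_algebraMap).mpr inferInstance
      exact RingHom.FiniteType.of_comp_finiteType h1
    have hfp : (orbitHom k A x).toRingHom.FinitePresentation :=
      RingHom.FinitePresentation.of_finiteType.mp hft
    have hcon := PrimeSpectrum.isConstructible_range_comap hfp
    have hJ : IsJacobsonRing R := by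
      have := isJacobsonRing_of_finiteType (A := k) (B := R)
      exact this
    obtain ⟨S, hS⟩ := PrimeSpectrum.exists_constructibleSetData_iff.mpr hcon.compl
    intro p hp
    by_contra hpn
    have hpS : p ∈ S.toSet := by
      rw [hS]
      exact hpn
    simp only [PrimeSpectrum.ConstructibleSetData.toSet, Set.mem_iUnion] at hpS
    obtain ⟨C, hC, hgC, hfC⟩ := hpS
    rw [hcl] at hp
    -- a rational point of the closure in `C`
    obtain ⟨z, hz, hzf⟩ : ∃ z : R →ₐ[k] k, (∀ f ∈ p.asIdeal, z f = 0) ∧ z C.f ≠ 0 := by
      by_contra hcon'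
      push Not at hcon'
      have h3 := mem_radical_of_forall_point (k := k) p.asIdeal C.f hcon'
      rw [p.2.radical] at h3
      apply hfC
      rw [PrimeSpectrum.mem_zeroLocus, Set.singleton_subset_iff]
      exact h3
    obtain ⟨g, hg⟩ := h z fun f hf => hz f (hp hf)
    have h4 : (⟨RingHom.ker z, inferInstance⟩ : PrimeSpectrum R) ∈ S.toSet := by
      simp only [PrimeSpectrum.ConstructibleSetData.toSet, Set.mem_iUnion]
      refine ⟨C, hC, ?_, ?_⟩
      · rw [PrimeSpectrum.mem_zeroLocus]
        rintro _ ⟨i, rfl⟩
        exact hz _ (hgC ⟨i, rfl⟩)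
      · rw [PrimeSpectrum.mem_zeroLocus, Set.singleton_subset_iff]
        exact hzf
    rw [hS] at h4
    apply h4
    refine ⟨⟨RingHom.ker g, inferInstance⟩, ?_⟩
    apply PrimeSpectrum.ext
    rw [hg]
    rfl

/-- Stability in terms of points. -/
theorem isStablePt_iff (x : R →ₐ[k] k) :
    IsStablePt k A x ↔ (ClosedOrb A x ∧ {g : A →ₐ[k] k | actPt k g x = x}.Finite) := by
  rw [IsStablePt, isClosedOrbit_iff, hasFiniteStab_iff]

end

end K691.StablePt
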