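import Groth.Agent.GIT.K691.LamPS
import Groth.Agent.GIT.K691.GoodSub
import Groth.Agent.GIT.K691.SsMain
import Groth.Agent.GIT.K691.StablePt
import Groth.Agent.GIT.K691.LimExist
import Groth.Agent.NRGIT.K850.StabFin

/-!
# Points of an affine scheme with an action and points of its algebra of functions

`V` affine over a field `k` with an action `Φ` of `G = Spec C`:

* `exists_mor`, `hom_ext_pb`, `exists_ptA`, `ptA_injective`: points of `V` and of `Γ(V)`;
* `actPt_ptA`: the actions on points;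
* `finite_stab_iff`: finiteness of the stabiliser of a rational point;
* `finite_fix_of_finite`: finiteness for the constant points with values in a domain;
* `isLimitPt_of_isLimit`: limits;
* `eq_of_range`: a point concentrated at a rational point is constant.
-/

set_option autoImplicit false

universe u

open CategoryTheory CategoryTheory.Limits MonoidalCategory CartesianMonoidalCategory MonObj
  AlgebraicGeometry Opposite TopologicalSpace
open scoped TensorProduct

noncomputable section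

namespace K691.PsPt

open K951.Pts K951.Prd K691.GCoact K691.LamPS K691.TrWt K691.GoodSub HMNum K691.Limit K691.Arc
  K691.MuKey K691.SsMain K691.LimExist

attribute [local instance] K951.Pts.algΓ

variable {k : Type u} [Field k]

local notation "𝕊" => Spec (CommRingCat.of k)

section Aff

variable {V : Over (Spec (CommRingCat.of k))} [IsAffine V.left]

/-- Morphisms to an affine scheme are determined by the pull-back of functions. -/
theorem hom_ext_pb {W : Over 𝕊} {f g : W ⟶ V} (h : ∀ s : Γ(V.left, ⊤), pb f s = pb g s) : f = g := by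
  ext1
  apply ext_of_isAffine
  ext s
  exact h s

omit [IsAffine V.left] in
theorem appTop_toS {W : Scheme.{u}} {B : Type u} [CommRing B] (φ : B →+* Γ(W, ⊤)) (b : B) :
    (toS φ).appTop.hom ((Scheme.ΓSpecIso (CommRingCat.of B)).inv.hom b) = φ b :=
  congr($(fnS_toS φ) b)

/-- Maps of algebras of functions give morphisms to an affine scheme. -/
theorem exists_mor {W : Over 𝕊} (ψ : Γ(V.left, ⊤) →ₐ[k] Γ(W.left, ⊤)) :
    ∃ f : W ⟶ V, ∀ s, pb f s = ψ s := by
  let f₀ : W.left ⟶ V.left := toS ψ.toRingHom ≫ V.left.isoSpec.inv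
  have hf₀ : ∀ s, f₀.appTop.hom s = ψ s := by
    intro s
    have h1 : f₀ ≫ V.left.isoSpec.hom = toS ψ.toRingHom := by
      rw [Category.assoc, Iso.inv_hom_id, Category.comp_id]
    have h2 : V.left.isoSpec.hom.appTop.hom
        ((Scheme.ΓSpecIso Γ(V.left, ⊤)).inv.hom s) = s := by
      have h3 := Scheme.toSpecΓ_appTop V.left
      have h4 : V.left.isoSpec.hom.appTop = (Scheme.ΓSpecIso Γ(V.left, ⊤)).hom := by
        rw [← h3]; rfl
      rw [h4]
      exact congrArg (fun q => q.hom s) (Scheme.ΓSpecIso Γ(V.left, ⊤)).inv_hom_id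
    have h5 := appTop_toS ψ.toRingHom s
    rw [← h1, Scheme.Hom.comp_appTop] at h5
    have h6 : f₀.appTop.hom (V.left.isoSpec.hom.appTop.hom
        ((Scheme.ΓSpecIso Γ(V.left, ⊤)).inv.hom s)) = ψ s := h5
    rw [h2] at h6
    exact h6
  refine ⟨Over.homMk f₀ ?_, hf₀⟩
  apply ext_of_isAffine
  ext c
  rw [Scheme.Hom.comp_appTop]
  -- every function on the base is a constant
  obtain ⟨c, rfl⟩ : ∃ c₀ : k, c = (Scheme.ΓSpecIso (CommRingCat.of k)).inv.hom c₀ :=
    ⟨(Scheme.ΓSpecIso (CommRingCat.of k)).hom.hom c,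
      (congrArg (fun q => q.hom c) (Scheme.ΓSpecIso (CommRingCat.of k)).hom_inv_id).symm⟩
  change f₀.appTop.hom (algebraMap k Γ(V.left, ⊤) c) = algebraMap k Γ(W.left, ⊤) c
  rw [hf₀, AlgHom.commutes]

theorem exists_ptA (ψ : Γ(V.left, ⊤) →ₐ[k] k) : ∃ x : 𝟙_ (Over 𝕊) ⟶ V, ptA x = ψ := by
  obtain ⟨x, hx⟩ := exists_mor (W := 𝟙_ (Over 𝕊)) ((Algebra.ofId k _).comp ψ)
  refine ⟨x, AlgHom.ext fun s => ?_⟩
  rw [ptA_apply, hx, AlgHom.comp_apply]
  change (κ k).symm (algebraMap k _ (ψ s)) = ψ s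
  rw [algebraMap_unit, RingEquiv.symm_apply_apply]

theorem ptA_injective : Function.Injective (ptA : (𝟙_ (Over 𝕊) ⟶ V) → Γ(V.left, ⊤) →ₐ[k] k) := by
  intro x y h
  apply hom_ext_pb
  intro s
  have := congr($h s)
  rw [ptA_apply, ptA_apply] at this
  exact (κ k).symm.injective this

/-- A point of `V` with values in the spectrum of a field concentrated at a rational point is
constant. -/
theorem eq_of_range {T : Over 𝕊} {Ω : Type u} [Field Ω] (eT : T.left ≅ Spec (CommRingCat.of Ω))
    (f : T ⟶ V) (x : 𝟙_ (Over 𝕊) ⟶ V) (h : ∀ t, f.left t = pt0 x) : f = toUnit T ≫ x := by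
  apply hom_ext_pb
  intro s
  rw [pb_toUnit_comp]
  have hfield : ∀ r : Γ(T.left, ⊤), T.left.basicOpen r = ⊥ → r = 0 := by
    intro r hr
    by_contra hne
    have h1 : IsUnit r := by
      let E : Γ(T.left, ⊤) ≃+* Ω :=
        (((Scheme.Γ.mapIso eT.symm.op).trans (Scheme.ΓSpecIso (CommRingCat.of Ω))).commRingCatIsoToRingEquiv)
      rw [← MulEquiv.isUnit_map E, isUnit_iff_ne_zero]
      intro h0
      exact hne ((map_eq_zero_iff _ E.injective).1 h0)
    rw [Scheme.basicOpen_of_isUnit _ h1] at hr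
    have : Nonempty T.left := ⟨eT.inv (IsLocalRing.closedPoint Ω)⟩
    obtain ⟨t⟩ := this
    have h2 : t ∈ (⊤ : T.left.Opens) := trivial
    rw [hr] at h2
    exact h2
  rw [← sub_eq_zero]
  have h1 : pb f s - algebraMap k _ (ptA x s) = pb f (s - algebraMap k _ (ptA x s)) := by
    rw [map_sub]
    congr 1
    exact ((pbA f).commutes _).symm
  rw [h1]
  apply hfield
  have h2 : T.left.basicOpen (pb f (s - algebraMap k _ (ptA x s))) =
      f.left ⁻¹ᵁ V.left.basicOpen (s - algebraMap k _ (ptA x s)) :=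
    (Scheme.preimage_basicOpen_top f.left _).symm
  rw [h2, eq_bot_iff]
  intro t ht
  have h3 : f.left t ∈ V.left.basicOpen (s - algebraMap k _ (ptA x s)) := ht
  rw [h t] at h3
  have h4 := (preimage_eq_top_iff x _).2 h3
  rw [Scheme.preimage_basicOpen_top] at h4
  have h5 : x.left.appTop (s - algebraMap k _ (ptA x s)) = 0 := by
    change pb x (s - algebraMap k _ (ptA x s)) = 0
    have h6 : ptA x (s - algebraMap k _ (ptA x s)) = 0 := by
      rw [map_sub, AlgHom.commutes, Algebra.algebraMap_self_apply, sub_self]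
    rw [ptA_apply] at h6
    exact (map_eq_zero_iff _ (κ k).symm.injective).1 h6
  rw [h5, Scheme.basicOpen_zero] at h4
  have h7 : (⊥ : PrimeSpectrum k) ∈ (⊥ : (𝟙_ (Over 𝕊)).left.Opens) := by
    rw [h4]; trivial
  exact h7.elim

end Aff

section Act

variable {G V : Over (Spec (CommRingCat.of k))} [GrpObj G] (Φ : AlgGrp.Action G V)
  {C : Type u} [CommRing C] [HopfAlgebra k C] (e : CoactBr.sp k C ≅ G) [IsMonHom e.hom]
  [CompactSpace V.left] [QuasiSeparatedSpace V.left]

/-- The actions on rational points. -/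
theorem actPt_ptA (g : C →ₐ[k] k) (x : 𝟙_ (Over 𝕊) ⟶ V) :
    letI := comod Φ e
    haveI := isCoactAlg Φ e
    GLin.actPt k g (ptA x) = ptA (lift (gpt g ≫ e.hom)⁻¹ x ≫ Φ.act) := by
  let := comod Φ e
  have := isCoactAlg Φ e
  apply AlgHom.ext
  intro f
  have h1 := fn_orbitHom Φ e x (gpt g) f
  rw [lift_ract, toUnit_unique (toUnit (𝟙_ (Over 𝕊))) (𝟙 _), Category.id_comp] at h1
  have h2 : ∀ c : C, fn (gpt g) c = κ k (g c) := by
    intro c
    rw [gpt, fn_ofFn, AlgHom.comp_apply]
    exact algebraMap_unit _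
  rw [h2] at h1
  rw [ptA_apply, ← h1, RingEquiv.symm_apply_apply]
  rfl

theorem gpt_injective {g g' : C →ₐ[k] k} (h : gpt g = gpt g') : g = g' := by
  apply AlgHom.ext
  intro c
  have h1 : ∀ g : C →ₐ[k] k, fn (gpt g) c = κ k (g c) := by
    intro g
    rw [gpt, fn_ofFn, AlgHom.comp_apply]
    exact algebraMap_unit _
  apply (κ k).injective
  rw [← h1, h, h1]

/-- The stabiliser of a rational point, on points. -/
theorem finite_stab_iff [IsAffine V.left] (x : 𝟙_ (Over 𝕊) ⟶ V) :
    letI := comod Φ e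
    haveI := isCoactAlg Φ e
    {g : C →ₐ[k] k | GLin.actPt k g (ptA x) = ptA x}.Finite ↔
      Finite (K850.StabFin.Fix Φ x) := by
  let := comod Φ e
  have := isCoactAlg Φ e
  have hmem : ∀ g : C →ₐ[k] k, GLin.actPt k g (ptA x) = ptA x ↔
      lift (gpt g ≫ e.hom)⁻¹ x ≫ Φ.act = x := by
    intro g
    rw [actPt_ptA]
    exact ptA_injective.eq_iff
  let E : {g : C →ₐ[k] k | GLin.actPt k g (ptA x) = ptA x} ≃ K850.StabFin.Fix Φ x :=
    Equiv.ofBijective (fun g => ⟨(gpt g.1 ≫ e.hom)⁻¹, (hmem g.1).1 g.2⟩) (by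
      constructor
      · intro g g' h
        apply Subtype.ext
        have h1 := congrArg Subtype.val h
        have h2 : gpt g.1 ≫ e.hom = gpt g'.1 ≫ e.hom := inv_injective h1
        exact gpt_injective (by rwa [cancel_mono] at h2)
      · rintro ⟨g, hg⟩
        obtain ⟨g', hg'⟩ := exists_gpt (g⁻¹ ≫ e.inv)
        have h1 : (gpt g' ≫ e.hom)⁻¹ = g := by
          rw [hg', Category.assoc, Iso.inv_hom_id, Category.comp_id, inv_inv]
        exact ⟨⟨g', (hmem g').2 (by rw [h1]; exact hg)⟩, Subtype.ext h1⟩)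
  exact ⟨fun h => @Finite.of_equiv _ _ h E, fun h => @Finite.of_equiv _ _ h E.symm⟩

end Act

section Fin

/-- Homomorphisms from a finite algebra over an algebraically closed field to a domain. -/
theorem finite_algHom [IsAlgClosed k] {F : Type*} [CommRing F] [Algebra k F] [Module.Finite k F]
    {D : Type*} [CommRing D] [IsDomain D] [Algebra k D] : Finite (F →ₐ[k] D) := by
  have hA : IsArtinianRing F := isArtinian_of_tower k inferInstance
  refine Finite.of_injective (fun ψ : F →ₐ[k] D =>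
    (⟨RingHom.ker ψ, RingHom.ker_isPrime ψ⟩ : PrimeSpectrum F)) fun ψ ψ' h => ?_
  have hker : RingHom.ker ψ = RingHom.ker ψ' := congrArg PrimeSpectrum.asIdeal h
  apply AlgHom.ext
  intro c
  have hint : IsIntegral k (ψ c) := (Algebra.IsIntegral.isIntegral (R := k) c).map ψ
  have hbij : Function.Bijective (algebraMap k (integralClosure k D)) :=
    IsAlgClosed.algebraMap_bijective_of_isIntegral
  obtain ⟨a, ha⟩ := hbij.2 ⟨ψ c, hint⟩
  have ha' : algebraMap k D a = ψ c := congrArg Subtype.val ha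
  have h1 : c - algebraMap k F a ∈ RingHom.ker ψ := by
    rw [RingHom.mem_ker, map_sub, AlgHom.commutes, ha', sub_self]
  rw [hker, RingHom.mem_ker, map_sub, AlgHom.commutes, sub_eq_zero] at h1
  rw [h1, ha']

variable {G V : Over (Spec (CommRingCat.of k))} [GrpObj G] (Φ : AlgGrp.Action G V)
  {C : Type u} [CommRing C] [HopfAlgebra k C] [Algebra.FiniteType k C]
  (e : CoactBr.sp k C ≅ G) [IsMonHom e.hom]
  [CompactSpace V.left] [QuasiSeparatedSpace V.left]

include e in
/-- If the stabiliser of a rational point is finite, so is the set of points of the stabiliser with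
values in an affine scheme with integral ring of functions. -/
theorem finite_fix_of_finite [IsAlgClosed k] [IsAffine V.left] (x : 𝟙_ (Over 𝕊) ⟶ V)
    (hx : Finite (K850.StabFin.Fix Φ x)) (T : Over 𝕊) [IsDomain Γ(T.left, ⊤)] :
    Finite (K850.StabFin.Fix Φ (toUnit T ≫ x)) := by
  let := comod Φ e
  have := isCoactAlg Φ e
  have h1 := (StablePt.hasFiniteStab_iff (A := C) (ptA x)).2 ((finite_stab_iff Φ e x).2 hx)
  have h2 : Module.Finite k (C ⧸ GLin.stabIdeal k C (ptA x)) := h1
  have h3 : Finite ((C ⧸ GLin.stabIdeal k C (ptA x)) →ₐ[k] Γ(T.left, ⊤)) := finite_algHom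
  have hkill : ∀ g : K850.StabFin.Fix Φ (toUnit T ≫ x), ∀ c ∈ GLin.stabIdeal k C (ptA x),
      fn (g.1⁻¹ ≫ e.inv) c = 0 := by
    rintro ⟨g, hg⟩ c hc
    have h4 : GLin.stabIdeal k C (ptA x) ≤ RingHom.ker (fn (g⁻¹ ≫ e.inv)) := by
      rw [GLin.stabIdeal, Ideal.map_le_iff_le_comap]
      intro f hf
      rw [Ideal.mem_comap, RingHom.mem_ker]
      have h5 := fn_orbitHom Φ e x (g⁻¹ ≫ e.inv) f
      rw [lift_ract, Category.assoc, Iso.inv_hom_id, Category.comp_id, inv_inv, hg,
        pb_toUnit_comp] at h5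
      have h6 : ptA x f = 0 := hf
      rw [h6, map_zero] at h5
      exact h5
    exact h4 hc
  refine Finite.of_injective (fun g : K850.StabFin.Fix Φ (toUnit T ≫ x) =>
    Ideal.Quotient.liftₐ (GLin.stabIdeal k C (ptA x)) (fn (g.1⁻¹ ≫ e.inv)) (hkill g)) ?_
  intro g g' h
  apply Subtype.ext
  have h5 : fn (g.1⁻¹ ≫ e.inv) = fn (g'.1⁻¹ ≫ e.inv) := by
    apply AlgHom.ext
    intro c
    exact congr($h (Ideal.Quotient.mk _ c))
  have h6 := fn_injective h5
  rw [cancel_mono] at h6
  exact inv_injective h6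

end Fin

section Lim

variable {G V : Over (Spec (CommRingCat.of k))} [GrpObj G] (Φ : AlgGrp.Action G V)
  {C : Type u} [CommRing C] [HopfAlgebra k C]
  (e : CoactBr.sp k C ≅ G) [IsMonHom e.hom]
  [CompactSpace V.left] [QuasiSeparatedSpace V.left]

theorem evG_toLaurent {W : Over 𝕊} (g : W ⟶ Red.Gm 𝕊) (p : Polynomial k) :
    evG g (Polynomial.toLaurent p) = Polynomial.aeval (Red.gmFn g) p := by
  have h : (evG g).comp Polynomial.toLaurentAlg = Polynomial.aeval (Red.gmFn g) := by
    apply Polynomial.algHom_ext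
    rw [AlgHom.comp_apply, Polynomial.toLaurentAlg_apply, Polynomial.toLaurent_X, evG_T,
      chi_gm_one, Polynomial.aeval_X]
  exact congr($h p)

theorem co_zero {W : Over 𝕊} : co (toUnit W ≫ origin 𝕊) = 0 := by
  rw [origin_eq, co_a1]

/-- Limits in the algebra of functions are limits. -/
theorem isLimitPt_of_isLimit [IsAffine V.left] (lam : C →ₐc[k] LaurentPolynomial k)
    (x y : 𝟙_ (Over 𝕊) ⟶ V) :
    letI := comod Φ e
    haveI := isCoactAlg Φ e
    GLin.IsLimit k C lam (ptA x) (ptA y) → IsLimitPt Φ (lamS e lam) x y := by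
  let := comod Φ e
  have := isCoactAlg Φ e
  rintro ⟨h, hh, hy⟩
  have hsep : IsSeparated V.hom := inferInstance
  obtain ⟨F, hF⟩ := exists_mor (V := V) (W := A1 𝕊)
    ((Polynomial.aeval (co (𝟙 (A1 𝕊)))).comp h)
  have hFb : ∀ {W : Over 𝕊} (b : W ⟶ A1 𝕊) (s : Γ(V.left, ⊤)),
      pb (b ≫ F) s = Polynomial.aeval (co b) (h s) := by
    intro W b s
    rw [pb_comp_apply, hF, AlgHom.comp_apply]
    have h1 : (pbA b).comp (Polynomial.aeval (co (𝟙 (A1 𝕊)))) = Polynomial.aeval (co b) := by
      apply Polynomial.algHom_ext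
      rw [AlgHom.comp_apply, Polynomial.aeval_X, Polynomial.aeval_X, pbA_apply, ← co_comp,
        Category.comp_id]
    exact congr($h1 (h s))
  rw [isLimitPt_iff]
  refine ⟨fst _ _ ≫ F, ?_, ?_⟩
  · apply Magnet.hom_ext_lift₂
    intro W g t
    obtain rfl := toUnit_unique (toUnit W) t
    rw [lift_orb, ← Category.assoc, ← Category.assoc, lift_whiskerRight, lift_fst]
    apply hom_ext_pb
    intro s
    rw [hFb, co_incl, pb_lamS_act e lam Φ g x s]
    have h1 := congr($hh s)
    rw [AlgHom.comp_apply, Polynomial.toLaurentAlg_apply] at h1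
    rw [← h1, evG_toLaurent]
  · rw [← Category.assoc, lift_fst]
    apply hom_ext_pb
    intro s
    rw [hFb, co_zero]
    have h1 := congr($hy s)
    rw [AlgHom.comp_apply] at h1
    have h2 : pb y s = κ k (ptA y s) := by rw [ptA_apply, RingEquiv.apply_symm_apply]
    rw [h2, ← h1, ← algebraMap_unit]
    have h3 : ∀ p : Polynomial k, Polynomial.aeval (0 : Γ((𝟙_ (Over 𝕊)).left, ⊤)) p =
        algebraMap k _ (Polynomial.aeval (0 : k) p) := by
      intro p
      rw [Polynomial.aeval_def, Polynomial.eval₂_at_zero, Polynomial.aeval_def,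
        Polynomial.eval₂_at_zero]
      rfl
    exact h3 _

omit [CompactSpace V.left] [QuasiSeparatedSpace V.left] in
/-- Limits and equivariant morphisms. -/
theorem isLimitPt_map {X : Over 𝕊} [IsSeparated X.hom] [IsSeparated V.hom] {a : AlgGrp.Action G X}
    {Φ : AlgGrp.Action G V} (j : V ⟶ X) (hj : Φ.act ≫ j = (G ◁ j) ≫ a.act) {l : Red.Gm 𝕊 ⟶ G}
    [IsMonHom l] {x y : 𝟙_ (Over 𝕊) ⟶ V} (h : IsLimitPt Φ l x y) :
    IsLimitPt a l (x ≫ j) (y ≫ j) := by
  rw [isLimitPt_iff] at h ⊢
  obtain ⟨φ, h1, h2⟩ := h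
  refine ⟨φ ≫ j, ?_, ?_⟩
  · rw [← Category.assoc, h1]
    apply Magnet.hom_ext_lift₂
    intro W g t
    rw [← Category.assoc, lift_orb, lift_orb, Category.assoc, hj, ← Category.assoc,
      lift_whiskerLeft, Category.assoc]
  · rw [← Category.assoc, h2]

end Lim

end K691.PsPt

end
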