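import Groth.Agent.GIT.K689.Compat
import Groth.Agent.GIT.K691.Limit

/-!
# Translation of sections by rational points of the group

* `tr Φ g`: translation by a rational point; `trIso`.
* `hasWeight_tr`: translates of functions of weight `n` have weight `n`;
* `nonvanishing_tr`: `X_{g^* f} = g⁻¹ X_f`.
-/

set_option autoImplicit false

universe u

open CategoryTheory CategoryTheory.Limits MonoidalCategory CartesianMonoidalCategory MonObj
  AlgebraicGeometry Opposite TopologicalSpace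

noncomputable section

namespace K691.TrWt

open K691.Limit K689.SchGlue K689.Coord K689.Weight K689.LinBunBasic K689.PullBun K689.Compat

section Tr

variable {S : Scheme.{u}} {G X V : Over S} [GrpObj G]

/-- Translation by a section of the group. -/
def tr (Φ : AlgGrp.Action G V) (g : 𝟙_ (Over S) ⟶ G) : V ⟶ V :=
  lift (toUnit V ≫ g) (𝟙 V) ≫ Φ.act

theorem comp_tr (Φ : AlgGrp.Action G V) (g : 𝟙_ (Over S) ⟶ G) {T : Over S} (x : T ⟶ V) :
    x ≫ tr Φ g = lift (toUnit T ≫ g) x ≫ Φ.act := by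
  rw [tr, ← Category.assoc, comp_lift, Category.comp_id, ← Category.assoc,
    toUnit_unique (x ≫ toUnit V) (toUnit T)]

theorem tr_mul (Φ : AlgGrp.Action G V) (g h : 𝟙_ (Over S) ⟶ G) :
    tr Φ (g * h) = tr Φ h ≫ tr Φ g := by
  rw [comp_tr]
  nth_rewrite 2 [tr]
  rw [tr, MonObj.comp_mul, lift_mul_act]

theorem tr_one (Φ : AlgGrp.Action G V) : tr Φ (1 : 𝟙_ (Over S) ⟶ G) = 𝟙 V := by
  rw [tr, MonObj.comp_one, lift_one_act]

/-- Translations are isomorphisms. -/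
def trIso (Φ : AlgGrp.Action G V) (g : 𝟙_ (Over S) ⟶ G) : V ≅ V where
  hom := tr Φ g
  inv := tr Φ g⁻¹
  hom_inv_id := by rw [← tr_mul, inv_mul_cancel, tr_one]
  inv_hom_id := by rw [← tr_mul, mul_inv_cancel, tr_one]

theorem tr_comm {a : AlgGrp.Action G X} {Φ : AlgGrp.Action G V} {π : V ⟶ X}
    (hπ : Φ.act ≫ π = (G ◁ π) ≫ a.act) (g : 𝟙_ (Over S) ⟶ G) : tr Φ g ≫ π = π ≫ tr a g := by
  rw [comp_tr, tr, Category.assoc, hπ, ← Category.assoc, lift_whiskerLeft, Category.id_comp]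

end Tr

theorem id_appLE {T : Scheme.{u}} {O W : T.Opens} (h : W ≤ (𝟙 T : T ⟶ T) ⁻¹ᵁ O) (h' : W ≤ O)
    (y : Γ(T, O)) : (𝟙 T : T ⟶ T).appLE O W h y = T.presheaf.map (homOfLE h').op y := by
  have e : (𝟙 T : T ⟶ T).appLE O W h = T.presheaf.map (homOfLE h').op := by
    simp only [Scheme.Hom.appLE, Scheme.Hom.id_app]
    exact Category.id_comp _
  rw [e]

section Bun

variable {S : Scheme.{u}} {G X : Over S} [GrpObj G] {a : AlgGrp.Action G X}
  (B : GLinSh.LinBun G a) (g : 𝟙_ (Over S) ⟶ G)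

theorem tr_comm_left : (tr B.lift g).left ≫ B.π.left = B.π.left ≫ (tr a g).left :=
  congrArg Over.Hom.left (tr_comm B.lift_π g)

/-- In charts, translation is multiplication by a function from the base. -/
theorem exists_coef_tr {U U' W : X.left.Opens} {y : Γ(B.V.left, B.π.left ⁻¹ᵁ U)}
    {y' : Γ(B.V.left, B.π.left ⁻¹ᵁ U')} (hy : y ∈ B.atlas.chart U) (hy' : y' ∈ B.atlas.chart U')
    (hWU : W ≤ U) (hWU' : W ≤ (tr a g).left ⁻¹ᵁ U')
    (hle : B.π.left ⁻¹ᵁ W ≤ (tr B.lift g).left ⁻¹ᵁ (B.π.left ⁻¹ᵁ U')) :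
    ∃ c : Γ(X.left, W), (tr B.lift g).left.appLE (B.π.left ⁻¹ᵁ U') (B.π.left ⁻¹ᵁ W) hle y' =
      B.π.left.app W c * rs B.π.left hWU y := by
  obtain ⟨c, hc⟩ := B.lift_linear U U' y y' hy hy'
  let sV : B.V ⟶ G ⊗ B.V := lift (toUnit B.V ≫ g) (𝟙 B.V)
  let sX : X ⟶ G ⊗ X := lift (toUnit X ≫ g) (𝟙 X)
  have hs : sV ≫ (G ◁ B.π) = B.π ≫ sX := by
    rw [lift_whiskerLeft, comp_lift, Category.comp_id, Category.id_comp, ← Category.assoc,
      toUnit_unique (B.π ≫ toUnit X) (toUnit B.V)]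
  have hs' : sV.left ≫ (G ◁ B.π).left = B.π.left ≫ sX.left := congrArg Over.Hom.left hs
  have hX : W ≤ sX.left ⁻¹ᵁ (a.act.left ⁻¹ᵁ U' ⊓ (snd G X).left ⁻¹ᵁ U) := by
    have h0 : W ≤ sX.left ⁻¹ᵁ (a.act.left ⁻¹ᵁ U') ⊓ sX.left ⁻¹ᵁ ((snd G X).left ⁻¹ᵁ U) := by
      refine le_inf hWU' ?_
      have e : sX.left ⁻¹ᵁ ((snd G X).left ⁻¹ᵁ U) = (sX ≫ snd G X).left ⁻¹ᵁ U := rfl
      rw [e, lift_snd]
      exact hWU
    exact h0
  have hV : B.π.left ⁻¹ᵁ W ≤ sV.left ⁻¹ᵁ (GLinSh.liftOpen a B.π U U') := by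
    have e1 : sV.left ⁻¹ᵁ (GLinSh.liftOpen a B.π U U') = (sV.left ≫ (G ◁ B.π).left) ⁻¹ᵁ
      (a.act.left ⁻¹ᵁ U' ⊓ (snd G X).left ⁻¹ᵁ U) := rfl
    rw [e1, hs']
    intro z hz
    exact hX hz
  refine ⟨sX.left.appLE _ W hX c, ?_⟩
  have h1 := congrArg (sV.left.appLE (GLinSh.liftOpen a B.π U U') (B.π.left ⁻¹ᵁ W) hV) hc
  rw [map_mul] at h1
  rw [appLE_appLE sV.left B.lift.act.left _ hV hle, appLE_appLE sV.left (G ◁ B.π).left _ hV
    (by rw [hs']; intro z hz; exact hX hz), appLE_appLE sV.left (snd G B.V).left _ hV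
    (by
      have e : (sV.left ≫ (snd G B.V).left) = 𝟙 _ := congrArg Over.Hom.left (lift_snd _ _)
      rw [e]; exact B.π.left.preimage_mono hWU)] at h1
  refine h1.trans ?_
  congr 1
  · have hle2 : B.π.left ⁻¹ᵁ W ≤ (B.π.left ≫ sX.left) ⁻¹ᵁ
        (a.act.left ⁻¹ᵁ U' ⊓ (snd G X).left ⁻¹ᵁ U) := fun z hz => hX hz
    rw [appLE_hom_congr hs' _ hle2, ← appLE_appLE B.π.left sX.left hX le_rfl hle2,
      appLE_self_app]
  · have e : (sV.left ≫ (snd G B.V).left) = 𝟙 _ := congrArg Over.Hom.left (lift_snd _ _)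
    rw [appLE_hom_congr e _ (B.π.left.preimage_mono hWU)]
    exact id_appLE _ _ y

/-- Translates of functions of weight `n` have weight `n`. -/
theorem hasWeight_tr {n : ℕ} {f : Γ(B.V.left, ⊤)} (hf : GLinSh.HasWeight B.atlas.chart n f) :
    GLinSh.HasWeight B.atlas.chart n ((tr B.lift g).left.appTop f) := by
  have haff := B.atlas.affine
  have A := atl B.atlas
  have hc := (tr_comm_left B g).symm
  rw [hasWeight_iff] at hf ⊢
  apply Wt.of_local A
  intro x _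
  obtain ⟨U', hxU', y', hy'⟩ := A.cover ((tr a g).left x)
  obtain ⟨c', e'⟩ := hf U' le_top y' (adm_of_mem hy')
  obtain ⟨W, hW, y, -, hxW, hy⟩ := A.exists_adm (O := (tr a g).left ⁻¹ᵁ U') (x := x) hxU'
  obtain ⟨U, hWU, y₀, hy₀, rfl⟩ := hy
  have hle : B.π.left ⁻¹ᵁ W ≤ (tr B.lift g).left ⁻¹ᵁ (B.π.left ⁻¹ᵁ U') := by
    intro z hz
    exact sqle hc U' (hW hz)
  obtain ⟨c, e⟩ := exists_coef_tr B g hy₀ hy' hWU hW hle
  refine ⟨W, le_top, hxW, ?_⟩
  have h1 : rs B.π.left hW (rs B.π.left le_top (tt B.π.left ((tr B.lift g).left.appTop f))) =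
      rs B.π.left hW (B.π.left.app ((tr a g).left ⁻¹ᵁ U') ((tr a g).left.app U' c') *
        ((tr B.lift g).left.appLE (B.π.left ⁻¹ᵁ U') (B.π.left ⁻¹ᵁ ((tr a g).left ⁻¹ᵁ U'))
          (sqle hc U') y') ^ n) := congrArg _ (local_pull hc e')
  rw [rs_rs] at h1
  rw [h1, rs_mul, rs_app, rs_pow]
  have h2 : rs B.π.left hW ((tr B.lift g).left.appLE (B.π.left ⁻¹ᵁ U')
      (B.π.left ⁻¹ᵁ ((tr a g).left ⁻¹ᵁ U')) (sqle hc U') y') =
      (tr B.lift g).left.appLE (B.π.left ⁻¹ᵁ U') (B.π.left ⁻¹ᵁ W) hle y' :=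
    rsec_appLE _ (B.π.left.preimage_mono hW) _ _ y'
  rw [h2, e, mul_pow, ← map_pow, ← _root_.mul_assoc, ← map_mul]
  exact Wt.of_adm A ⟨U, hWU, y₀, hy₀, rfl⟩ _

/-- Translation of the loci `X_f`. -/
theorem nonvanishing_tr (f : Γ(B.V.left, ⊤)) :
    GLinSh.nonvanishing B.π ((tr B.lift g).left.appTop f) =
      (tr a g).left.base ⁻¹' GLinSh.nonvanishing B.π f := by
  have e0 : (tr B.lift g).left ⁻¹ᵁ B.V.left.basicOpen f =
      B.V.left.basicOpen ((tr B.lift g).left.appTop f) :=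
    Scheme.preimage_basicOpen_top (tr B.lift g).left f
  have hpt : ∀ v : B.V.left, B.π.left ((tr B.lift g).left v) = (tr a g).left (B.π.left v) := by
    intro v
    rw [← Scheme.Hom.comp_apply, ← Scheme.Hom.comp_apply, tr_comm_left]
  ext x
  constructor
  · rintro ⟨v, hv, rfl⟩
    have h1 : v ∈ (tr B.lift g).left ⁻¹ᵁ B.V.left.basicOpen f := by rw [e0]; exact hv
    exact ⟨(tr B.lift g).left v, h1, hpt v⟩
  · rintro ⟨v, hv, hvx⟩
    have h2 : (tr B.lift g).left ((tr B.lift g⁻¹).left v) = v := by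
      rw [← Scheme.Hom.comp_apply]
      have : (tr B.lift g⁻¹).left ≫ (tr B.lift g).left = 𝟙 _ :=
        congrArg Over.Hom.left (trIso B.lift g).inv_hom_id
      rw [this]; rfl
    have h3 : ∀ z : X.left, (tr a g⁻¹).left ((tr a g).left z) = z := by
      intro z
      rw [← Scheme.Hom.comp_apply]
      have : (tr a g).left ≫ (tr a g⁻¹).left = 𝟙 _ :=
        congrArg Over.Hom.left (trIso a g).hom_inv_id
      rw [this]; rfl
    refine ⟨(tr B.lift g⁻¹).left v, ?_, ?_⟩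
    · have : (tr B.lift g⁻¹).left v ∈ (tr B.lift g).left ⁻¹ᵁ B.V.left.basicOpen f := by
        change (tr B.lift g).left ((tr B.lift g⁻¹).left v) ∈ B.V.left.basicOpen f
        rw [h2]; exact hv
      rw [e0] at this
      exact this
    · have h4 : B.π.left ((tr B.lift g⁻¹).left v) = (tr a g⁻¹).left (B.π.left v) := by
        rw [← Scheme.Hom.comp_apply, ← Scheme.Hom.comp_apply, tr_comm_left]
      have hvx' : B.π.left v = (tr a g).left x := hvx
      change B.π.left ((tr B.lift g⁻¹).left v) = x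
      rw [h4, hvx', h3]

end Bun

end K691.TrWt

end
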